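import Mathlib
import Cfsg.Agent.CtRecT.TClos

set_option autoImplicit false

/-!
# S2114, Part II (kernel of order prime to `p`): abstract data of the `BN`-lifting for a dihedral Weyl group of order 16

Port of `CtRecT/TBN.lean` (S2110) with ABSTRACT rank-one data: `R1 G` = a positive root group `X`, the negative root group `Y`, a rank-one
torus `T`, and three `p`-elements `x₁ ∈ X`, `y₀ ∈ Y`, `x₂ ∈ X` with `n = x₁ y₀ x₂` the Weyl element.  `OctDat G` = `U`, the complements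
`Ua`, `Ub`, and two rank-one data; `H = T_a T_b`, `N = ⟨H, n_a, n_b⟩`, `w = n_b n_a n_b n_a n_b n_a n_b`.
Upstairs (unique `p`-lifts `L : PLift σ p` of `CtRecT/TPL.lean`): `Xt`, `Yt`, `Lt = ⟨Xt, Yt⟩`, `Tt = Lt ∩ σ⁻¹(T)`, `nt`, `Ut`, `Ht`, `Nt`.
-/

namespace Cfsg.Agent.F4M

open Cfsg.Agent.CtRecT

variable {G : Type*} [Group G]

/-- an abstract rank-one datum. -/
structure R1 (G : Type*) [Group G] where
  /-- the positive root group -/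
  X : Subgroup G
  /-- the negative root group -/
  Y : Subgroup G
  /-- the rank-one torus -/
  T : Subgroup G
  /-- `n = x₁ y₀ x₂` -/
  x₁ : G
  /-- `n = x₁ y₀ x₂` -/
  y₀ : G
  /-- `n = x₁ y₀ x₂` -/
  x₂ : G

namespace R1

/-- the Weyl element. -/
def n (R : R1 G) : G := R.x₁ * R.y₀ * R.x₂

/-- the rank-one group. -/
def L (R : R1 G) : Subgroup G := R.X ⊔ R.Y

/-- the axioms of a rank-one datum. -/
structure Ok (R : R1 G) : Prop where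
  hx₁ : R.x₁ ∈ R.X
  hy₀ : R.y₀ ∈ R.Y
  hx₂ : R.x₂ ∈ R.X
  conj_X : ∀ x ∈ R.X, R.n * x * R.n⁻¹ ∈ R.Y
  conj_Y : ∀ y ∈ R.Y, R.n * y * R.n⁻¹ ∈ R.X
  sq : R.n * R.n ∈ R.T
  T_le : R.T ≤ R.L
  n_T : ∀ t ∈ R.T, R.n * t * R.n⁻¹ ∈ R.T
  bruhat : ∀ x ∈ R.X, x ≠ 1 → ∃ x' ∈ R.X, ∃ t ∈ R.T, ∃ x'' ∈ R.X, R.n * x * R.n⁻¹ = x' * t * R.n * x''

variable {E : Type*} [Group E] {σ : E →* G} {p : ℕ}

/-- the lifted positive root group. -/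
def Xt (R : R1 G) (L : PLift σ p) : Subgroup E := Subgroup.closure (L.pl '' (R.X : Set G))

/-- the lifted negative root group. -/
def Yt (R : R1 G) (L : PLift σ p) : Subgroup E := Subgroup.closure (L.pl '' (R.Y : Set G))

/-- the lifted rank-one group. -/
def Lt (R : R1 G) (L : PLift σ p) : Subgroup E := R.Xt L ⊔ R.Yt L

/-- the lifted rank-one torus: the part of the lifted rank-one group above `T`. -/
def Tt (R : R1 G) (L : PLift σ p) : Subgroup E := R.Lt L ⊓ R.T.comap σ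

/-- the lifted Weyl element. -/
def nt (R : R1 G) (L : PLift σ p) : E := L.pl R.x₁ * L.pl R.y₀ * L.pl R.x₂

end R1

/-- the data of the `BN`-lifting argument. -/
structure OctDat (G : Type*) [Group G] where
  /-- the unipotent group -/
  U : Subgroup G
  /-- the complement of `X_a` in `U` -/
  Ua : Subgroup G
  /-- the complement of `X_b` in `U` -/
  Ub : Subgroup G
  /-- the rank-one datum of `a` -/
  Ra : R1 G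
  /-- the rank-one datum of `b` -/
  Rb : R1 G

namespace OctDat

/-- the torus `T_a T_b`. -/
def H (D : OctDat G) : Subgroup G := D.Ra.T ⊔ D.Rb.T

/-- the group `N`. -/
def N (D : OctDat G) : Subgroup G := Subgroup.closure ((D.H : Set G) ∪ {D.Ra.n, D.Rb.n})

/-- the subgroup generated by the four root groups. -/
def gen (D : OctDat G) : Subgroup G := D.Ra.L ⊔ D.Rb.L

/-- the element `n_b n_a n_b n_a n_b n_a n_b` (it fixes the root `a`). -/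
def w (D : OctDat G) : G := D.Rb.n * D.Ra.n * D.Rb.n * D.Ra.n * D.Rb.n * D.Ra.n * D.Rb.n

/-- the axioms. -/
structure Ok (D : OctDat G) : Prop where
  oka : D.Ra.Ok
  okb : D.Rb.Ok
  Xa_le : D.Ra.X ≤ D.U
  Xb_le : D.Rb.X ≤ D.U
  Ua_le : D.Ua ≤ D.U
  Ub_le : D.Ub ≤ D.U
  dec_a : ∀ u ∈ D.U, ∃ v ∈ D.Ua, ∃ x ∈ D.Ra.X, u = v * x
  dec_b : ∀ u ∈ D.U, ∃ v ∈ D.Ub, ∃ x ∈ D.Rb.X, u = v * x
  na_Ua : ∀ v ∈ D.Ua, D.Ra.n * v * D.Ra.n⁻¹ ∈ D.U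
  nb_Ub : ∀ v ∈ D.Ub, D.Rb.n * v * D.Rb.n⁻¹ ∈ D.U
  H_U : ∀ h ∈ D.H, ∀ u ∈ D.U, h * u * h⁻¹ ∈ D.U
  H_Xa : ∀ h ∈ D.H, ∀ x ∈ D.Ra.X, h * x * h⁻¹ ∈ D.Ra.X
  H_Ya : ∀ h ∈ D.H, ∀ x ∈ D.Ra.Y, h * x * h⁻¹ ∈ D.Ra.Y
  H_Xb : ∀ h ∈ D.H, ∀ x ∈ D.Rb.X, h * x * h⁻¹ ∈ D.Rb.X
  H_Yb : ∀ h ∈ D.H, ∀ x ∈ D.Rb.Y, h * x * h⁻¹ ∈ D.Rb.Y
  T_comm : ∀ s ∈ D.Ra.T, ∀ t ∈ D.Rb.T, s * t = t * s
  T_inf : D.Ra.T ⊓ D.Rb.T = ⊥
  na_Tb : ∀ t ∈ D.Rb.T, D.Ra.n * t * D.Ra.n⁻¹ * t⁻¹ ∈ D.Ra.T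
  nb_Ta : ∀ t ∈ D.Ra.T, D.Rb.n * t * D.Rb.n⁻¹ * t⁻¹ ∈ D.Rb.T
  braid_X : ∀ x ∈ D.Ra.X, D.w * x * D.w⁻¹ ∈ D.Ra.X
  braid_Y : ∀ y ∈ D.Ra.Y, D.w * y * D.w⁻¹ ∈ D.Ra.Y
  braid_n : D.w * D.Ra.n * D.w⁻¹ * D.Ra.n⁻¹ ∈ D.Ra.T
  cox : ∀ k : ℕ, k < 8 → ((D.Ra.n * D.Rb.n) ^ k ∈ D.H → k = 0) ∧ D.Ra.n * (D.Ra.n * D.Rb.n) ^ k ∉ D.H
  dich_a : ∀ n ∈ D.N, (∀ x ∈ D.Ra.X, n⁻¹ * x * n ∈ D.U) ∨
    (∀ x ∈ D.Ra.X, (D.Ra.n⁻¹ * n)⁻¹ * x * (D.Ra.n⁻¹ * n) ∈ D.U)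
  dich_b : ∀ n ∈ D.N, (∀ x ∈ D.Rb.X, n⁻¹ * x * n ∈ D.U) ∨
    (∀ x ∈ D.Rb.X, (D.Rb.n⁻¹ * n)⁻¹ * x * (D.Rb.n⁻¹ * n) ∈ D.U)
  U_inf_H : ∀ u ∈ D.U, u ∈ D.H → u = 1
  B_inf_N : ∀ u ∈ D.U, ∀ h ∈ D.H, u * h ∈ D.N → u = 1
  top : D.gen = ⊤

variable {E : Type*} [Group E] {σ : E →* G} {p : ℕ}

/-- the lifted unipotent group. -/
def Ut (D : OctDat G) (L : PLift σ p) : Subgroup E := Subgroup.closure (L.pl '' (D.U : Set G))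

/-- the lifted torus. -/
def Ht (D : OctDat G) (L : PLift σ p) : Subgroup E := D.Ra.Tt L ⊔ D.Rb.Tt L

/-- the lifted group `N`. -/
def Nt (D : OctDat G) (L : PLift σ p) : Subgroup E :=
  Subgroup.closure ((D.Ht L : Set E) ∪ {D.Ra.nt L, D.Rb.nt L})

/-- the group generated by the lifted root groups. -/
def gent (D : OctDat G) (L : PLift σ p) : Subgroup E := D.Ra.Lt L ⊔ D.Rb.Lt L

/-- the lifted element `w`. -/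
def wt (D : OctDat G) (L : PLift σ p) : E :=
  D.Rb.nt L * D.Ra.nt L * D.Rb.nt L * D.Ra.nt L * D.Rb.nt L * D.Ra.nt L * D.Rb.nt L

/-- the lifted Borel subgroup `Ũ H̃` (as a set of products; a subgroup by `f4m_oct_Bt`). -/
def Btset (D : OctDat G) (L : PLift σ p) : Set E := {e | ∃ u ∈ D.Ut L, ∃ h ∈ D.Ht L, e = u * h}

/-- the cells `B̃ Ñ B̃`. -/
def cells (D : OctDat G) (L : PLift σ p) : Set E :=
  {e | ∃ b₁ ∈ D.Btset L, ∃ m ∈ D.Nt L, ∃ b₂ ∈ D.Btset L, e = b₁ * m * b₂}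

/-- the standing hypotheses upstairs: the axioms, `U` a `p`-group, and the rank-one triviality for `a` and `b`. -/
structure Up (D : OctDat G) (L : PLift σ p) : Prop where
  ok : D.Ok
  hU : IsPGroup p D.U
  inj_a : ∀ e ∈ D.Ra.Lt L, σ e = 1 → e = 1
  inj_b : ∀ e ∈ D.Rb.Lt L, σ e = 1 → e = 1

end OctDat

end Cfsg.Agent.F4M
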