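import Mathlib
import Cfsg.Agent.F4M.OctDefs

set_option autoImplicit false

/-! S2114 package B1b (file `Cfsg/Agent/F4M/OctTorH.lean`): the lifted root groups, rank-one groups and the lifted torus `H̃ = T̃_a T̃_b`;
blueprint §B1.  Analogue of `CtRecT/TPL.lean` (second half) + `TTorH.lean`.  Key tool: `PLift.conj_pl` (equivariance), `PLift.pl_mul`,
`PLift.map_pl`, `PLift.pl_map`.  Prefix `f4m_torh_`. -/

namespace Cfsg.Agent.F4M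

open Cfsg.Agent.CtRecT

variable {G E : Type*} [Group G] [Group E] {σ : E →* G} {p : ℕ}

/-! ### helpers -/

/-- an element of a `p`-subgroup is a `p`-element. -/
theorem f4m_torh_pel {P : Subgroup G} (hP : IsPGroup p P) {g : G} (hg : g ∈ P) : ∃ n : ℕ, g ^ p ^ n = 1 :=
  PLift.pl_mem_of_isPGroup hP hg

/-- the lift of an inverse. -/
theorem f4m_torh_pl_inv (L : PLift σ p) {P : Subgroup G} (hP : IsPGroup p P) {g : G} (hg : g ∈ P) :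
    L.pl g⁻¹ = (L.pl g)⁻¹ := by
  have h1 := L.pl_mul P hP g hg g⁻¹ (P.inv_mem hg)
  rw [mul_inv_cancel, L.pl_one] at h1
  exact eq_inv_of_mul_eq_one_right h1.symm

/-- conjugation by `g` maps a closure into a subgroup if it does so on the generators. -/
theorem f4m_torh_conj_closure {S : Set E} {K : Subgroup E} {g : E} (h : ∀ s ∈ S, g * s * g⁻¹ ∈ K) :
    ∀ e ∈ Subgroup.closure S, g * e * g⁻¹ ∈ K := by
  intro e he
  induction he using Subgroup.closure_induction with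
  | mem x hx => exact h x hx
  | one => rw [mul_one, mul_inv_cancel]; exact K.one_mem
  | mul x y _ _ hx hy =>
    have e1 : g * (x * y) * g⁻¹ = (g * x * g⁻¹) * (g * y * g⁻¹) := by group
    rw [e1]; exact K.mul_mem hx hy
  | inv x _ hx =>
    have e1 : g * x⁻¹ * g⁻¹ = (g * x * g⁻¹)⁻¹ := by group
    rw [e1]; exact K.inv_mem hx

/-- the closure of the lifts of a `p`-subgroup is the set of the lifts. -/
theorem f4m_mem_closure_pl (L : PLift σ p) {P : Subgroup G} (hP : IsPGroup p P) {e : E} :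
    e ∈ Subgroup.closure (L.pl '' (P : Set G)) ↔ ∃ g ∈ P, e = L.pl g := by
  constructor
  · intro he
    induction he using Subgroup.closure_induction with
    | mem x hx =>
      obtain ⟨g, hg, rfl⟩ := hx
      exact ⟨g, hg, rfl⟩
    | one => exact ⟨1, P.one_mem, L.pl_one.symm⟩
    | mul x y _ _ hx hy =>
      obtain ⟨g, hg, rfl⟩ := hx
      obtain ⟨g', hg', rfl⟩ := hy
      exact ⟨g * g', P.mul_mem hg hg', (L.pl_mul P hP g hg g' hg').symm⟩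
    | inv x _ hx =>
      obtain ⟨g, hg, rfl⟩ := hx
      exact ⟨g⁻¹, P.inv_mem hg, (f4m_torh_pl_inv L hP hg).symm⟩
  · rintro ⟨g, hg, rfl⟩
    exact Subgroup.subset_closure ⟨g, hg, rfl⟩

theorem f4m_Y_isPGroup {R : R1 G} (hR : R.Ok) (hX : IsPGroup p R.X) : IsPGroup p R.Y := by
  rintro ⟨y, hy⟩
  obtain ⟨k, hk⟩ := f4m_torh_pel hX (hR.conj_Y y hy)
  refine ⟨k, Subtype.ext ?_⟩
  rw [Subgroup.coe_pow, Subgroup.coe_one]
  rw [conj_pow] at hk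
  have h1 : y ^ p ^ k = R.n⁻¹ * (R.n * y ^ p ^ k * R.n⁻¹) * R.n := by group
  rw [h1, hk, mul_one, inv_mul_cancel]

theorem f4m_map_nt (L : PLift σ p) {R : R1 G} (hR : R.Ok) (hX : IsPGroup p R.X) : σ (R.nt L) = R.n := by
  have hY := f4m_Y_isPGroup hR hX
  unfold R1.nt R1.n
  rw [map_mul, map_mul, L.map_pl _ (f4m_torh_pel hX hR.hx₁), L.map_pl _ (f4m_torh_pel hY hR.hy₀),
    L.map_pl _ (f4m_torh_pel hX hR.hx₂)]

theorem f4m_map_Lt (L : PLift σ p) {R : R1 G} (hR : R.Ok) (hX : IsPGroup p R.X) {e : E} (he : e ∈ R.Lt L) : σ e ∈ R.L := by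
  have hY := f4m_Y_isPGroup hR hX
  have h1 : R.Lt L ≤ R.L.comap σ := by
    unfold R1.Lt R1.Xt R1.Yt
    refine sup_le ?_ ?_
    · rw [Subgroup.closure_le]
      rintro _ ⟨x, hx, rfl⟩
      show σ (L.pl x) ∈ R.L
      rw [L.map_pl _ (f4m_torh_pel hX hx)]
      exact (le_sup_left : R.X ≤ R.X ⊔ R.Y) hx
    · rw [Subgroup.closure_le]
      rintro _ ⟨y, hy, rfl⟩
      show σ (L.pl y) ∈ R.L
      rw [L.map_pl _ (f4m_torh_pel hY hy)]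
      exact (le_sup_right : R.Y ≤ R.X ⊔ R.Y) hy
  exact h1 he

theorem f4m_torh_pl_mem_Xt (L : PLift σ p) {R : R1 G} {x : G} (hx : x ∈ R.X) : L.pl x ∈ R.Xt L :=
  Subgroup.subset_closure ⟨x, hx, rfl⟩

theorem f4m_torh_pl_mem_Yt (L : PLift σ p) {R : R1 G} {y : G} (hy : y ∈ R.Y) : L.pl y ∈ R.Yt L :=
  Subgroup.subset_closure ⟨y, hy, rfl⟩

theorem f4m_torh_Xt_le_Lt (L : PLift σ p) (R : R1 G) : R.Xt L ≤ R.Lt L := le_sup_left

theorem f4m_torh_Yt_le_Lt (L : PLift σ p) (R : R1 G) : R.Yt L ≤ R.Lt L := le_sup_right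

theorem f4m_nt_mem_Lt (L : PLift σ p) {R : R1 G} (hR : R.Ok) : R.nt L ∈ R.Lt L := by
  unfold R1.nt
  exact (R.Lt L).mul_mem ((R.Lt L).mul_mem
    (f4m_torh_Xt_le_Lt L R (f4m_torh_pl_mem_Xt L hR.hx₁))
    (f4m_torh_Yt_le_Lt L R (f4m_torh_pl_mem_Yt L hR.hy₀)))
    (f4m_torh_Xt_le_Lt L R (f4m_torh_pl_mem_Xt L hR.hx₂))

/-- an element of `E` whose image normalizes `X` and `Y` normalizes the lifted rank-one group. -/
theorem f4m_conj_Lt (L : PLift σ p) {R : R1 G} (hR : R.Ok) (hX : IsPGroup p R.X) {g : E}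
    (hgX : ∀ x ∈ R.X, σ g * x * (σ g)⁻¹ ∈ R.X) (hgY : ∀ y ∈ R.Y, σ g * y * (σ g)⁻¹ ∈ R.Y) :
    ∀ e ∈ R.Lt L, g * e * g⁻¹ ∈ R.Lt L := by
  have hY := f4m_Y_isPGroup hR hX
  intro e he
  have he' : e ∈ Subgroup.closure ((L.pl '' (R.X : Set G)) ∪ (L.pl '' (R.Y : Set G))) := by
    rw [Subgroup.closure_union]; exact he
  refine f4m_torh_conj_closure ?_ e he'
  rintro s (⟨x, hx, rfl⟩ | ⟨y, hy, rfl⟩)
  · rw [L.conj_pl g (f4m_torh_pel hX hx)]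
    exact f4m_torh_Xt_le_Lt L R (f4m_torh_pl_mem_Xt L (hgX x hx))
  · rw [L.conj_pl g (f4m_torh_pel hY hy)]
    exact f4m_torh_Yt_le_Lt L R (f4m_torh_pl_mem_Yt L (hgY y hy))

/-- the Weyl element swaps the lifted root groups. -/
theorem f4m_nt_conj_Xt (L : PLift σ p) {R : R1 G} (hR : R.Ok) (hX : IsPGroup p R.X) :
    (∀ x ∈ R.Xt L, R.nt L * x * (R.nt L)⁻¹ ∈ R.Yt L) ∧ (∀ y ∈ R.Yt L, R.nt L * y * (R.nt L)⁻¹ ∈ R.Xt L) := by
  have hY := f4m_Y_isPGroup hR hX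
  constructor
  · intro x hx
    obtain ⟨g, hg, rfl⟩ := (f4m_mem_closure_pl L hX).mp hx
    rw [L.conj_pl _ (f4m_torh_pel hX hg), f4m_map_nt L hR hX]
    exact f4m_torh_pl_mem_Yt L (hR.conj_X g hg)
  · intro y hy
    obtain ⟨g, hg, rfl⟩ := (f4m_mem_closure_pl L hY).mp hy
    rw [L.conj_pl _ (f4m_torh_pel hY hg), f4m_map_nt L hR hX]
    exact f4m_torh_pl_mem_Xt L (hR.conj_Y g hg)

/-! ### membership in the lifted rank-one torus -/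

theorem f4m_torh_mem_Tt (L : PLift σ p) {R : R1 G} {e : E} : e ∈ R.Tt L ↔ e ∈ R.Lt L ∧ σ e ∈ R.T := by
  unfold R1.Tt
  rw [Subgroup.mem_inf, Subgroup.mem_comap]

variable (D : OctDat G) (L : PLift σ p)

theorem f4m_Xa_isPGroup (hup : D.Up L) : IsPGroup p D.Ra.X := hup.hU.to_le hup.ok.Xa_le
theorem f4m_Xb_isPGroup (hup : D.Up L) : IsPGroup p D.Rb.X := hup.hU.to_le hup.ok.Xb_le

theorem f4m_torh_Ta_le_H : D.Ra.T ≤ D.H := le_sup_left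
theorem f4m_torh_Tb_le_H : D.Rb.T ≤ D.H := le_sup_right

/-- an element above `H` normalizes `L̃_a`. -/
theorem f4m_torh_conj_Lta (hup : D.Up L) {g : E} (hg : σ g ∈ D.H) : ∀ e ∈ D.Ra.Lt L, g * e * g⁻¹ ∈ D.Ra.Lt L :=
  f4m_conj_Lt L hup.ok.oka (f4m_Xa_isPGroup D L hup) (fun x hx => hup.ok.H_Xa _ hg x hx)
    (fun y hy => hup.ok.H_Ya _ hg y hy)

/-- an element above `H` normalizes `L̃_b`. -/
theorem f4m_torh_conj_Ltb (hup : D.Up L) {g : E} (hg : σ g ∈ D.H) : ∀ e ∈ D.Rb.Lt L, g * e * g⁻¹ ∈ D.Rb.Lt L :=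
  f4m_conj_Lt L hup.ok.okb (f4m_Xb_isPGroup D L hup) (fun x hx => hup.ok.H_Xb _ hg x hx)
    (fun y hy => hup.ok.H_Yb _ hg y hy)

/-- `T̃_a` and `T̃_b` commute (uses the rank-one triviality for `b`). -/
theorem f4m_Tt_comm (hup : D.Up L) : ∀ s ∈ D.Ra.Tt L, ∀ t ∈ D.Rb.Tt L, s * t = t * s := by
  intro s hs t ht
  rw [f4m_torh_mem_Tt] at hs ht
  have h1 : s * t * s⁻¹ ∈ D.Rb.Lt L := f4m_torh_conj_Ltb D L hup (f4m_torh_Ta_le_H D hs.2) t ht.1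
  have h2 : s * t * s⁻¹ * t⁻¹ ∈ D.Rb.Lt L := (D.Rb.Lt L).mul_mem h1 ((D.Rb.Lt L).inv_mem ht.1)
  have h3 : σ (s * t * s⁻¹ * t⁻¹) = 1 := by
    rw [map_mul, map_mul, map_mul, map_inv, map_inv, hup.ok.T_comm _ hs.2 _ ht.2]
    group
  have h4 := hup.inj_b _ h2 h3
  calc s * t = (s * t * s⁻¹ * t⁻¹) * (t * s) := by group
    _ = t * s := by rw [h4, one_mul]

theorem f4m_mem_Ht (hup : D.Up L) {e : E} : e ∈ D.Ht L ↔ ∃ s ∈ D.Ra.Tt L, ∃ t ∈ D.Rb.Tt L, e = s * t := by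
  have hc := f4m_Tt_comm D L hup
  constructor
  · intro he
    have he' : e ∈ Subgroup.closure ((D.Ra.Tt L : Set E) ∪ (D.Rb.Tt L : Set E)) := by
      rw [Subgroup.closure_union, Subgroup.closure_eq, Subgroup.closure_eq]; exact he
    clear he
    induction he' using Subgroup.closure_induction with
    | mem x hx =>
      rcases hx with hx | hx
      · exact ⟨x, hx, 1, (D.Rb.Tt L).one_mem, (mul_one x).symm⟩
      · exact ⟨1, (D.Ra.Tt L).one_mem, x, hx, (one_mul x).symm⟩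
    | one => exact ⟨1, (D.Ra.Tt L).one_mem, 1, (D.Rb.Tt L).one_mem, (mul_one 1).symm⟩
    | mul x y _ _ hx hy =>
      obtain ⟨s, hs, t, ht, rfl⟩ := hx
      obtain ⟨s', hs', t', ht', rfl⟩ := hy
      refine ⟨s * s', (D.Ra.Tt L).mul_mem hs hs', t * t', (D.Rb.Tt L).mul_mem ht ht', ?_⟩
      calc s * t * (s' * t') = s * (t * s') * t' := by group
        _ = s * (s' * t) * t' := by rw [hc s' hs' t ht]
        _ = s * s' * (t * t') := by group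
    | inv x _ hx =>
      obtain ⟨s, hs, t, ht, rfl⟩ := hx
      refine ⟨s⁻¹, (D.Ra.Tt L).inv_mem hs, t⁻¹, (D.Rb.Tt L).inv_mem ht, ?_⟩
      rw [mul_inv_rev, ← hc s⁻¹ ((D.Ra.Tt L).inv_mem hs) t⁻¹ ((D.Rb.Tt L).inv_mem ht)]
  · rintro ⟨s, hs, t, ht, rfl⟩
    exact (D.Ht L).mul_mem ((le_sup_left : D.Ra.Tt L ≤ D.Ht L) hs) ((le_sup_right : D.Rb.Tt L ≤ D.Ht L) ht)

theorem f4m_map_Ht (hup : D.Up L) {e : E} (he : e ∈ D.Ht L) : σ e ∈ D.H := by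
  obtain ⟨s, hs, t, ht, rfl⟩ := (f4m_mem_Ht D L hup).mp he
  rw [f4m_torh_mem_Tt] at hs ht
  rw [map_mul]
  exact D.H.mul_mem (f4m_torh_Ta_le_H D hs.2) (f4m_torh_Tb_le_H D ht.2)

/-- `H̃ ∩ ker σ = 1`. -/
theorem f4m_Ht_inf_ker (hup : D.Up L) {e : E} (he : e ∈ D.Ht L) (h1 : σ e = 1) : e = 1 := by
  obtain ⟨s, hs, t, ht, rfl⟩ := (f4m_mem_Ht D L hup).mp he
  rw [f4m_torh_mem_Tt] at hs ht
  rw [map_mul] at h1
  have h2 : σ s = (σ t)⁻¹ := eq_inv_of_mul_eq_one_left h1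
  have h3 : σ s ∈ D.Ra.T ⊓ D.Rb.T := ⟨hs.2, by rw [h2]; exact D.Rb.T.inv_mem ht.2⟩
  rw [hup.ok.T_inf, Subgroup.mem_bot] at h3
  have h4 : σ t = 1 := by rw [h3, one_mul] at h1; exact h1
  rw [hup.inj_a s hs.1 h3, hup.inj_b t ht.1 h4, mul_one]

theorem f4m_Ht_conj_Ut (hup : D.Up L) : ∀ h ∈ D.Ht L, ∀ u ∈ D.Ut L, h * u * h⁻¹ ∈ D.Ut L := by
  intro h hh u hu
  obtain ⟨g, hg, rfl⟩ := (f4m_mem_closure_pl L hup.hU).mp hu
  rw [L.conj_pl h (f4m_torh_pel hup.hU hg)]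
  exact Subgroup.subset_closure ⟨_, hup.ok.H_U _ (f4m_map_Ht D L hup hh) g hg, rfl⟩

theorem f4m_Ht_conj_Xt (hup : D.Up L) : ∀ h ∈ D.Ht L,
    (∀ x ∈ D.Ra.Xt L, h * x * h⁻¹ ∈ D.Ra.Xt L) ∧ (∀ x ∈ D.Rb.Xt L, h * x * h⁻¹ ∈ D.Rb.Xt L) := by
  intro h hh
  have hXa := f4m_Xa_isPGroup D L hup
  have hXb := f4m_Xb_isPGroup D L hup
  constructor
  · intro x hx
    obtain ⟨g, hg, rfl⟩ := (f4m_mem_closure_pl L hXa).mp hx
    rw [L.conj_pl h (f4m_torh_pel hXa hg)]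
    exact f4m_torh_pl_mem_Xt L (hup.ok.H_Xa _ (f4m_map_Ht D L hup hh) g hg)
  · intro x hx
    obtain ⟨g, hg, rfl⟩ := (f4m_mem_closure_pl L hXb).mp hx
    rw [L.conj_pl h (f4m_torh_pel hXb hg)]
    exact f4m_torh_pl_mem_Xt L (hup.ok.H_Xb _ (f4m_map_Ht D L hup hh) g hg)

theorem f4m_torh_Tta_le_Ht : D.Ra.Tt L ≤ D.Ht L := le_sup_left
theorem f4m_torh_Ttb_le_Ht : D.Rb.Tt L ≤ D.Ht L := le_sup_right

theorem f4m_nta_sq (hup : D.Up L) : D.Ra.nt L * D.Ra.nt L ∈ D.Ht L := by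
  apply f4m_torh_Tta_le_Ht D L
  rw [f4m_torh_mem_Tt]
  have h1 := f4m_nt_mem_Lt L hup.ok.oka
  refine ⟨(D.Ra.Lt L).mul_mem h1 h1, ?_⟩
  rw [map_mul, f4m_map_nt L hup.ok.oka (f4m_Xa_isPGroup D L hup)]
  exact hup.ok.oka.sq

theorem f4m_ntb_sq (hup : D.Up L) : D.Rb.nt L * D.Rb.nt L ∈ D.Ht L := by
  apply f4m_torh_Ttb_le_Ht D L
  rw [f4m_torh_mem_Tt]
  have h1 := f4m_nt_mem_Lt L hup.ok.okb
  refine ⟨(D.Rb.Lt L).mul_mem h1 h1, ?_⟩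
  rw [map_mul, f4m_map_nt L hup.ok.okb (f4m_Xb_isPGroup D L hup)]
  exact hup.ok.okb.sq

/-- from `ñ h ñ⁻¹ ∈ H̃` for all `h` and `ñ² ∈ H̃` to the version with `ñ⁻¹`. -/
theorem f4m_torh_conj_inv {K : Subgroup E} {n : E} (hsq : n * n ∈ K) (hc : ∀ h ∈ K, n * h * n⁻¹ ∈ K) :
    ∀ h ∈ K, n⁻¹ * h * n ∈ K := by
  intro h hh
  have e1 : n⁻¹ * h * n = (n * n)⁻¹ * (n * h * n⁻¹) * (n * n) := by group
  rw [e1]
  exact K.mul_mem (K.mul_mem (K.inv_mem hsq) (hc h hh)) hsq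

theorem f4m_nta_conj_Ht (hup : D.Up L) : ∀ h ∈ D.Ht L,
    D.Ra.nt L * h * (D.Ra.nt L)⁻¹ ∈ D.Ht L ∧ (D.Ra.nt L)⁻¹ * h * D.Ra.nt L ∈ D.Ht L := by
  have hXa := f4m_Xa_isPGroup D L hup
  have hn := f4m_nt_mem_Lt L hup.ok.oka
  have hmapn := f4m_map_nt L hup.ok.oka hXa
  have key : ∀ h ∈ D.Ht L, D.Ra.nt L * h * (D.Ra.nt L)⁻¹ ∈ D.Ht L := by
    intro h hh
    obtain ⟨s, hs, t, ht, rfl⟩ := (f4m_mem_Ht D L hup).mp hh
    have hs' := (f4m_torh_mem_Tt L).mp hs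
    have ht' := (f4m_torh_mem_Tt L).mp ht
    -- the `s`-part
    have h1 : D.Ra.nt L * s * (D.Ra.nt L)⁻¹ ∈ D.Ra.Tt L := by
      rw [f4m_torh_mem_Tt]
      refine ⟨(D.Ra.Lt L).mul_mem ((D.Ra.Lt L).mul_mem hn hs'.1) ((D.Ra.Lt L).inv_mem hn), ?_⟩
      rw [map_mul, map_mul, map_inv, hmapn]
      exact hup.ok.oka.n_T _ hs'.2
    -- the `t`-part
    have h2 : D.Ra.nt L * t * (D.Ra.nt L)⁻¹ * t⁻¹ ∈ D.Ra.Tt L := by
      rw [f4m_torh_mem_Tt]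
      constructor
      · have h3 : t * (D.Ra.nt L)⁻¹ * t⁻¹ ∈ D.Ra.Lt L :=
          f4m_torh_conj_Lta D L hup (f4m_torh_Tb_le_H D ht'.2) _ ((D.Ra.Lt L).inv_mem hn)
        have e1 : D.Ra.nt L * t * (D.Ra.nt L)⁻¹ * t⁻¹ = D.Ra.nt L * (t * (D.Ra.nt L)⁻¹ * t⁻¹) := by group
        rw [e1]
        exact (D.Ra.Lt L).mul_mem hn h3
      · rw [map_mul, map_mul, map_mul, map_inv, map_inv, hmapn]
        exact hup.ok.na_Tb _ ht'.2
    have e2 : D.Ra.nt L * (s * t) * (D.Ra.nt L)⁻¹ =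
        (D.Ra.nt L * s * (D.Ra.nt L)⁻¹) * (D.Ra.nt L * t * (D.Ra.nt L)⁻¹ * t⁻¹) * t := by group
    rw [e2]
    exact (D.Ht L).mul_mem ((D.Ht L).mul_mem (f4m_torh_Tta_le_Ht D L h1) (f4m_torh_Tta_le_Ht D L h2))
      (f4m_torh_Ttb_le_Ht D L ht)
  intro h hh
  exact ⟨key h hh, f4m_torh_conj_inv (f4m_nta_sq D L hup) key h hh⟩

theorem f4m_ntb_conj_Ht (hup : D.Up L) : ∀ h ∈ D.Ht L,
    D.Rb.nt L * h * (D.Rb.nt L)⁻¹ ∈ D.Ht L ∧ (D.Rb.nt L)⁻¹ * h * D.Rb.nt L ∈ D.Ht L := by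
  have hXb := f4m_Xb_isPGroup D L hup
  have hn := f4m_nt_mem_Lt L hup.ok.okb
  have hmapn := f4m_map_nt L hup.ok.okb hXb
  have hc := f4m_Tt_comm D L hup
  have key : ∀ h ∈ D.Ht L, D.Rb.nt L * h * (D.Rb.nt L)⁻¹ ∈ D.Ht L := by
    intro h hh
    obtain ⟨s, hs, t, ht, rfl⟩ := (f4m_mem_Ht D L hup).mp hh
    have hs' := (f4m_torh_mem_Tt L).mp hs
    have ht' := (f4m_torh_mem_Tt L).mp ht
    -- the `t`-part
    have h1 : D.Rb.nt L * t * (D.Rb.nt L)⁻¹ ∈ D.Rb.Tt L := by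
      rw [f4m_torh_mem_Tt]
      refine ⟨(D.Rb.Lt L).mul_mem ((D.Rb.Lt L).mul_mem hn ht'.1) ((D.Rb.Lt L).inv_mem hn), ?_⟩
      rw [map_mul, map_mul, map_inv, hmapn]
      exact hup.ok.okb.n_T _ ht'.2
    -- the `s`-part
    have h2 : D.Rb.nt L * s * (D.Rb.nt L)⁻¹ * s⁻¹ ∈ D.Rb.Tt L := by
      rw [f4m_torh_mem_Tt]
      constructor
      · have h3 : s * (D.Rb.nt L)⁻¹ * s⁻¹ ∈ D.Rb.Lt L :=
          f4m_torh_conj_Ltb D L hup (f4m_torh_Ta_le_H D hs'.2) _ ((D.Rb.Lt L).inv_mem hn)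
        have e1 : D.Rb.nt L * s * (D.Rb.nt L)⁻¹ * s⁻¹ = D.Rb.nt L * (s * (D.Rb.nt L)⁻¹ * s⁻¹) := by group
        rw [e1]
        exact (D.Rb.Lt L).mul_mem hn h3
      · rw [map_mul, map_mul, map_mul, map_inv, map_inv, hmapn]
        exact hup.ok.nb_Ta _ hs'.2
    have e2 : D.Rb.nt L * (s * t) * (D.Rb.nt L)⁻¹ =
        (D.Rb.nt L * s * (D.Rb.nt L)⁻¹ * s⁻¹) * s * (D.Rb.nt L * t * (D.Rb.nt L)⁻¹) := by group
    rw [e2]
    exact (D.Ht L).mul_mem ((D.Ht L).mul_mem (f4m_torh_Ttb_le_Ht D L h2) (f4m_torh_Tta_le_Ht D L hs))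
      (f4m_torh_Ttb_le_Ht D L h1)
  intro h hh
  exact ⟨key h hh, f4m_torh_conj_inv (f4m_ntb_sq D L hup) key h hh⟩

/-- the image of the lifted element `w`. -/
theorem f4m_torh_map_wt (hup : D.Up L) : σ (D.wt L) = D.w := by
  unfold OctDat.wt OctDat.w
  simp only [map_mul, f4m_map_nt L hup.ok.oka (f4m_Xa_isPGroup D L hup),
    f4m_map_nt L hup.ok.okb (f4m_Xb_isPGroup D L hup)]

/-- the braid relation upstairs. -/
theorem f4m_braid_up (hup : D.Up L) :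
    D.wt L * D.Ra.nt L * (D.wt L)⁻¹ * (D.Ra.nt L)⁻¹ ∈ D.Ht L := by
  have hXa := f4m_Xa_isPGroup D L hup
  have hn := f4m_nt_mem_Lt L hup.ok.oka
  have hw := f4m_torh_map_wt D L hup
  apply f4m_torh_Tta_le_Ht D L
  rw [f4m_torh_mem_Tt]
  constructor
  · have h1 : D.wt L * D.Ra.nt L * (D.wt L)⁻¹ ∈ D.Ra.Lt L :=
      f4m_conj_Lt L hup.ok.oka hXa (fun x hx => by rw [hw]; exact hup.ok.braid_X x hx)
        (fun y hy => by rw [hw]; exact hup.ok.braid_Y y hy) _ hn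
    exact (D.Ra.Lt L).mul_mem h1 ((D.Ra.Lt L).inv_mem hn)
  · rw [map_mul, map_mul, map_mul, map_inv, map_inv, hw, f4m_map_nt L hup.ok.oka hXa]
    exact hup.ok.braid_n

end Cfsg.Agent.F4M
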