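import Mathlib
import Cfsg.Agent.CtRecT.TClos

set_option autoImplicit false
set_option linter.unusedSectionVars false
set_option linter.unusedVariables false

/-! S2114 package B1a (file `Cfsg/Agent/F4M/OctRank.lean`): the rank-one steps of the closure argument for an ABSTRACT rank-one datum
(a subgroup `X` and an element `n`); port of `bn_rank`, `bn_pos`, `bn_step` of `CtRecT/TClos.lean` (replace `R.xp t` by `x ∈ X`, `R.w 1` by `n`,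
and the `Rk1` identities by the hypothesis `hbr`).  Uses `bsub`, `mem_bsub`, `Ut_le_bsub`, `Hs_le_bsub` of that file.  Prefix `f4m_rank_`. -/

namespace Cfsg.Agent.F4M

open Cfsg.Agent.CtRecT

variable {E : Type*} [Group E] (Ut Hs : Subgroup E) (hHU : ∀ h ∈ Hs, ∀ u ∈ Ut, h * u * h⁻¹ ∈ Ut) (X : Subgroup E) (n : E)

/-- rank one: `n B n ⊆ B ∪ B n B`. -/
theorem f4m_bn_rank (hX : X ≤ Ut) (hsq : n * n ∈ Hs) (hnH : ∀ h ∈ Hs, n⁻¹ * h * n ∈ Hs)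
    (hbr : ∀ x ∈ X, x ≠ 1 → ∃ x' ∈ X, ∃ t ∈ Hs, ∃ x'' ∈ X, n * x * n⁻¹ = x' * t * n * x'')
    (hdec : ∀ u ∈ Ut, ∃ v, n * v * n⁻¹ ∈ Ut ∧ ∃ x ∈ X, u = v * x)
    {b : E} (hb : b ∈ bsub Ut Hs hHU) :
    n * b * n ∈ bsub Ut Hs hHU ∨
      ∃ b₁ ∈ bsub Ut Hs hHU, ∃ b₂ ∈ bsub Ut Hs hHU, n * b * n = b₁ * n * b₂ := by
  obtain ⟨u, hu, h, hhH, rfl⟩ := hb
  obtain ⟨v, hv, x, hx, rfl⟩ := hdec u hu
  have e0 : n * (v * x * h) * n =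
      (n * v * n⁻¹) * (n * x * n⁻¹) * (n * n) * (n⁻¹ * h * n) := by
    group
  by_cases hx1 : x = 1
  · left
    subst hx1
    rw [e0, mul_one, mul_inv_cancel, mul_one, mul_assoc]
    exact ⟨_, hv, _, Hs.mul_mem hsq (hnH h hhH), rfl⟩
  · right
    obtain ⟨x', hx', t, ht, x'', hx'', e1⟩ := hbr x hx hx1
    refine ⟨(n * v * n⁻¹) * x' * t,
      ⟨_, Ut.mul_mem hv (hX hx'), _, ht, rfl⟩,
      x'' * ((n * n) * (n⁻¹ * h * n)),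
      ⟨_, hX hx'', _, Hs.mul_mem hsq (hnH h hhH), rfl⟩, ?_⟩
    rw [e0, e1]
    simp only [mul_assoc]

/-- the positive case: `n B m ⊆ B (n m) B`. -/
theorem f4m_bn_pos (hdec : ∀ u ∈ Ut, ∃ v, n * v * n⁻¹ ∈ Ut ∧ ∃ x ∈ X, u = v * x)
    {m : E} (hmH : ∀ h ∈ Hs, m⁻¹ * h * m ∈ Hs) (hpos : ∀ x ∈ X, m⁻¹ * x * m ∈ Ut)
    {b : E} (hb : b ∈ bsub Ut Hs hHU) :
    ∃ b₁ ∈ bsub Ut Hs hHU, ∃ b₂ ∈ bsub Ut Hs hHU, n * b * m = b₁ * (n * m) * b₂ := by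
  obtain ⟨u, hu, h, hhH, rfl⟩ := hb
  obtain ⟨v, hv, x, hx, rfl⟩ := hdec u hu
  refine ⟨n * v * n⁻¹, Ut_le_bsub Ut Hs hHU hv, (m⁻¹ * x * m) * (m⁻¹ * h * m),
    ⟨_, hpos x hx, _, hmH h hhH, rfl⟩, ?_⟩
  group

/-- the step of the closure argument: `n B m ⊆ B (n m) B ∪ B m B`. -/
theorem f4m_bn_step (hX : X ≤ Ut) (hsq : n * n ∈ Hs) (hnH : ∀ h ∈ Hs, n⁻¹ * h * n ∈ Hs)
    (hnH' : ∀ h ∈ Hs, n * h * n⁻¹ ∈ Hs) (hinv : ∃ β ∈ Hs, n⁻¹ = n * β)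
    (hbr : ∀ x ∈ X, x ≠ 1 → ∃ x' ∈ X, ∃ t ∈ Hs, ∃ x'' ∈ X, n * x * n⁻¹ = x' * t * n * x'')
    (hdec : ∀ u ∈ Ut, ∃ v, n * v * n⁻¹ ∈ Ut ∧ ∃ x ∈ X, u = v * x)
    {m : E} (hmH : ∀ h ∈ Hs, m⁻¹ * h * m ∈ Hs)
    (hdich : (∀ x ∈ X, m⁻¹ * x * m ∈ Ut) ∨ (∀ x ∈ X, (n⁻¹ * m)⁻¹ * x * (n⁻¹ * m) ∈ Ut))
    {b : E} (hb : b ∈ bsub Ut Hs hHU) :
    (∃ b₁ ∈ bsub Ut Hs hHU, ∃ b₂ ∈ bsub Ut Hs hHU, n * b * m = b₁ * (n * m) * b₂) ∨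
      ∃ b₁ ∈ bsub Ut Hs hHU, ∃ b₂ ∈ bsub Ut Hs hHU, n * b * m = b₁ * m * b₂ := by
  rcases hdich with hpos | hneg
  · exact Or.inl (f4m_bn_pos Ut Hs hHU X n hdec hmH hpos hb)
  · have hm'H : ∀ h ∈ Hs, (n⁻¹ * m)⁻¹ * h * (n⁻¹ * m) ∈ Hs := by
      intro h hhH
      have e : (n⁻¹ * m)⁻¹ * h * (n⁻¹ * m) = m⁻¹ * (n * h * n⁻¹) * m := by group
      rw [e]
      exact hmH _ (hnH' h hhH)
    have e0 : n * b * m = (n * b * n) * (n⁻¹ * m) := by group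
    rcases f4m_bn_rank Ut Hs hHU X n hX hsq hnH hbr hdec hb with h0 | ⟨b₁, hb₁, b₂, hb₂, e1⟩
    · left
      obtain ⟨β, hβ, eβ⟩ := hinv
      refine ⟨n * b * n, h0, m⁻¹ * β * m, Hs_le_bsub Ut Hs hHU (hmH β hβ), ?_⟩
      rw [e0]
      conv_lhs => rw [eβ]
      group
    · right
      obtain ⟨b₃, hb₃, b₄, hb₄, e2⟩ := f4m_bn_pos Ut Hs hHU X n hdec hm'H hneg hb₂
      refine ⟨b₁ * b₃, (bsub Ut Hs hHU).mul_mem hb₁ hb₃, b₄, hb₄, ?_⟩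
      have e3 : n * (n⁻¹ * m) = m := by group
      rw [e3] at e2
      rw [e0, e1]
      calc b₁ * n * b₂ * (n⁻¹ * m) = b₁ * (n * b₂ * (n⁻¹ * m)) := by group
        _ = b₁ * (b₃ * m * b₄) := by rw [e2]
        _ = b₁ * b₃ * m * b₄ := by group

end Cfsg.Agent.F4M
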