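import Mathlib
import Cfsg.Agent.F4M.OctTorH

set_option autoImplicit false

/-! S2114 package B1c (file `Cfsg/Agent/F4M/OctTorN.lean`): `Ñ / H̃` is a quotient of the dihedral group of order 16; port of
`CtRecT/TTorN.lean` (there: order 12, `k < 6`, braid word of length 5; here: `k < 8`, `w̃ = ñ_b ñ_a ñ_b ñ_a ñ_b ñ_a ñ_b` and
`f4m_braid_up` give `q_b q_a q_b q_a q_b q_a q_b q_a = q_a q_b q_a q_b q_a q_b q_a q_b` in `Ñ / H̃`).  Prefix `f4m_torn_`. -/

namespace Cfsg.Agent.F4M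

open Cfsg.Agent.CtRecT

section dihedral

variable {Q : Type*} [Group Q] {a b : Q}

theorem f4m_torn_cancel_a (ha : a * a = 1) (x : Q) : a * (a * x) = x := by rw [← mul_assoc, ha, one_mul]

theorem f4m_torn_cancel_b (hb : b * b = 1) (x : Q) : b * (b * x) = x := by rw [← mul_assoc, hb, one_mul]

theorem f4m_torn_pow_eight (ha : a * a = 1) (hb : b * b = 1)
    (hbr : b * a * b * a * b * a * b * a = a * b * a * b * a * b * a * b) : (a * b) ^ 8 = 1 := by
  have e : (a * b) ^ 8 = (a * b * a * b * a * b * a * b) * (a * b * a * b * a * b * a * b) := by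
    simp only [pow_succ, pow_zero, one_mul, mul_assoc]
  rw [e]
  nth_rewrite 2 [← hbr]
  simp only [mul_assoc, f4m_torn_cancel_a ha, f4m_torn_cancel_b hb, ha]

/-- a group generated by two involutions satisfying the braid relation of length 8 is a quotient of the dihedral group of order 16. -/
theorem f4m_torn_dih_cases (ha : a * a = 1) (hb : b * b = 1)
    (hbr : b * a * b * a * b * a * b * a = a * b * a * b * a * b * a * b) :
    ∀ q ∈ Subgroup.closure ({a, b} : Set Q), ∃ k : ℕ, k < 8 ∧ (q = (a * b) ^ k ∨ q = a * (a * b) ^ k) := by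
  have h8 := f4m_torn_pow_eight ha hb hbr
  have ainv : a⁻¹ = a := inv_eq_of_mul_eq_one_left ha
  have binv : b⁻¹ = b := inv_eq_of_mul_eq_one_left hb
  have hbeq : b = a * (a * b) := by rw [f4m_torn_cancel_a ha]
  have hba : b * a = (a * b)⁻¹ := by rw [mul_inv_rev, ainv, binv]
  have hrinv : (a * b)⁻¹ = (a * b) ^ 7 := by
    apply inv_eq_of_mul_eq_one_left
    rw [← pow_succ, h8]
  have hA : ∀ y : Q, (∃ k : ℕ, k < 8 ∧ (y = (a * b) ^ k ∨ y = a * (a * b) ^ k)) →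
      ∃ k : ℕ, k < 8 ∧ (a * y = (a * b) ^ k ∨ a * y = a * (a * b) ^ k) := by
    rintro y ⟨k, hk, rfl | rfl⟩
    · exact ⟨k, hk, Or.inr rfl⟩
    · exact ⟨k, hk, Or.inl (f4m_torn_cancel_a ha _)⟩
  have hB : ∀ y : Q, (∃ k : ℕ, k < 8 ∧ (y = (a * b) ^ k ∨ y = a * (a * b) ^ k)) →
      ∃ k : ℕ, k < 8 ∧ (b * y = (a * b) ^ k ∨ b * y = a * (a * b) ^ k) := by
    rintro y ⟨k, hk, rfl | rfl⟩
    · by_cases h7 : k = 7
      · subst h7
        refine ⟨0, by norm_num, Or.inr ?_⟩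
        nth_rewrite 1 [hbeq]
        rw [mul_assoc, ← pow_succ', h8, pow_zero]
      · refine ⟨k + 1, by omega, Or.inr ?_⟩
        nth_rewrite 1 [hbeq]
        rw [mul_assoc, ← pow_succ']
    · rw [← mul_assoc, hba]
      rcases Nat.eq_zero_or_pos k with h0 | h0
      · subst h0
        exact ⟨7, by norm_num, Or.inl (by rw [pow_zero, mul_one, hrinv])⟩
      · refine ⟨k - 1, by omega, Or.inl ?_⟩
        obtain ⟨j, rfl⟩ : ∃ j, k = j + 1 := ⟨k - 1, by omega⟩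
        rw [pow_succ', ← mul_assoc, inv_mul_cancel, one_mul, Nat.add_sub_cancel]
  intro q hq
  induction hq using Subgroup.closure_induction_left with
  | one => exact ⟨0, by norm_num, Or.inl (pow_zero _).symm⟩
  | mul_left x hx y _ ih =>
    rcases hx with hx | hx
    · rw [hx]; exact hA y ih
    · rw [Set.mem_singleton_iff] at hx
      rw [hx]; exact hB y ih
  | inv_mul_cancel x hx y _ ih =>
    rcases hx with hx | hx
    · rw [hx, ainv]; exact hA y ih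
    · rw [Set.mem_singleton_iff] at hx
      rw [hx, binv]; exact hB y ih

end dihedral

variable {G E : Type*} [Group G] [Group E] {σ : E →* G} {p : ℕ} (D : OctDat G) (L : PLift σ p)

theorem f4m_Ht_le_Nt : D.Ht L ≤ D.Nt L := fun _ hg => Subgroup.subset_closure (Or.inl hg)

theorem f4m_nta_mem_Nt : D.Ra.nt L ∈ D.Nt L := Subgroup.subset_closure (Or.inr (Or.inl rfl))

theorem f4m_ntb_mem_Nt : D.Rb.nt L ∈ D.Nt L := Subgroup.subset_closure (Or.inr (Or.inr rfl))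

/-- `Ñ` normalizes `H̃`. -/
theorem f4m_Nt_conj_Ht (hup : D.Up L) : ∀ m ∈ D.Nt L, ∀ h ∈ D.Ht L,
    m * h * m⁻¹ ∈ D.Ht L ∧ m⁻¹ * h * m ∈ D.Ht L := by
  intro m hm
  have hm' : m ∈ Subgroup.closure ((D.Ht L : Set E) ∪ {D.Ra.nt L, D.Rb.nt L}) := hm
  induction hm' using Subgroup.closure_induction with
  | mem x hx =>
    intro h hh
    rcases hx with hx | hx | hx
    · exact ⟨(D.Ht L).mul_mem ((D.Ht L).mul_mem hx hh) ((D.Ht L).inv_mem hx),
        (D.Ht L).mul_mem ((D.Ht L).mul_mem ((D.Ht L).inv_mem hx) hh) hx⟩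
    · rw [hx]; exact f4m_nta_conj_Ht D L hup h hh
    · rw [Set.mem_singleton_iff] at hx
      rw [hx]; exact f4m_ntb_conj_Ht D L hup h hh
  | one => intro h hh; simpa using hh
  | mul x y hx hy ihx ihy =>
    intro h hh
    have hx' : x ∈ D.Nt L := hx
    have hy' : y ∈ D.Nt L := hy
    have e : x * y * h * (x * y)⁻¹ = x * (y * h * y⁻¹) * x⁻¹ := by group
    have e' : (x * y)⁻¹ * h * (x * y) = y⁻¹ * (x⁻¹ * h * x) * y := by group
    rw [e, e']
    exact ⟨(ihx hx' _ (ihy hy' h hh).1).1, (ihy hy' _ (ihx hx' h hh).2).2⟩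
  | inv x hx ihx =>
    intro h hh
    have hx' : x ∈ D.Nt L := hx
    rw [inv_inv]
    exact ⟨(ihx hx' h hh).2, (ihx hx' h hh).1⟩

theorem f4m_torn_normal (hup : D.Up L) : ((D.Ht L).subgroupOf (D.Nt L)).Normal := ⟨fun n hn g => by
  rw [Subgroup.mem_subgroupOf] at hn ⊢
  have := (f4m_Nt_conj_Ht D L hup g.1 g.2 n.1 hn).1
  simpa using this⟩

/-- the sixteen cosets of `H̃` in `Ñ`. -/
theorem f4m_Nt_cases (hup : D.Up L) : ∀ m ∈ D.Nt L, ∃ h ∈ D.Ht L, ∃ k : ℕ, k < 8 ∧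
    (m = h * (D.Ra.nt L * D.Rb.nt L) ^ k ∨ m = h * D.Ra.nt L * (D.Ra.nt L * D.Rb.nt L) ^ k) := by
  have : ((D.Ht L).subgroupOf (D.Nt L)).Normal := f4m_torn_normal D L hup
  intro m hm
  let π : ↥(D.Nt L) →* ↥(D.Nt L) ⧸ (D.Ht L).subgroupOf (D.Nt L) := QuotientGroup.mk' _
  have hπ1 : ∀ x : ↥(D.Nt L), π x = 1 ↔ (x : E) ∈ D.Ht L := by
    intro x
    show (QuotientGroup.mk x : ↥(D.Nt L) ⧸ (D.Ht L).subgroupOf (D.Nt L)) = 1 ↔ _
    rw [QuotientGroup.eq_one_iff, Subgroup.mem_subgroupOf]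
  set na : ↥(D.Nt L) := ⟨D.Ra.nt L, f4m_nta_mem_Nt D L⟩ with hna
  set nb : ↥(D.Nt L) := ⟨D.Rb.nt L, f4m_ntb_mem_Nt D L⟩ with hnb
  have ha : π na * π na = 1 := by
    rw [← map_mul, hπ1]
    exact f4m_nta_sq D L hup
  have hb : π nb * π nb = 1 := by
    rw [← map_mul, hπ1]
    exact f4m_ntb_sq D L hup
  have hbr : π nb * π na * π nb * π na * π nb * π na * π nb * π na =
      π na * π nb * π na * π nb * π na * π nb * π na * π nb := by
    have h1 : π ((nb * na * nb * na * nb * na * nb) * na * (nb * na * nb * na * nb * na * nb)⁻¹ * na⁻¹) = 1 := by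
      rw [hπ1]
      exact f4m_braid_up D L hup
    rw [map_mul, map_mul, map_mul, map_inv, map_inv] at h1
    simp only [map_mul] at h1
    have h2 := mul_inv_eq_one.mp h1
    have h3 := mul_inv_eq_iff_eq_mul.mp h2
    rw [h3]
    simp only [mul_assoc]
  -- every class lies in the closure of the two reflections
  have hcl : Subgroup.closure ((D.Ht L : Set E) ∪ {D.Ra.nt L, D.Rb.nt L}) ≤
      ((Subgroup.closure ({π na, π nb} : Set (↥(D.Nt L) ⧸ (D.Ht L).subgroupOf (D.Nt L)))).comap π).map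
        (D.Nt L).subtype := by
    rw [Subgroup.closure_le]
    rintro x (hx | hx | hx)
    · refine ⟨⟨x, f4m_Ht_le_Nt D L hx⟩, ?_, rfl⟩
      rw [SetLike.mem_coe, Subgroup.mem_comap, (hπ1 ⟨x, f4m_Ht_le_Nt D L hx⟩).mpr hx]
      exact Subgroup.one_mem _
    · refine ⟨na, ?_, hx.symm⟩
      exact Subgroup.subset_closure (Or.inl rfl)
    · rw [Set.mem_singleton_iff] at hx
      refine ⟨nb, ?_, hx.symm⟩
      exact Subgroup.subset_closure (Or.inr rfl)
  obtain ⟨m', hm', em⟩ := hcl hm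
  obtain ⟨k, hk, hq⟩ := f4m_torn_dih_cases ha hb hbr _ hm'
  have key : ∀ m₁ : ↥(D.Nt L), π m' = π m₁ → ∃ h ∈ D.Ht L, m = h * (m₁ : E) := by
    intro m₁ e
    have e1 : π (m'⁻¹ * m₁) = 1 := by rw [map_mul, map_inv, e, inv_mul_cancel]
    rw [hπ1] at e1
    have e2 : m⁻¹ * (m₁ : E) ∈ D.Ht L := by
      rw [← em]; exact e1
    refine ⟨m * (m⁻¹ * (m₁ : E))⁻¹ * m⁻¹, (f4m_Nt_conj_Ht D L hup m hm _ ((D.Ht L).inv_mem e2)).1, ?_⟩
    group
  rcases hq with hq | hq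
  · rw [← map_mul, ← map_pow] at hq
    obtain ⟨h, hh, e⟩ := key _ hq
    exact ⟨h, hh, k, hk, Or.inl e⟩
  · rw [← map_mul, ← map_pow, ← map_mul] at hq
    obtain ⟨h, hh, e⟩ := key _ hq
    refine ⟨h, hh, k, hk, Or.inr ?_⟩
    rw [e, mul_assoc]
    rfl

theorem f4m_map_Nt (hup : D.Up L) {m : E} (hm : m ∈ D.Nt L) : σ m ∈ D.N := by
  have hcl : Subgroup.closure ((D.Ht L : Set E) ∪ {D.Ra.nt L, D.Rb.nt L}) ≤ D.N.comap σ := by
    rw [Subgroup.closure_le]
    rintro x (hx | hx | hx)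
    · exact Subgroup.subset_closure (Or.inl (f4m_map_Ht D L hup hx))
    · rw [hx]
      show σ _ ∈ D.N
      rw [f4m_map_nt L hup.ok.oka (f4m_Xa_isPGroup D L hup)]
      exact Subgroup.subset_closure (Or.inr (Or.inl rfl))
    · rw [Set.mem_singleton_iff] at hx
      rw [hx]
      show σ _ ∈ D.N
      rw [f4m_map_nt L hup.ok.okb (f4m_Xb_isPGroup D L hup)]
      exact Subgroup.subset_closure (Or.inr (Or.inr rfl))
  exact hcl hm

/-- an element of `Ñ` above `H` lies in `H̃`. -/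
theorem f4m_Nt_map_mem_H (hup : D.Up L) {m : E} (hm : m ∈ D.Nt L) (h : σ m ∈ D.H) : m ∈ D.Ht L := by
  have ena : σ (D.Ra.nt L) = D.Ra.n := f4m_map_nt L hup.ok.oka (f4m_Xa_isPGroup D L hup)
  have enb : σ (D.Rb.nt L) = D.Rb.n := f4m_map_nt L hup.ok.okb (f4m_Xb_isPGroup D L hup)
  have er : ∀ k : ℕ, σ ((D.Ra.nt L * D.Rb.nt L) ^ k) = (D.Ra.n * D.Rb.n) ^ k := by
    intro k; rw [map_pow, map_mul, ena, enb]
  obtain ⟨h', hh', k, hk, e | e⟩ := f4m_Nt_cases D L hup m hm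
  · have e2 : (D.Ra.n * D.Rb.n) ^ k = (σ h')⁻¹ * σ m := by
      rw [e, map_mul, er]; group
    have h3 : (D.Ra.n * D.Rb.n) ^ k ∈ D.H := by
      rw [e2]
      exact D.H.mul_mem (D.H.inv_mem (f4m_map_Ht D L hup hh')) h
    have hk0 := (hup.ok.cox k hk).1 h3
    subst hk0
    rw [e, pow_zero, mul_one]
    exact hh'
  · exfalso
    have e2 : D.Ra.n * (D.Ra.n * D.Rb.n) ^ k = (σ h')⁻¹ * σ m := by
      rw [e, map_mul, map_mul, er, ena]; group
    apply (hup.ok.cox k hk).2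
    rw [e2]
    exact D.H.mul_mem (D.H.inv_mem (f4m_map_Ht D L hup hh')) h

end Cfsg.Agent.F4M
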