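import Mathlib
import Cfsg.Agent.F4M.OctRank
import Cfsg.Agent.F4M.OctTorN

set_option autoImplicit false

/-! S2114 package B1d (file `Cfsg/Agent/F4M/OctCells.lean`): the closure argument upstairs, `⟨X̃_{±a}, X̃_{±b}⟩ ⊆ B̃ Ñ B̃`; port of
`CtRecT/TClosD.lean` (`up_dec_*`, `up_dich_*`, `cells_mul_left_*`, `gen_subset_cells`) using `f4m_bn_step` and
`closure_subset_of_mul_left` (CtRecT/TClos.lean).  Prefix `f4m_cells_` (extra helpers: `f4m_octcells_*`). -/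

namespace Cfsg.Agent.F4M

open Cfsg.Agent.CtRecT

variable {G E : Type*} [Group G] [Group E] {σ : E →* G} {p : ℕ} (D : OctDat G) (L : PLift σ p)

theorem f4m_mem_Ut (hup : D.Up L) {e : E} : e ∈ D.Ut L ↔ ∃ u ∈ D.U, e = L.pl u :=
  f4m_mem_closure_pl L hup.hU

/-- `Btset` is the subgroup `bsub Ũ H̃`. -/
theorem f4m_Btset_eq (hup : D.Up L) :
    D.Btset L = (bsub (D.Ut L) (D.Ht L) (f4m_Ht_conj_Ut D L hup) : Set E) := by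
  ext e
  exact Iff.rfl

/-- elements of `U` are `p`-elements. -/
theorem f4m_octcells_pel_U (hup : D.Up L) {u : G} (hu : u ∈ D.U) : ∃ n : ℕ, u ^ p ^ n = 1 :=
  PLift.pl_mem_of_isPGroup hup.hU hu

/-- a generic version of `up_dec`. -/
theorem f4m_octcells_dec (hup : D.Up L) {R : R1 G} (hR : R.Ok) (hRX : R.X ≤ D.U) {Uc : Subgroup G} (hUc : Uc ≤ D.U)
    (hdec : ∀ u ∈ D.U, ∃ v ∈ Uc, ∃ x ∈ R.X, u = v * x) (hn : ∀ v ∈ Uc, R.n * v * R.n⁻¹ ∈ D.U) :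
    ∀ u ∈ D.Ut L, ∃ v, R.nt L * v * (R.nt L)⁻¹ ∈ D.Ut L ∧ ∃ x ∈ R.Xt L, u = v * x := by
  intro u hu
  obtain ⟨u₀, hu₀, rfl⟩ := (f4m_mem_Ut D L hup).mp hu
  obtain ⟨v₀, hv₀, x₀, hx₀, rfl⟩ := hdec u₀ hu₀
  have hvU := hUc hv₀
  have hXp : IsPGroup p R.X := hup.hU.to_le hRX
  refine ⟨L.pl v₀, ?_, L.pl x₀, Subgroup.subset_closure ⟨x₀, hx₀, rfl⟩, ?_⟩
  · rw [L.conj_pl _ (f4m_octcells_pel_U D L hup hvU), f4m_map_nt L hR hXp]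
    exact (f4m_mem_Ut D L hup).mpr ⟨_, hn v₀ hv₀, rfl⟩
  · exact L.pl_mul D.U hup.hU v₀ hvU x₀ (hRX hx₀)

theorem f4m_up_dec_a (hup : D.Up L) : ∀ u ∈ D.Ut L, ∃ v, D.Ra.nt L * v * (D.Ra.nt L)⁻¹ ∈ D.Ut L ∧
    ∃ x ∈ D.Ra.Xt L, u = v * x :=
  f4m_octcells_dec D L hup hup.ok.oka hup.ok.Xa_le hup.ok.Ua_le hup.ok.dec_a hup.ok.na_Ua

theorem f4m_up_dec_b (hup : D.Up L) : ∀ u ∈ D.Ut L, ∃ v, D.Rb.nt L * v * (D.Rb.nt L)⁻¹ ∈ D.Ut L ∧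
    ∃ x ∈ D.Rb.Xt L, u = v * x :=
  f4m_octcells_dec D L hup hup.ok.okb hup.ok.Xb_le hup.ok.Ub_le hup.ok.dec_b hup.ok.nb_Ub

/-- a generic version of `up_dich`. -/
theorem f4m_octcells_dich (hup : D.Up L) {R : R1 G} (hR : R.Ok) (hRX : R.X ≤ D.U)
    (hdich : ∀ n ∈ D.N, (∀ x ∈ R.X, n⁻¹ * x * n ∈ D.U) ∨ (∀ x ∈ R.X, (R.n⁻¹ * n)⁻¹ * x * (R.n⁻¹ * n) ∈ D.U))
    {m : E} (hm : m ∈ D.Nt L) :
    (∀ x ∈ R.Xt L, m⁻¹ * x * m ∈ D.Ut L) ∨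
      (∀ x ∈ R.Xt L, ((R.nt L)⁻¹ * m)⁻¹ * x * ((R.nt L)⁻¹ * m) ∈ D.Ut L) := by
  have hXp : IsPGroup p R.X := hup.hU.to_le hRX
  rcases hdich (σ m) (f4m_map_Nt D L hup hm) with h | h
  · left
    intro x hx
    obtain ⟨x₀, hx₀, rfl⟩ := (f4m_mem_closure_pl L hXp).mp hx
    rw [L.conj_pl' m (PLift.pl_mem_of_isPGroup hXp hx₀)]
    exact (f4m_mem_Ut D L hup).mpr ⟨_, h x₀ hx₀, rfl⟩
  · right
    intro x hx
    obtain ⟨x₀, hx₀, rfl⟩ := (f4m_mem_closure_pl L hXp).mp hx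
    rw [L.conj_pl' _ (PLift.pl_mem_of_isPGroup hXp hx₀)]
    have e : σ ((R.nt L)⁻¹ * m) = R.n⁻¹ * σ m := by
      rw [map_mul, map_inv, f4m_map_nt L hR hXp]
    rw [e]
    exact (f4m_mem_Ut D L hup).mpr ⟨_, h x₀ hx₀, rfl⟩

theorem f4m_up_dich_a (hup : D.Up L) {m : E} (hm : m ∈ D.Nt L) :
    (∀ x ∈ D.Ra.Xt L, m⁻¹ * x * m ∈ D.Ut L) ∨
      (∀ x ∈ D.Ra.Xt L, ((D.Ra.nt L)⁻¹ * m)⁻¹ * x * ((D.Ra.nt L)⁻¹ * m) ∈ D.Ut L) :=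
  f4m_octcells_dich D L hup hup.ok.oka hup.ok.Xa_le hup.ok.dich_a hm

theorem f4m_up_dich_b (hup : D.Up L) {m : E} (hm : m ∈ D.Nt L) :
    (∀ x ∈ D.Rb.Xt L, m⁻¹ * x * m ∈ D.Ut L) ∨
      (∀ x ∈ D.Rb.Xt L, ((D.Rb.nt L)⁻¹ * m)⁻¹ * x * ((D.Rb.nt L)⁻¹ * m) ∈ D.Ut L) :=
  f4m_octcells_dich D L hup hup.ok.okb hup.ok.Xb_le hup.ok.dich_b hm

/-- a generic version of `up_bruhat` (the torus element lands in `T̃ = L̃ ∩ σ⁻¹(T)`). -/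
theorem f4m_octcells_bruhat {R : R1 G} (hR : R.Ok) (hXp : IsPGroup p R.X) :
    ∀ x ∈ R.Xt L, x ≠ 1 → ∃ x' ∈ R.Xt L, ∃ t ∈ R.Tt L, ∃ x'' ∈ R.Xt L,
      R.nt L * x * (R.nt L)⁻¹ = x' * t * R.nt L * x'' := by
  intro x hx hx1
  obtain ⟨x₀, hx₀, rfl⟩ := (f4m_mem_closure_pl L hXp).mp hx
  have hx₀1 : x₀ ≠ 1 := by
    rintro rfl
    exact hx1 L.pl_one
  obtain ⟨x₁, hx₁, t₀, ht₀, x₂, hx₂, hbr⟩ := hR.bruhat x₀ hx₀ hx₀1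
  have hpel : ∀ g ∈ R.X, ∃ n : ℕ, g ^ p ^ n = 1 := fun g hg => PLift.pl_mem_of_isPGroup hXp hg
  have hmemX : ∀ g ∈ R.X, L.pl g ∈ R.Xt L := fun g hg => Subgroup.subset_closure ⟨g, hg, rfl⟩
  have hXL : R.Xt L ≤ R.Lt L := le_sup_left
  have hnL : R.nt L ∈ R.Lt L := f4m_nt_mem_Lt L hR
  refine ⟨L.pl x₁, hmemX x₁ hx₁,
    (L.pl x₁)⁻¹ * (R.nt L * L.pl x₀ * (R.nt L)⁻¹) * (L.pl x₂)⁻¹ * (R.nt L)⁻¹, ?_,
    L.pl x₂, hmemX x₂ hx₂, by group⟩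
  refine Subgroup.mem_inf.mpr ⟨?_, ?_⟩
  · have h1 := hXL (hmemX x₁ hx₁)
    have h0 := hXL (hmemX x₀ hx₀)
    have h2 := hXL (hmemX x₂ hx₂)
    exact (R.Lt L).mul_mem ((R.Lt L).mul_mem ((R.Lt L).mul_mem ((R.Lt L).inv_mem h1)
      ((R.Lt L).mul_mem ((R.Lt L).mul_mem hnL h0) ((R.Lt L).inv_mem hnL))) ((R.Lt L).inv_mem h2))
      ((R.Lt L).inv_mem hnL)
  · rw [Subgroup.mem_comap]
    simp only [map_mul, map_inv]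
    rw [L.map_pl x₁ (hpel x₁ hx₁), L.map_pl x₀ (hpel x₀ hx₀), L.map_pl x₂ (hpel x₂ hx₂),
      f4m_map_nt L hR hXp, hbr]
    have : x₁⁻¹ * (x₁ * t₀ * R.n * x₂) * x₂⁻¹ * R.n⁻¹ = t₀ := by group
    rw [this]
    exact ht₀

/-- the rank-one Bruhat relation upstairs (no injectivity needed: `t̃ := x̃'⁻¹ (ñ x̃ ñ⁻¹) x̃''⁻¹ ñ⁻¹ ∈ L̃` lies above `T`). -/
theorem f4m_up_bruhat_a (hup : D.Up L) : ∀ x ∈ D.Ra.Xt L, x ≠ 1 → ∃ x' ∈ D.Ra.Xt L, ∃ t ∈ D.Ht L, ∃ x'' ∈ D.Ra.Xt L,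
    D.Ra.nt L * x * (D.Ra.nt L)⁻¹ = x' * t * D.Ra.nt L * x'' := by
  intro x hx hx1
  obtain ⟨x', hx', t, ht, x'', hx'', e⟩ :=
    f4m_octcells_bruhat L hup.ok.oka (f4m_Xa_isPGroup D L hup) x hx hx1
  exact ⟨x', hx', t, (le_sup_left : D.Ra.Tt L ≤ D.Ht L) ht, x'', hx'', e⟩

theorem f4m_up_bruhat_b (hup : D.Up L) : ∀ x ∈ D.Rb.Xt L, x ≠ 1 → ∃ x' ∈ D.Rb.Xt L, ∃ t ∈ D.Ht L, ∃ x'' ∈ D.Rb.Xt L,
    D.Rb.nt L * x * (D.Rb.nt L)⁻¹ = x' * t * D.Rb.nt L * x'' := by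
  intro x hx hx1
  obtain ⟨x', hx', t, ht, x'', hx'', e⟩ :=
    f4m_octcells_bruhat L hup.ok.okb (f4m_Xb_isPGroup D L hup) x hx hx1
  exact ⟨x', hx', t, (le_sup_right : D.Rb.Tt L ≤ D.Ht L) ht, x'', hx'', e⟩

theorem f4m_one_mem_cells : (1 : E) ∈ D.cells L :=
  ⟨1, ⟨1, Subgroup.one_mem _, 1, Subgroup.one_mem _, by group⟩, 1, Subgroup.one_mem _,
    1, ⟨1, Subgroup.one_mem _, 1, Subgroup.one_mem _, by group⟩, by group⟩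

theorem f4m_cells_mul_left_Bt (hup : D.Up L) {b e : E} (hb : b ∈ D.Btset L) (he : e ∈ D.cells L) : b * e ∈ D.cells L := by
  obtain ⟨b₁, hb₁, m, hm, b₂, hb₂, rfl⟩ := he
  refine ⟨b * b₁, ?_, m, hm, b₂, hb₂, by group⟩
  rw [f4m_Btset_eq D L hup] at hb hb₁ ⊢
  exact Subgroup.mul_mem _ hb hb₁

/-- a generic version of `cells_mul_left_n`. -/
theorem f4m_octcells_mul_left (hup : D.Up L) {R : R1 G} (hRX : R.Xt L ≤ D.Ut L) (hnN : R.nt L ∈ D.Nt L)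
    (hsq : R.nt L * R.nt L ∈ D.Ht L)
    (hconj : ∀ h ∈ D.Ht L, R.nt L * h * (R.nt L)⁻¹ ∈ D.Ht L ∧ (R.nt L)⁻¹ * h * R.nt L ∈ D.Ht L)
    (hbr : ∀ x ∈ R.Xt L, x ≠ 1 → ∃ x' ∈ R.Xt L, ∃ t ∈ D.Ht L, ∃ x'' ∈ R.Xt L,
      R.nt L * x * (R.nt L)⁻¹ = x' * t * R.nt L * x'')
    (hdec : ∀ u ∈ D.Ut L, ∃ v, R.nt L * v * (R.nt L)⁻¹ ∈ D.Ut L ∧ ∃ x ∈ R.Xt L, u = v * x)
    (hdich : ∀ m ∈ D.Nt L, (∀ x ∈ R.Xt L, m⁻¹ * x * m ∈ D.Ut L) ∨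
      (∀ x ∈ R.Xt L, ((R.nt L)⁻¹ * m)⁻¹ * x * ((R.nt L)⁻¹ * m) ∈ D.Ut L))
    {e : E} (he : e ∈ D.cells L) : R.nt L * e ∈ D.cells L := by
  obtain ⟨b₁, hb₁, m, hm, b₂, hb₂, rfl⟩ := he
  rw [f4m_Btset_eq D L hup] at hb₁ hb₂
  have hinv : ∃ β ∈ D.Ht L, (R.nt L)⁻¹ = R.nt L * β :=
    ⟨(R.nt L * R.nt L)⁻¹, (D.Ht L).inv_mem hsq, by group⟩
  have hstep := f4m_bn_step (D.Ut L) (D.Ht L) (f4m_Ht_conj_Ut D L hup) (R.Xt L) (R.nt L) hRX hsq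
    (fun h hh => (hconj h hh).2) (fun h hh => (hconj h hh).1) hinv hbr hdec
    (fun h hh => (f4m_Nt_conj_Ht D L hup m hm h hh).2) (hdich m hm) hb₁
  rcases hstep with ⟨c₁, hc₁, c₂, hc₂, e⟩ | ⟨c₁, hc₁, c₂, hc₂, e⟩
  · refine ⟨c₁, ?_, R.nt L * m, (D.Nt L).mul_mem hnN hm, c₂ * b₂, ?_, ?_⟩
    · rw [f4m_Btset_eq D L hup]; exact hc₁
    · rw [f4m_Btset_eq D L hup]; exact Subgroup.mul_mem _ hc₂ hb₂
    · have e' : R.nt L * (b₁ * m * b₂) = (R.nt L * b₁ * m) * b₂ := by group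
      rw [e', e]
      group
  · refine ⟨c₁, ?_, m, hm, c₂ * b₂, ?_, ?_⟩
    · rw [f4m_Btset_eq D L hup]; exact hc₁
    · rw [f4m_Btset_eq D L hup]; exact Subgroup.mul_mem _ hc₂ hb₂
    · have e' : R.nt L * (b₁ * m * b₂) = (R.nt L * b₁ * m) * b₂ := by group
      rw [e', e]
      group

/-- the lifted root groups lie in `Ũ`. -/
theorem f4m_octcells_Xt_le {R : R1 G} (hRX : R.X ≤ D.U) : R.Xt L ≤ D.Ut L :=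
  Subgroup.closure_mono (Set.image_mono (fun _ hx => hRX hx))

theorem f4m_cells_mul_left_nta (hup : D.Up L) {e : E} (he : e ∈ D.cells L) : D.Ra.nt L * e ∈ D.cells L :=
  f4m_octcells_mul_left D L hup (f4m_octcells_Xt_le D L hup.ok.Xa_le) (f4m_nta_mem_Nt D L) (f4m_nta_sq D L hup)
    (f4m_nta_conj_Ht D L hup) (f4m_up_bruhat_a D L hup) (f4m_up_dec_a D L hup)
    (fun _ hm => f4m_up_dich_a D L hup hm) he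

theorem f4m_cells_mul_left_ntb (hup : D.Up L) {e : E} (he : e ∈ D.cells L) : D.Rb.nt L * e ∈ D.cells L :=
  f4m_octcells_mul_left D L hup (f4m_octcells_Xt_le D L hup.ok.Xb_le) (f4m_ntb_mem_Nt D L) (f4m_ntb_sq D L hup)
    (f4m_ntb_conj_Ht D L hup) (f4m_up_bruhat_b D L hup) (f4m_up_dec_b D L hup)
    (fun _ hm => f4m_up_dich_b D L hup hm) he

/-- the group generated by the lifted root groups lies in `B̃ Ñ B̃`. -/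
theorem f4m_gen_subset_cells [Finite E] (hup : D.Up L) : ∀ e ∈ D.gent L, e ∈ D.cells L := by
  have hcl := closure_subset_of_mul_left
    ((D.Btset L : Set E) ∪ {D.Ra.nt L, D.Rb.nt L}) (D.cells L) (f4m_one_mem_cells D L)
    (by
      rintro s (hs | hs | hs) g hg
      · exact f4m_cells_mul_left_Bt D L hup hs hg
      · rw [hs]; exact f4m_cells_mul_left_nta D L hup hg
      · rw [Set.mem_singleton_iff] at hs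
        rw [hs]; exact f4m_cells_mul_left_ntb D L hup hg)
  intro e he
  apply hcl
  revert e
  show D.gent L ≤ _
  have hBt : ∀ x ∈ D.Ut L, x ∈ Subgroup.closure ((D.Btset L : Set E) ∪ {D.Ra.nt L, D.Rb.nt L}) :=
    fun x hx => Subgroup.subset_closure (Or.inl ⟨x, hx, 1, Subgroup.one_mem _, by group⟩)
  have hna : D.Ra.nt L ∈ Subgroup.closure ((D.Btset L : Set E) ∪ {D.Ra.nt L, D.Rb.nt L}) :=
    Subgroup.subset_closure (Or.inr (Or.inl rfl))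
  have hnb : D.Rb.nt L ∈ Subgroup.closure ((D.Btset L : Set E) ∪ {D.Ra.nt L, D.Rb.nt L}) :=
    Subgroup.subset_closure (Or.inr (Or.inr rfl))
  have hXa : D.Ra.Xt L ≤ Subgroup.closure ((D.Btset L : Set E) ∪ {D.Ra.nt L, D.Rb.nt L}) :=
    fun x hx => hBt x (f4m_octcells_Xt_le D L hup.ok.Xa_le hx)
  have hXb : D.Rb.Xt L ≤ Subgroup.closure ((D.Btset L : Set E) ∪ {D.Ra.nt L, D.Rb.nt L}) :=
    fun x hx => hBt x (f4m_octcells_Xt_le D L hup.ok.Xb_le hx)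
  have hYa : D.Ra.Yt L ≤ Subgroup.closure ((D.Btset L : Set E) ∪ {D.Ra.nt L, D.Rb.nt L}) := by
    intro y hy
    have h1 := hXa ((f4m_nt_conj_Xt L hup.ok.oka (f4m_Xa_isPGroup D L hup)).2 y hy)
    have e : y = (D.Ra.nt L)⁻¹ * (D.Ra.nt L * y * (D.Ra.nt L)⁻¹) * D.Ra.nt L := by group
    rw [e]
    exact Subgroup.mul_mem _ (Subgroup.mul_mem _ (Subgroup.inv_mem _ hna) h1) hna
  have hYb : D.Rb.Yt L ≤ Subgroup.closure ((D.Btset L : Set E) ∪ {D.Ra.nt L, D.Rb.nt L}) := by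
    intro y hy
    have h1 := hXb ((f4m_nt_conj_Xt L hup.ok.okb (f4m_Xb_isPGroup D L hup)).2 y hy)
    have e : y = (D.Rb.nt L)⁻¹ * (D.Rb.nt L * y * (D.Rb.nt L)⁻¹) * D.Rb.nt L := by group
    rw [e]
    exact Subgroup.mul_mem _ (Subgroup.mul_mem _ (Subgroup.inv_mem _ hnb) h1) hnb
  exact sup_le (sup_le hXa hYa) (sup_le hXb hYb)

end Cfsg.Agent.F4M
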