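import Mathlib
import Cfsg.Agent.F4M.OctCells

set_option autoImplicit false

/-! S2114 package B1e (file `Cfsg/Agent/F4M/OctEnd.lean`): the kernel meets `B̃ Ñ B̃` trivially; Theorem II.  Port of `CtRecT/TEnd.lean`.
Prefix `f4m_end_`. -/

namespace Cfsg.Agent.F4M

open Cfsg.Agent.CtRecT

variable {G E : Type*} [Group G] [Group E] {σ : E →* G} {p : ℕ} (D : OctDat G) (L : PLift σ p)

/-- elements of `U` are `p`-elements. -/
theorem f4m_end_pel_of_mem_U {D : OctDat G} (hU : IsPGroup p D.U) {u : G} (hu : u ∈ D.U) :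
    ∃ n : ℕ, u ^ p ^ n = 1 := by
  obtain ⟨k, hk⟩ := hU ⟨u, hu⟩
  exact ⟨k, by simpa using congrArg Subtype.val hk⟩

theorem f4m_map_Bt (hup : D.Up L) {b : E} (hb : b ∈ D.Btset L) : ∃ u ∈ D.U, ∃ h ∈ D.H, σ b = u * h := by
  obtain ⟨ut, hut, ht, hht, rfl⟩ := hb
  obtain ⟨u, hu, rfl⟩ := (f4m_mem_Ut D L hup).mp hut
  refine ⟨u, hu, σ ht, f4m_map_Ht D L hup hht, ?_⟩
  rw [map_mul, L.map_pl u (f4m_end_pel_of_mem_U hup.hU hu)]

/-- the image of `B̃` lies in the Borel subgroup `U H` downstairs. -/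
theorem f4m_end_map_Bt_mem (hup : D.Up L) {b : E} (hb : b ∈ D.Btset L) :
    σ b ∈ bsub D.U D.H hup.ok.H_U := by
  obtain ⟨u, hu, h, hh, e⟩ := f4m_map_Bt D L hup hb
  exact ⟨u, hu, h, hh, e⟩

theorem f4m_ker_inf_Bt (hup : D.Up L) {z : E} (hz : σ z = 1) (hb : z ∈ D.Btset L) : z = 1 := by
  obtain ⟨ut, hut, ht, hht, rfl⟩ := hb
  obtain ⟨u, hu, rfl⟩ := (f4m_mem_Ut D L hup).mp hut
  rw [map_mul, L.map_pl u (f4m_end_pel_of_mem_U hup.hU hu)] at hz
  have hσh := f4m_map_Ht D L hup hht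
  have hu1 : u = 1 := by
    apply hup.ok.U_inf_H u hu
    have : u = (σ ht)⁻¹ := eq_inv_of_mul_eq_one_left hz
    rw [this]
    exact D.H.inv_mem hσh
  subst hu1
  rw [one_mul] at hz
  rw [L.pl_one, one_mul]
  exact f4m_Ht_inf_ker D L hup hht hz

/-- an element of `ker σ` of the form `b₁ m b₂` is `1`. -/
theorem f4m_ker_inf_cells (hup : D.Up L) {z : E} (hz : σ z = 1) (hc : z ∈ D.cells L) : z = 1 := by
  obtain ⟨b₁, hb₁, m, hm, b₂, hb₂, rfl⟩ := hc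
  have h1 := f4m_end_map_Bt_mem D L hup hb₁
  have h2 := f4m_end_map_Bt_mem D L hup hb₂
  have hn : σ m ∈ D.N := f4m_map_Nt D L hup hm
  rw [map_mul, map_mul] at hz
  have e : σ m = (σ b₁)⁻¹ * (σ b₂)⁻¹ := by
    calc σ m = (σ b₁)⁻¹ * (σ b₁ * σ m * σ b₂) * (σ b₂)⁻¹ := by group
      _ = (σ b₁)⁻¹ * (σ b₂)⁻¹ := by rw [hz, mul_one]
  have hmB : σ m ∈ bsub D.U D.H hup.ok.H_U := by
    rw [e]
    exact Subgroup.mul_mem _ (Subgroup.inv_mem _ h1) (Subgroup.inv_mem _ h2)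
  obtain ⟨u, hu, h, hh, e'⟩ := hmB
  have hu1 : u = 1 := hup.ok.B_inf_N u hu h hh (e' ▸ hn)
  rw [hu1, one_mul] at e'
  have hmH : m ∈ D.Ht L := f4m_Nt_map_mem_H D L hup hm (e' ▸ hh)
  apply f4m_ker_inf_Bt D L hup
  · rw [map_mul, map_mul]; exact hz
  · rw [f4m_Btset_eq D L hup] at hb₁ hb₂ ⊢
    exact Subgroup.mul_mem _ (Subgroup.mul_mem _ hb₁ (Hs_le_bsub _ _ _ hmH)) hb₂

/-- the lift of an element of a `p`-subgroup lies in the closure of the lifts, and maps to it. -/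
theorem f4m_end_pl_mem {P : Subgroup G} (hP : IsPGroup p P) {x : G} (hx : x ∈ P) :
    L.pl x ∈ Subgroup.closure (L.pl '' (P : Set G)) ∧ σ (L.pl x) = x := by
  refine ⟨Subgroup.subset_closure ⟨x, hx, rfl⟩, L.map_pl x ?_⟩
  obtain ⟨k, hk⟩ := hP ⟨x, hx⟩
  exact ⟨k, by simpa using congrArg Subtype.val hk⟩

/-- every element of `E` is (element of the group generated by the lifted root groups) · (element of the kernel). -/
theorem f4m_exists_gen_mul_ker (hup : D.Up L) (hs : Function.Surjective σ) (e : E) :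
    ∃ g ∈ D.gent L, ∃ z ∈ σ.ker, e = g * z := by
  have hXa := f4m_Xa_isPGroup D L hup
  have hXb := f4m_Xb_isPGroup D L hup
  have hYa := f4m_Y_isPGroup hup.ok.oka hXa
  have hYb := f4m_Y_isPGroup hup.ok.okb hXb
  have htop : σ e ∈ D.gen := by rw [hup.ok.top]; trivial
  have hle : D.gen ≤ (D.gent L).map σ := by
    unfold OctDat.gen R1.L
    refine sup_le (sup_le ?_ ?_) (sup_le ?_ ?_)
    · intro x hx
      obtain ⟨h1, h2⟩ := f4m_end_pl_mem L hXa hx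
      exact ⟨L.pl x, (le_sup_left : D.Ra.Lt L ≤ D.gent L)
        ((le_sup_left : D.Ra.Xt L ≤ D.Ra.Lt L) h1), h2⟩
    · intro x hx
      obtain ⟨h1, h2⟩ := f4m_end_pl_mem L hYa hx
      exact ⟨L.pl x, (le_sup_left : D.Ra.Lt L ≤ D.gent L)
        ((le_sup_right : D.Ra.Yt L ≤ D.Ra.Lt L) h1), h2⟩
    · intro x hx
      obtain ⟨h1, h2⟩ := f4m_end_pl_mem L hXb hx
      exact ⟨L.pl x, (le_sup_right : D.Rb.Lt L ≤ D.gent L)
        ((le_sup_left : D.Rb.Xt L ≤ D.Rb.Lt L) h1), h2⟩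
    · intro x hx
      obtain ⟨h1, h2⟩ := f4m_end_pl_mem L hYb hx
      exact ⟨L.pl x, (le_sup_right : D.Rb.Lt L ≤ D.gent L)
        ((le_sup_right : D.Rb.Yt L ≤ D.Rb.Lt L) h1), h2⟩
  obtain ⟨g, hg, e'⟩ := hle htop
  refine ⟨g, hg, g⁻¹ * e, ?_, by group⟩
  rw [MonoidHom.mem_ker, map_mul, map_inv, e', inv_mul_cancel]

/-- the commutator of two elements does not change when they are multiplied by central elements. -/
theorem f4m_end_comm_central {a b g g' z z' : E} (ea : a = g * z) (eb : b = g' * z')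
    (ca : ∀ x : E, z * x = x * z) (cb : ∀ x : E, z' * x = x * z') :
    a * b * a⁻¹ * b⁻¹ = g * g' * g⁻¹ * g'⁻¹ := by
  rw [ea, eb]
  have i1 : (g * z)⁻¹ = g⁻¹ * z⁻¹ := by
    rw [mul_inv_rev]
    have := ca g⁻¹
    calc z⁻¹ * g⁻¹ = z⁻¹ * (g⁻¹ * z) * z⁻¹ := by group
      _ = z⁻¹ * (z * g⁻¹) * z⁻¹ := by rw [this]
      _ = g⁻¹ * z⁻¹ := by group
  have i2 : (g' * z')⁻¹ = g'⁻¹ * z'⁻¹ := by
    rw [mul_inv_rev]
    have := cb g'⁻¹
    calc z'⁻¹ * g'⁻¹ = z'⁻¹ * (g'⁻¹ * z') * z'⁻¹ := by group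
      _ = z'⁻¹ * (z' * g'⁻¹) * z'⁻¹ := by rw [this]
      _ = g'⁻¹ * z'⁻¹ := by group
  rw [i1, i2]
  calc g * z * (g' * z') * (g⁻¹ * z⁻¹) * (g'⁻¹ * z'⁻¹)
      = g * (z * (g' * z' * g⁻¹)) * z⁻¹ * (g'⁻¹ * z'⁻¹) := by group
    _ = g * ((g' * z' * g⁻¹) * z) * z⁻¹ * (g'⁻¹ * z'⁻¹) := by rw [ca]
    _ = g * g' * (z' * (g⁻¹ * g'⁻¹)) * z'⁻¹ := by group
    _ = g * g' * ((g⁻¹ * g'⁻¹) * z') * z'⁻¹ := by rw [cb]
    _ = g * g' * g⁻¹ * g'⁻¹ := by group

/-- **Theorem II**: a finite stem extension with unique `p`-lifts of a group with an `OctDat`, with rank-one triviality, is an isomorphism. -/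
theorem f4m_oct_ker_eq_bot [Finite E] (hup : D.Up L) (hs : Function.Surjective σ) (hc : σ.ker ≤ Subgroup.center E)
    (hk : σ.ker ≤ commutator E) : σ.ker = ⊥ := by
  -- the commutator subgroup lies in the group generated by the lifted root elements
  have hcomm : commutator E ≤ D.gent L := by
    rw [commutator_def, Subgroup.commutator_le]
    intro a _ b _
    obtain ⟨g, hg, z, hz, ea⟩ := f4m_exists_gen_mul_ker D L hup hs a
    obtain ⟨g', hg', z', hz', eb⟩ := f4m_exists_gen_mul_ker D L hup hs b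
    have ca : ∀ x : E, z * x = x * z := fun x => (Subgroup.mem_center_iff.mp (hc hz) x).symm
    have cb : ∀ x : E, z' * x = x * z' := fun x => (Subgroup.mem_center_iff.mp (hc hz') x).symm
    show a * b * a⁻¹ * b⁻¹ ∈ _
    rw [f4m_end_comm_central ea eb ca cb]
    exact Subgroup.mul_mem _ (Subgroup.mul_mem _ (Subgroup.mul_mem _ hg hg') (Subgroup.inv_mem _ hg))
      (Subgroup.inv_mem _ hg')
  rw [eq_bot_iff]
  intro z hz
  rw [Subgroup.mem_bot]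
  exact f4m_ker_inf_cells D L hup (MonoidHom.mem_ker.mp hz)
    (f4m_gen_subset_cells D L hup z (hcomm (hk hz)))

end Cfsg.Agent.F4M
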