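import Mathlib
import Cfsg.Agent.F4M.OctDefs
import Cfsg.Agent.CtRecM.OmR1
import Cfsg.Agent.CtRecT.TPL
import Cfsg.Agent.Helper5.SchurAbs

set_option autoImplicit false

/-! S2114 package B2 (file `Cfsg/Agent/F4M/Rk1Lift.lean`): the rank-one triviality `σ injective on L̃` (the hypotheses `inj_a`, `inj_b` of
`OctDat.Up`); blueprint §B2.
* `f4m_rk1_inj` (SL₂ type): from the landed Steinberg rank-one theorem `CtRecM.Rk1.h_mul` (OmR1.lean) applied to the lifted system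
  `liftRk1 S L hp` (CtRecT/TPL.lean): `L̃ = X̃ H̃ ∪ X̃ H̃ w̃ X̃` with `H̃ = {h̃(t)}` (closure argument, `closure_subset_of_mul_left`,
  `Rk1.xm_eq`, `Rk1.h_mul_w_one`, `Rk1.h_mul`, `Rk1.h_conj_xp`, `Rk1.w_conj_xp`), then `hB`, `hW` downstairs.
* `f4m_perfect_inj` (any type): `L̃` is perfect; if the preimage of every `r`-subgroup of `L` (`r ≠ p` prime) is commutative, then a Sylow
  `r`-subgroup of `L̃` is commutative and transfer (`Helper5.SchurAbs.pow_index_eq_one_of_comm`, file Helper5/SchurAbs.lean)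
  kills the `r`-part of `L̃ ∩ ker σ`.
* `f4m_comap_comm_*`: sources of commutative preimages.   Prefix `f4m_rk1_`. -/

namespace Cfsg.Agent.F4M

open Cfsg.Agent.CtRecT Cfsg.Agent.CtRecM
open scoped commutatorElement

/-! ### the two cells of an abstract rank-one system over a finite field -/

section cells

variable {K : Type*} [Field K] {Γ : Type*} [Group Γ] (S : Rk1 K Γ)

/-- the small cell `X T` -/
def f4m_rk1_B : Set Γ := {e | ∃ u t : K, t ≠ 0 ∧ e = S.xp u * S.h t}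

/-- the big cell `X T w X` -/
def f4m_rk1_BwX : Set Γ := {e | ∃ b ∈ f4m_rk1_B S, ∃ v : K, e = b * S.w 1 * S.xp v}

/-- the union of the two cells -/
def f4m_rk1_C : Set Γ := f4m_rk1_B S ∪ f4m_rk1_BwX S

theorem f4m_rk1_h_xp {s : K} (hs : s ≠ 0) (u : K) :
    S.h s * S.xp u = S.xp (s ^ 2 * u) * S.h s := by
  rw [← S.h_conj_xp hs u]
  group

theorem f4m_rk1_xp_h {s : K} (hs : s ≠ 0) (u : K) :
    S.xp u * S.h s = S.h s * S.xp ((s ^ 2)⁻¹ * u) := by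
  have e : s ^ 2 * ((s ^ 2)⁻¹ * u) = u := by
    rw [← mul_assoc, mul_inv_cancel₀ (pow_ne_zero 2 hs), one_mul]
  rw [f4m_rk1_h_xp S hs, e]

theorem f4m_rk1_w_h {s : K} (hs : s ≠ 0) : S.w 1 * S.h s = S.h s⁻¹ * S.w 1 := by
  rw [← S.w_one_conj_h hs]
  group

theorem f4m_rk1_h_w {s : K} (hs : s ≠ 0) : S.h s * S.w 1 = S.w 1 * S.h s⁻¹ := by
  have := f4m_rk1_w_h S (inv_ne_zero hs)
  rw [inv_inv] at this
  exact this.symm

theorem f4m_rk1_w_w [Finite K] : S.w 1 * S.w 1 = S.h (-1) := by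
  have hm1 : (-1 : K) ≠ 0 := neg_ne_zero.mpr one_ne_zero
  have e1 : S.w 1 = (S.w (-1))⁻¹ := by rw [S.w_inv, neg_neg]
  have e2 : S.h (-1) = S.w (-1) * S.w (-1) := rfl
  have e3 : (S.h (-1))⁻¹ = S.h (-1) := by
    rw [S.h_inv_eq hm1, inv_neg, inv_one]
  rw [e1, ← mul_inv_rev, ← e2, e3]

theorem f4m_rk1_w_xp (u : K) : S.w 1 * S.xp u = S.xm (-u) * S.w 1 := by
  have e := S.w_conj_xp (one_ne_zero (α := K)) u
  have e' : -((1 : K) ^ 2)⁻¹ * u = -u := by rw [one_pow, inv_one, neg_one_mul]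
  rw [e'] at e
  rw [← e]
  group

theorem f4m_rk1_xm_eq {c : K} (hc : c ≠ 0) :
    S.xm c = S.xp c⁻¹ * S.h (-c⁻¹) * S.w 1 * S.xp c⁻¹ := by
  rw [S.xm_eq hc, mul_assoc (S.xp c⁻¹) (S.h (-c⁻¹)), S.h_mul_w_one]

theorem f4m_rk1_one_mem_B : (1 : Γ) ∈ f4m_rk1_B S :=
  ⟨0, 1, one_ne_zero, by rw [S.xp_zero, S.h_one, one_mul]⟩

theorem f4m_rk1_xp_mem_B (a : K) : S.xp a ∈ f4m_rk1_B S :=
  ⟨a, 1, one_ne_zero, by rw [S.h_one, mul_one]⟩

theorem f4m_rk1_h_mem_B {s : K} (hs : s ≠ 0) : S.h s ∈ f4m_rk1_B S :=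
  ⟨0, s, hs, by rw [S.xp_zero, one_mul]⟩

theorem f4m_rk1_B_mul [Finite K] {b₁ b₂ : Γ} (h₁ : b₁ ∈ f4m_rk1_B S) (h₂ : b₂ ∈ f4m_rk1_B S) :
    b₁ * b₂ ∈ f4m_rk1_B S := by
  obtain ⟨u, t, ht, rfl⟩ := h₁
  obtain ⟨u', t', ht', rfl⟩ := h₂
  refine ⟨u + t ^ 2 * u', t * t', mul_ne_zero ht ht', ?_⟩
  calc S.xp u * S.h t * (S.xp u' * S.h t')
      = S.xp u * (S.h t * S.xp u') * S.h t' := by group
    _ = S.xp u * (S.xp (t ^ 2 * u') * S.h t) * S.h t' := by rw [f4m_rk1_h_xp S ht]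
    _ = (S.xp u * S.xp (t ^ 2 * u')) * (S.h t * S.h t') := by group
    _ = S.xp (u + t ^ 2 * u') * S.h (t * t') := by rw [S.xp_add, S.h_mul ht ht']

theorem f4m_rk1_B_mul_C [Finite K] {b g : Γ} (hb : b ∈ f4m_rk1_B S) (hg : g ∈ f4m_rk1_C S) :
    b * g ∈ f4m_rk1_C S := by
  rcases hg with hg | ⟨b', hb', v, rfl⟩
  · exact Or.inl (f4m_rk1_B_mul S hb hg)
  · refine Or.inr ⟨b * b', f4m_rk1_B_mul S hb hb', v, ?_⟩
    simp only [mul_assoc]

theorem f4m_rk1_C_mul_B [Finite K] {g b : Γ} (hg : g ∈ f4m_rk1_C S) (hb : b ∈ f4m_rk1_B S) :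
    g * b ∈ f4m_rk1_C S := by
  rcases hg with hg | ⟨b', hb', v, rfl⟩
  · exact Or.inl (f4m_rk1_B_mul S hg hb)
  · obtain ⟨a, s, hs, rfl⟩ := hb
    refine Or.inr ⟨b' * S.h s⁻¹, f4m_rk1_B_mul S hb' (f4m_rk1_h_mem_B S (inv_ne_zero hs)),
      (s ^ 2)⁻¹ * (v + a), ?_⟩
    calc b' * S.w 1 * S.xp v * (S.xp a * S.h s)
        = b' * S.w 1 * ((S.xp v * S.xp a) * S.h s) := by group
      _ = b' * S.w 1 * (S.h s * S.xp ((s ^ 2)⁻¹ * (v + a))) := by
          rw [S.xp_add, f4m_rk1_xp_h S hs]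
      _ = b' * (S.w 1 * S.h s) * S.xp ((s ^ 2)⁻¹ * (v + a)) := by group
      _ = b' * (S.h s⁻¹ * S.w 1) * S.xp ((s ^ 2)⁻¹ * (v + a)) := by rw [f4m_rk1_w_h S hs]
      _ = b' * S.h s⁻¹ * S.w 1 * S.xp ((s ^ 2)⁻¹ * (v + a)) := by group

theorem f4m_rk1_wxw [Finite K] (u : K) : S.w 1 * S.xp u * S.w 1 ∈ f4m_rk1_C S := by
  have hm1 : (-1 : K) ≠ 0 := neg_ne_zero.mpr one_ne_zero
  by_cases hu : u = 0
  · subst hu
    rw [S.xp_zero, mul_one, f4m_rk1_w_w]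
    exact Or.inl (f4m_rk1_h_mem_B S hm1)
  · have hnu : -u ≠ 0 := neg_ne_zero.mpr hu
    have e1 : S.w 1 * S.xp u * S.w 1 = S.xm (-u) * S.h (-1) := by
      rw [f4m_rk1_w_xp, mul_assoc, f4m_rk1_w_w]
    rw [e1, f4m_rk1_xm_eq S hnu]
    have hb : S.xp (-u)⁻¹ * S.h (-(-u)⁻¹) ∈ f4m_rk1_B S :=
      ⟨(-u)⁻¹, -(-u)⁻¹, neg_ne_zero.mpr (inv_ne_zero hnu), rfl⟩
    have hc : S.xp (-u)⁻¹ * S.h (-(-u)⁻¹) * S.w 1 * S.xp (-u)⁻¹ ∈ f4m_rk1_C S :=
      Or.inr ⟨_, hb, (-u)⁻¹, rfl⟩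
    exact f4m_rk1_C_mul_B S hc (f4m_rk1_h_mem_B S hm1)

theorem f4m_rk1_w_mul_C [Finite K] {g : Γ} (hg : g ∈ f4m_rk1_C S) : S.w 1 * g ∈ f4m_rk1_C S := by
  rcases hg with ⟨u, t, ht, rfl⟩ | ⟨b, ⟨u, t, ht, rfl⟩, v, rfl⟩
  · refine Or.inr ⟨S.h t⁻¹, f4m_rk1_h_mem_B S (inv_ne_zero ht), (t ^ 2)⁻¹ * u, ?_⟩
    rw [f4m_rk1_xp_h S ht, ← mul_assoc, f4m_rk1_w_h S ht]
  · have e : S.w 1 * (S.xp u * S.h t * S.w 1 * S.xp v) =
        (S.w 1 * S.xp u * S.w 1) * (S.h t⁻¹ * S.xp v) := by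
      have := f4m_rk1_h_w S ht
      calc S.w 1 * (S.xp u * S.h t * S.w 1 * S.xp v)
          = S.w 1 * S.xp u * (S.h t * S.w 1) * S.xp v := by group
        _ = S.w 1 * S.xp u * (S.w 1 * S.h t⁻¹) * S.xp v := by rw [this]
        _ = (S.w 1 * S.xp u * S.w 1) * (S.h t⁻¹ * S.xp v) := by group
    rw [e]
    exact f4m_rk1_C_mul_B S (f4m_rk1_wxw S u)
      (f4m_rk1_B_mul S (f4m_rk1_h_mem_B S (inv_ne_zero ht)) (f4m_rk1_xp_mem_B S v))

theorem f4m_rk1_xm_mul_C [Finite K] (c : K) {g : Γ} (hg : g ∈ f4m_rk1_C S) :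
    S.xm c * g ∈ f4m_rk1_C S := by
  by_cases hc : c = 0
  · subst hc
    rwa [S.xm_zero, one_mul]
  · rw [f4m_rk1_xm_eq S hc]
    have h1 := f4m_rk1_B_mul_C S (f4m_rk1_xp_mem_B S c⁻¹) hg
    have h2 := f4m_rk1_w_mul_C S h1
    have hb : S.xp c⁻¹ * S.h (-c⁻¹) ∈ f4m_rk1_B S :=
      ⟨c⁻¹, -c⁻¹, neg_ne_zero.mpr (inv_ne_zero hc), rfl⟩
    have h3 := f4m_rk1_B_mul_C S hb h2
    have e : S.xp c⁻¹ * S.h (-c⁻¹) * S.w 1 * S.xp c⁻¹ * g =
        S.xp c⁻¹ * S.h (-c⁻¹) * (S.w 1 * (S.xp c⁻¹ * g)) := by group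
    rw [e]
    exact h3

/-- rank-one Bruhat decomposition of the group generated by the root elements -/
theorem f4m_rk1_sub_le_C [Finite K] [Finite Γ] : ∀ e ∈ S.sub, e ∈ f4m_rk1_C S := by
  intro e he
  refine closure_subset_of_mul_left (Set.range S.xp ∪ Set.range S.xm) (f4m_rk1_C S)
    (Or.inl (f4m_rk1_one_mem_B S)) ?_ e he
  rintro s (⟨a, rfl⟩ | ⟨c, rfl⟩) g hg
  · exact f4m_rk1_B_mul_C S (f4m_rk1_xp_mem_B S a) hg
  · exact f4m_rk1_xm_mul_C S c hg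

end cells

variable {G E : Type*} [Group G] [Group E] {σ : E →* G} {p : ℕ}

/-- SL₂ type: a rank-one system downstairs whose `B`-part and big cell do not meet `1` non-trivially lifts injectively. -/
theorem f4m_rk1_inj [Finite E] {K : Type*} [Field K] [Finite K] (L : PLift σ p) (hp : (p : K) = 0) (S : Rk1 K G)
    (hB : ∀ u t : K, t ≠ 0 → S.xp u * S.h t = 1 → u = 0 ∧ t = 1)
    (hW : ∀ u t v : K, t ≠ 0 → S.xp u * S.h t * S.w 1 * S.xp v ≠ 1)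
    (R : R1 G) (hX : R.X = rk1Xp S) (hY : R.Y = rk1Xm S) :
    ∀ e ∈ R.Lt L, σ e = 1 → e = 1 := by
  intro e he hσ
  have hXr : L.pl '' ((rk1Xp S : Subgroup G) : Set G) = Set.range (liftRk1 S L hp).xp := by
    show L.pl '' Set.range S.xp = Set.range (fun t => L.pl (S.xp t))
    exact (Set.range_comp L.pl S.xp).symm
  have hYr : L.pl '' ((rk1Xm S : Subgroup G) : Set G) = Set.range (liftRk1 S L hp).xm := by
    show L.pl '' Set.range S.xm = Set.range (fun t => L.pl (S.xm t))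
    exact (Set.range_comp L.pl S.xm).symm
  have hLt : R.Lt L = (liftRk1 S L hp).sub := by
    show Subgroup.closure (L.pl '' (R.X : Set G)) ⊔ Subgroup.closure (L.pl '' (R.Y : Set G)) =
      Subgroup.closure (Set.range (liftRk1 S L hp).xp ∪ Set.range (liftRk1 S L hp).xm)
    rw [hX, hY, hXr, hYr, Subgroup.closure_union]
  rw [hLt] at he
  rcases f4m_rk1_sub_le_C (liftRk1 S L hp) e he with ⟨u, t, ht, rfl⟩ | ⟨b, ⟨u, t, ht, rfl⟩, v, rfl⟩
  · rw [map_mul, map_liftRk1_xp, map_liftRk1_h] at hσ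
    obtain ⟨hu, ht1⟩ := hB u t ht hσ
    subst hu ht1
    rw [(liftRk1 S L hp).xp_zero, (liftRk1 S L hp).h_one, one_mul]
  · rw [map_mul, map_mul, map_mul, map_liftRk1_xp, map_liftRk1_h, map_liftRk1_w, map_liftRk1_xp] at hσ
    exact absurd hσ (hW u t v ht)

/-- any type: commutative preimages of the `r`-subgroups of a perfect rank-one group force `σ` injective on `L̃`. -/
theorem f4m_perfect_inj [Finite E] [Fact p.Prime] (L : PLift σ p) (hc : σ.ker ≤ Subgroup.center E)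
    (hZ : (Nat.card σ.ker).Coprime p) (R : R1 G) (hR : R.Ok) (hX : IsPGroup p R.X)
    (hperf : ∀ g ∈ R.L, g ∈ ⁅R.L, R.L⁆)
    (hab : ∀ r : ℕ, r.Prime → r ≠ p → ∀ Q : Subgroup G, Q ≤ R.L → IsPGroup r Q →
      ∀ x ∈ Q.comap σ, ∀ y ∈ Q.comap σ, x * y = y * x) :
    ∀ e ∈ R.Lt L, σ e = 1 → e = 1 := by
  classical
  -- `p`-elements
  have hXp : ∀ x ∈ R.X, ∃ k : ℕ, x ^ p ^ k = 1 := fun x hx => by
    obtain ⟨k, hk⟩ := hX ⟨x, hx⟩
    refine ⟨k, ?_⟩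
    have := congrArg Subtype.val hk
    rwa [Subgroup.coe_pow, Subgroup.coe_one] at this
  have hYp : ∀ y ∈ R.Y, ∃ k : ℕ, y ^ p ^ k = 1 := fun y hy => by
    obtain ⟨k, hk⟩ := hXp _ (hR.conj_Y y hy)
    refine ⟨k, ?_⟩
    rw [conj_pow] at hk
    have : y ^ p ^ k = R.n⁻¹ * (R.n * y ^ p ^ k * R.n⁻¹) * R.n := by group
    rw [this, hk]; group
  have hXM : ∀ x ∈ R.X, L.pl x ∈ R.Lt L := fun x hx =>
    Subgroup.mem_sup_left (Subgroup.subset_closure ⟨x, hx, rfl⟩)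
  have hYM : ∀ y ∈ R.Y, L.pl y ∈ R.Lt L := fun y hy =>
    Subgroup.mem_sup_right (Subgroup.subset_closure ⟨y, hy, rfl⟩)
  have hmap : (R.Lt L).map σ = R.L := by
    rw [R1.Lt, Subgroup.map_sup, R1.Xt, R1.Yt, MonoidHom.map_closure, MonoidHom.map_closure, R1.L]
    congr 1
    · rw [Set.image_image]
      have : (fun x => σ (L.pl x)) '' (R.X : Set G) = R.X := by
        ext g; constructor
        · rintro ⟨x, hx, rfl⟩; change σ (L.pl x) ∈ _; rw [L.map_pl x (hXp x hx)]; exact hx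
        · intro hg; exact ⟨g, hg, L.map_pl g (hXp g hg)⟩
      rw [this, Subgroup.closure_eq]
    · rw [Set.image_image]
      have : (fun x => σ (L.pl x)) '' (R.Y : Set G) = R.Y := by
        ext g; constructor
        · rintro ⟨x, hx, rfl⟩; change σ (L.pl x) ∈ _; rw [L.map_pl x (hYp x hx)]; exact hx
        · intro hg; exact ⟨g, hg, L.map_pl g (hYp g hg)⟩
      rw [this, Subgroup.closure_eq]
  have hcomm_le : ⁅R.Lt L, R.Lt L⁆ ≤ R.Lt L := by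
    rw [Subgroup.commutator_le]
    intro a ha b hb
    rw [commutatorElement_def]
    exact Subgroup.mul_mem _ (Subgroup.mul_mem _ (Subgroup.mul_mem _ ha hb) (Subgroup.inv_mem _ ha))
      (Subgroup.inv_mem _ hb)
  -- (1) the lifted group is perfect
  have hperfM : R.Lt L ≤ ⁅R.Lt L, R.Lt L⁆ := by
    have key : ∀ g : G, g ∈ R.L → (∃ k : ℕ, g ^ p ^ k = 1) → L.pl g ∈ ⁅R.Lt L, R.Lt L⁆ := by
      intro g hgL hgp
      have h1 : g ∈ (⁅R.Lt L, R.Lt L⁆).map σ := by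
        rw [Subgroup.map_commutator, hmap]; exact hperf g hgL
      obtain ⟨m', hm', hσ⟩ := h1
      have hzker : m'⁻¹ * L.pl g ∈ σ.ker := by
        rw [MonoidHom.mem_ker, map_mul, map_inv, hσ, L.map_pl g hgp, inv_mul_cancel]
      have hzc := hc hzker
      obtain ⟨k, hk⟩ := L.pl_pow g hgp
      have hplg : L.pl g = m' * (m'⁻¹ * L.pl g) := by group
      have hcomm : Commute m' (m'⁻¹ * L.pl g) := Subgroup.mem_center_iff.1 hzc m'
      have hpow : m' ^ p ^ k * (m'⁻¹ * L.pl g) ^ p ^ k = 1 := by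
        rw [← hcomm.mul_pow, ← hplg, hk]
      have hzpow : (m'⁻¹ * L.pl g) ^ p ^ k ∈ ⁅R.Lt L, R.Lt L⁆ := by
        have : (m'⁻¹ * L.pl g) ^ p ^ k = (m' ^ p ^ k)⁻¹ := eq_inv_of_mul_eq_one_right hpow
        rw [this]; exact Subgroup.inv_mem _ (Subgroup.pow_mem _ hm' _)
      have hord : (p ^ k).Coprime (orderOf (m'⁻¹ * L.pl g)) := by
        have h1 : orderOf (m'⁻¹ * L.pl g) ∣ Nat.card σ.ker := Subgroup.orderOf_dvd_natCard _ hzker
        exact Nat.Coprime.pow_left k ((Nat.Coprime.coprime_dvd_left h1 hZ).symm)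
      obtain ⟨a, ha⟩ := exists_pow_eq_self_of_coprime hord
      have hzM : m'⁻¹ * L.pl g ∈ ⁅R.Lt L, R.Lt L⁆ := by
        rw [← ha]; exact Subgroup.pow_mem _ hzpow a
      rw [hplg]; exact Subgroup.mul_mem _ hm' hzM
    nth_rewrite 1 [R1.Lt]
    apply sup_le
    · rw [R1.Xt, Subgroup.closure_le]
      rintro _ ⟨x, hx, rfl⟩
      exact key x (Subgroup.mem_sup_left hx) (hXp x hx)
    · rw [R1.Yt, Subgroup.closure_le]
      rintro _ ⟨y, hy, rfl⟩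
      exact key y (Subgroup.mem_sup_right hy) (hYp y hy)
  -- (2) transfer
  intro e heM hσe
  by_contra hne
  have hzc : (⟨e, heM⟩ : R.Lt L) ∈ Subgroup.center (R.Lt L) := by
    rw [Subgroup.mem_center_iff]; intro g; apply Subtype.ext
    exact Subgroup.mem_center_iff.1 (hc (MonoidHom.mem_ker.2 hσe)) g.1
  have hzcomm : (⟨e, heM⟩ : R.Lt L) ∈ commutator (R.Lt L) := by
    have h1 : e ∈ (commutator (R.Lt L)).map (R.Lt L).subtype := by
      rw [Subgroup.map_subtype_commutator]; exact hperfM heM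
    obtain ⟨w, hw, hwe⟩ := h1
    have : w = ⟨e, heM⟩ := Subtype.ext hwe
    rwa [this] at hw
  have hordE : orderOf (⟨e, heM⟩ : R.Lt L) = orderOf e := Subgroup.orderOf_mk e heM
  have hz1 : orderOf (⟨e, heM⟩ : R.Lt L) ≠ 1 := by
    rw [hordE, Ne, orderOf_eq_one_iff]; exact hne
  obtain ⟨r, hr, hrd⟩ := Nat.exists_prime_and_dvd hz1
  have hrp : r ≠ p := by
    rintro rfl
    have h1 : orderOf e ∣ Nat.card σ.ker := Subgroup.orderOf_dvd_natCard _ (MonoidHom.mem_ker.2 hσe)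
    have h2 : r ∣ Nat.card σ.ker := (hordE ▸ hrd).trans h1
    exact (Nat.Prime.coprime_iff_not_dvd hr).1 hZ.symm h2
  have := Fact.mk hr
  obtain ⟨P⟩ : Nonempty (Sylow r (R.Lt L)) := inferInstance
  have hPcomm : ∀ a ∈ (P : Subgroup (R.Lt L)), ∀ b ∈ (P : Subgroup (R.Lt L)), a * b = b * a := by
    intro a ha b hb
    have hQL : (((P : Subgroup (R.Lt L)).map (R.Lt L).subtype).map σ) ≤ R.L := by
      rintro _ ⟨_, ⟨m, hm, rfl⟩, rfl⟩
      rw [← hmap]; exact ⟨m.1, m.2, rfl⟩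
    have hQr : IsPGroup r (((P : Subgroup (R.Lt L)).map (R.Lt L).subtype).map σ) :=
      (P.isPGroup'.map _).map _
    have := hab r hr hrp _ hQL hQr a.1 ⟨a.1, ⟨a, ha, rfl⟩, rfl⟩ b.1 ⟨b.1, ⟨b, hb, rfl⟩, rfl⟩
    exact Subtype.ext this
  have h1 := Helper5.SchurAbs.pow_index_eq_one_of_comm (P : Subgroup (R.Lt L)) hPcomm _ hzc hzcomm
  have h2 : orderOf (⟨e, heM⟩ : R.Lt L) ∣ (P : Subgroup (R.Lt L)).index := orderOf_dvd_of_pow_eq_one h1
  exact P.not_dvd_index (hrd.trans h2)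

/-- the preimage of a cyclic subgroup under a central extension is commutative. -/
theorem f4m_comap_comm_of_cyclic (hs : Function.Surjective σ) (hc : σ.ker ≤ Subgroup.center E) (Q : Subgroup G) [IsCyclic Q] :
    ∀ x ∈ Q.comap σ, ∀ y ∈ Q.comap σ, x * y = y * x := by
  obtain ⟨g, hg⟩ := (Subgroup.isCyclic_iff_exists_zpowers_eq_top (H := Q)).mp inferInstance
  rw [← hg]
  exact Cfsg.Agent.Helper5.SchurAbs.comm_comap_zpowers σ hs hc g

/-- the preimage of a subgroup of a conjugate of `H` is commutative if the preimage of `H` is. -/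
theorem f4m_comap_comm_of_le_conj (hs : Function.Surjective σ) (H : Subgroup G)
    (hH : ∀ x ∈ H.comap σ, ∀ y ∈ H.comap σ, x * y = y * x) (Q : Subgroup G) (g : G)
    (hQ : ∀ x ∈ Q, g⁻¹ * x * g ∈ H) : ∀ x ∈ Q.comap σ, ∀ y ∈ Q.comap σ, x * y = y * x := by
  obtain ⟨gt, rfl⟩ := hs g
  intro x hx y hy
  have hx' : gt⁻¹ * x * gt ∈ H.comap σ := by
    rw [Subgroup.mem_comap, map_mul, map_mul, map_inv]
    exact hQ _ hx
  have hy' : gt⁻¹ * y * gt ∈ H.comap σ := by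
    rw [Subgroup.mem_comap, map_mul, map_mul, map_inv]
    exact hQ _ hy
  have h1 := hH _ hx' _ hy'
  have h2 : gt⁻¹ * (x * y) * gt = gt⁻¹ * (y * x) * gt := by
    calc gt⁻¹ * (x * y) * gt = (gt⁻¹ * x * gt) * (gt⁻¹ * y * gt) := by group
      _ = (gt⁻¹ * y * gt) * (gt⁻¹ * x * gt) := h1
      _ = gt⁻¹ * (y * x) * gt := by group
  exact mul_left_cancel (mul_right_cancel h2)

/-- central factors drop out of a commutator. -/
theorem f4m_rk1_comm_central {a b z₁ z₂ : E} (h₁ : z₁ ∈ Subgroup.center E) (h₂ : z₂ ∈ Subgroup.center E) :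
    ⁅a * z₁, b * z₂⁆ = ⁅a, b⁆ := by
  rw [Cfsg.Agent.Helper5.SchurAbs.comm_mul_central h₂, ← commutatorElement_inv b (a * z₁),
    Cfsg.Agent.Helper5.SchurAbs.comm_mul_central h₁, commutatorElement_inv]

/-- the preimage of the torus is commutative when the kernel has odd order: `H = A C`, `A`, `C` cyclic and commuting, and some `n`
inverts `A` and centralizes `C` (then `⁅ã, c̃⁆ = ⁅ã⁻¹, c̃⁆ = ⁅ã, c̃⁆⁻¹` is a central element of odd order with trivial square). -/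
theorem f4m_comap_torus_comm [Finite E] (hs : Function.Surjective σ) (hc : σ.ker ≤ Subgroup.center E)
    (hZ : (Nat.card σ.ker).Coprime 2) (A C : Subgroup G) [IsCyclic A] [IsCyclic C]
    (hAC : ∀ a ∈ A, ∀ c ∈ C, a * c = c * a) (n : G) (hnA : ∀ a ∈ A, n * a * n⁻¹ = a⁻¹) (hnC : ∀ c ∈ C, n * c * n⁻¹ = c) :
    ∀ x ∈ (A ⊔ C).comap σ, ∀ y ∈ (A ⊔ C).comap σ, x * y = y * x := by
  obtain ⟨a₀, ha₀⟩ := (Subgroup.isCyclic_iff_exists_zpowers_eq_top (H := A)).mp inferInstance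
  obtain ⟨c₀, hc₀⟩ := (Subgroup.isCyclic_iff_exists_zpowers_eq_top (H := C)).mp inferInstance
  have ha₀A : a₀ ∈ A := by rw [← ha₀]; exact Subgroup.mem_zpowers a₀
  have hc₀C : c₀ ∈ C := by rw [← hc₀]; exact Subgroup.mem_zpowers c₀
  obtain ⟨at', hat⟩ := hs a₀
  obtain ⟨ct, hct⟩ := hs c₀
  obtain ⟨nt, hnt⟩ := hs n
  -- the commutator of the lifts is central
  have hz₀k : ⁅at', ct⁆ ∈ σ.ker := by
    rw [MonoidHom.mem_ker, map_commutatorElement, hat, hct, commutatorElement_eq_one_iff_mul_comm]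
    exact hAC a₀ ha₀A c₀ hc₀C
  have hz₀ : ⁅at', ct⁆ ∈ Subgroup.center E := hc hz₀k
  -- the conjugates under `nt`
  have hz₁ : at' * (nt * at' * nt⁻¹) ∈ Subgroup.center E := by
    apply hc
    rw [MonoidHom.mem_ker, map_mul, map_mul, map_mul, map_inv, hat, hnt, hnA a₀ ha₀A, mul_inv_cancel]
  have hz₂ : ct⁻¹ * (nt * ct * nt⁻¹) ∈ Subgroup.center E := by
    apply hc
    rw [MonoidHom.mem_ker, map_mul, map_mul, map_mul, map_inv, map_inv, hct, hnt, hnC c₀ hc₀C,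
      inv_mul_cancel]
  have e1 : nt * at' * nt⁻¹ = at'⁻¹ * (at' * (nt * at' * nt⁻¹)) := by group
  have e2 : nt * ct * nt⁻¹ = ct * (ct⁻¹ * (nt * ct * nt⁻¹)) := by group
  have e3 : ⁅nt * at' * nt⁻¹, nt * ct * nt⁻¹⁆ = ⁅at', ct⁆ := by
    rw [Cfsg.Agent.Helper5.SchurAbs.comm_conj, Cfsg.Agent.Helper5.SchurAbs.conj_central hz₀]
  have e4 : ⁅nt * at' * nt⁻¹, nt * ct * nt⁻¹⁆ = ⁅at'⁻¹, ct⁆ := by
    rw [e1, e2, f4m_rk1_comm_central hz₁ hz₂]
  have e5 : ⁅at'⁻¹, ct⁆ = (⁅at', ct⁆)⁻¹ := by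
    have e : ⁅at'⁻¹, ct⁆ = at'⁻¹ * ⁅ct, at'⁆ * at' := by
      simp only [commutatorElement_def]
      group
    have hzi : (⁅at', ct⁆)⁻¹ ∈ Subgroup.center E := inv_mem hz₀
    have := (Subgroup.mem_center_iff.mp hzi) at'
    rw [e, ← commutatorElement_inv at' ct, mul_assoc, ← this, inv_mul_cancel_left]
  have hsq : ⁅at', ct⁆ * ⁅at', ct⁆ = 1 := by
    have : ⁅at', ct⁆ = (⁅at', ct⁆)⁻¹ := by rw [← e5, ← e4, e3]
    calc ⁅at', ct⁆ * ⁅at', ct⁆ = ⁅at', ct⁆ * (⁅at', ct⁆)⁻¹ := by rw [← this]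
      _ = 1 := mul_inv_cancel _
  have hz₀1 : ⁅at', ct⁆ = 1 := by
    have h1 : orderOf (⟨⁅at', ct⁆, hz₀k⟩ : σ.ker) ∣ 2 := by
      apply orderOf_dvd_of_pow_eq_one
      apply Subtype.ext
      rw [pow_two]
      exact hsq
    have h2 : orderOf (⟨⁅at', ct⁆, hz₀k⟩ : σ.ker) ∣ Nat.card σ.ker := orderOf_dvd_natCard _
    have h3 := Nat.dvd_gcd h2 h1
    rw [Nat.Coprime.gcd_eq_one hZ, Nat.dvd_one, orderOf_eq_one_iff] at h3
    exact congrArg Subtype.val h3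
  have hcomm : at' * ct = ct * at' := commutatorElement_eq_one_iff_mul_comm.mp hz₀1
  -- the commutative subgroup generated by the lifts and the kernel
  set k : Set E := ({at', ct} : Set E) ∪ (σ.ker : Set E) with hk
  have hkcomm : ∀ x ∈ k, ∀ y ∈ k, x * y = y * x := by
    have hcen : ∀ z ∈ (σ.ker : Set E), ∀ g : E, g * z = z * g := fun z hz g =>
      (Subgroup.mem_center_iff.mp (hc hz)) g
    rintro x (hx | hx) y (hy | hy)
    · rcases hx with rfl | rfl <;> rcases hy with rfl | rfl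
      · rfl
      · exact hcomm
      · exact hcomm.symm
      · rfl
    · exact hcen y hy x
    · exact (hcen x hx y).symm
    · exact hcen y hy x
  have hI : IsMulCommutative (Subgroup.closure k) := Subgroup.isMulCommutative_closure hkcomm
  have hWcomm : ∀ x ∈ Subgroup.closure k, ∀ y ∈ Subgroup.closure k, x * y = y * x := by
    intro x hx y hy
    exact congrArg Subtype.val (hI.is_comm.comm (⟨x, hx⟩ : Subgroup.closure k) ⟨y, hy⟩)
  -- the preimage of `A ⊔ C` lies in it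
  have hle : (A ⊔ C).comap σ ≤ Subgroup.closure k := by
    have hA : A ≤ (Subgroup.closure k).map σ := by
      rw [← ha₀, Subgroup.zpowers_le]
      exact ⟨at', Subgroup.subset_closure (Or.inl (Or.inl rfl)), hat⟩
    have hC : C ≤ (Subgroup.closure k).map σ := by
      rw [← hc₀, Subgroup.zpowers_le]
      exact ⟨ct, Subgroup.subset_closure (Or.inl (Or.inr rfl)), hct⟩
    intro x hx
    obtain ⟨w, hw, hwx⟩ := (sup_le hA hC) (Subgroup.mem_comap.mp hx)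
    have hker : w⁻¹ * x ∈ σ.ker := by
      rw [MonoidHom.mem_ker, map_mul, map_inv, hwx, inv_mul_cancel]
    have : x = w * (w⁻¹ * x) := by group
    rw [this]
    exact mul_mem hw (Subgroup.subset_closure (Or.inr hker))
  intro x hx y hy
  exact hWcomm x (hle hx) y (hle hy)

end Cfsg.Agent.F4M
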