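import Mathlib

set_option autoImplicit false

/-!
# S2114 (Schur multiplier of `²F₄(q)`), shared definitions (architect helper9; blueprint `notes/S2114_blueprint.md`)

Part I (kernel a `p`-group): canonical lifts by coprime action.  `σ : Γ →* G` a central extension with kernel a `p`-group, `Ht ≤ Γ`
an abelian `p'`-subgroup.  For a subgroup `Y ≤ G` normalized by `σ(Ht)` its *canonical lift* is `f4m_lift σ Ht Y = ⁅σ⁻¹(Y), Ht⁆`.
-/

namespace Cfsg.Agent.F4M

variable {Γ G : Type*} [Group Γ] [Group G]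

/-- the canonical lift `⁅σ⁻¹(Y), Ht⁆` of a subgroup `Y` of `G`. -/
def f4m_lift (σ : Γ →* G) (Ht : Subgroup Γ) (Y : Subgroup G) : Subgroup Γ := ⁅Y.comap σ, Ht⁆

/-- The setting of Part I: a surjection with central kernel which is a `p`-group, and an abelian `p'`-subgroup `Ht` upstairs. -/
structure CopSetting (σ : Γ →* G) (p : ℕ) (Ht : Subgroup Γ) : Prop where
  surj : Function.Surjective σ
  central : σ.ker ≤ Subgroup.center Γ
  ker_p : IsPGroup p σ.ker
  Ht_comm : ∀ a ∈ Ht, ∀ b ∈ Ht, a * b = b * a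
  Ht_cop : (Nat.card Ht).Coprime p

/-- `h ∈ Γ` acts (through `σ`) fixed-point-freely on the subgroup `Y` of `G`. -/
def FreeOn (σ : Γ →* G) (h : Γ) (Y : Subgroup G) : Prop := ∀ y ∈ Y, σ h * y = y * σ h → y = 1

/-- `h ∈ Γ` centralizes (through `σ`) the subgroup `Y` of `G`. -/
def CentOn (σ : Γ →* G) (h : Γ) (Y : Subgroup G) : Prop := ∀ y ∈ Y, σ h * y = y * σ h

/-- `Ht` normalizes (through `σ`) the subgroup `Y` of `G`. -/
def NormOn (σ : Γ →* G) (Ht : Subgroup Γ) (Y : Subgroup G) : Prop := ∀ h ∈ Ht, ∀ y ∈ Y, σ h * y * (σ h)⁻¹ ∈ Y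

end Cfsg.Agent.F4M
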