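import Mathlib
import Cfsg.Agent.F4M.Defs

set_option autoImplicit false
set_option linter.unusedSectionVars false
set_option linter.unusedVariables false

/-! S2114 package A1 (file `Cfsg/Agent/F4M/Cop.lean`): canonical lifts `⁅σ⁻¹(Y), Ht⁆` by coprime action; blueprint §1 (F1)–(F8), (a).
Only Mathlib + `F4M/Defs.lean`.  Helper names: prefix `f4m_cop_`. -/

namespace Cfsg.Agent.F4M

open scoped commutatorElement

variable {Γ G : Type*} [Group Γ] [Group G] [Finite Γ] [Finite G] {p : ℕ} [Fact p.Prime]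
  {σ : Γ →* G} {Ht : Subgroup Γ}

theorem f4m_lift_mono {Y₁ Y₂ : Subgroup G} (h : Y₁ ≤ Y₂) : f4m_lift σ Ht Y₁ ≤ f4m_lift σ Ht Y₂ :=
  Subgroup.commutator_mono (Subgroup.comap_mono h) le_rfl

/-- an element normalizing `A` and `B` normalizes `⁅A, B⁆` -/
theorem f4m_cop_conj_comm {A B : Subgroup Γ} {g : Γ} (hA : ∀ a ∈ A, g * a * g⁻¹ ∈ A)
    (hB : ∀ b ∈ B, g * b * g⁻¹ ∈ B) : ∀ x ∈ ⁅A, B⁆, g * x * g⁻¹ ∈ ⁅A, B⁆ := by
  intro x hx
  have h1 : (⁅A, B⁆).map (MulAut.conj g).toMonoidHom ≤ ⁅A, B⁆ := by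
    rw [Subgroup.map_commutator]
    apply Subgroup.commutator_mono
    · rintro _ ⟨a, ha, rfl⟩
      exact hA a ha
    · rintro _ ⟨b, hb, rfl⟩
      exact hB b hb
  exact h1 ⟨x, hx, rfl⟩

theorem f4m_cop_comm_mem_comap {Y : Subgroup G} (hN : NormOn σ Ht Y) {a k : Γ}
    (ha : a ∈ Y.comap σ) (hk : k ∈ Ht) : ⁅a, k⁆ ∈ Y.comap σ := by
  rw [Subgroup.mem_comap] at ha ⊢
  rw [commutatorElement_def, map_mul, map_mul, map_mul, map_inv, map_inv]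
  have h1 := hN k hk _ (Y.inv_mem ha)
  have : σ a * σ k * (σ a)⁻¹ * (σ k)⁻¹ = σ a * (σ k * (σ a)⁻¹ * (σ k)⁻¹) := by group
  rw [this]
  exact Y.mul_mem ha h1

/-- (F1a) the lift lies in the preimage. -/
theorem f4m_lift_le_comap {Y : Subgroup G} (hN : NormOn σ Ht Y) : f4m_lift σ Ht Y ≤ Y.comap σ := by
  rw [f4m_lift, Subgroup.commutator_le]
  intro a ha k hk
  exact f4m_cop_comm_mem_comap hN ha hk

theorem f4m_cop_conj_mem_comap {Y : Subgroup G} (hN : NormOn σ Ht Y) {a k : Γ}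
    (ha : a ∈ Y.comap σ) (hk : k ∈ Ht) : k * a * k⁻¹ ∈ Y.comap σ := by
  rw [Subgroup.mem_comap] at ha ⊢
  rw [map_mul, map_mul, map_inv]
  exact hN k hk _ ha

/-- (F1b) `Ht` normalizes the lift. -/
theorem f4m_lift_conj_Ht {Y : Subgroup G} (hN : NormOn σ Ht Y) :
    ∀ h ∈ Ht, ∀ x ∈ f4m_lift σ Ht Y, h * x * h⁻¹ ∈ f4m_lift σ Ht Y := by
  intro h hh
  apply f4m_cop_conj_comm
  · intro a ha
    exact f4m_cop_conj_mem_comap hN ha hh
  · intro b hb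
    exact Ht.mul_mem (Ht.mul_mem hh hb) (Ht.inv_mem hh)

/-- (F1c) the preimage normalizes the lift. -/
theorem f4m_lift_conj_comap {Y : Subgroup G} (hN : NormOn σ Ht Y) :
    ∀ g ∈ Y.comap σ, ∀ x ∈ f4m_lift σ Ht Y, g * x * g⁻¹ ∈ f4m_lift σ Ht Y := by
  intro g hg x hx
  have h1 : f4m_lift σ Ht Y ≤ (f4m_lift σ Ht Y).comap (MulAut.conj g).toMonoidHom := by
    rw [f4m_lift, Subgroup.commutator_le]
    intro a ha k hk
    rw [Subgroup.mem_comap]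
    change g * ⁅a, k⁆ * g⁻¹ ∈ ⁅Y.comap σ, Ht⁆
    have e : g * ⁅a, k⁆ * g⁻¹ = ⁅g * a, k⁆ * ⁅g, k⁆⁻¹ := by
      simp only [commutatorElement_def]; group
    rw [e]
    exact Subgroup.mul_mem _ (Subgroup.commutator_mem_commutator (Subgroup.mul_mem _ hg ha) hk)
      (Subgroup.inv_mem _ (Subgroup.commutator_mem_commutator hg hk))
  exact h1 hx

/-- counting: if `σ h` normalizes the finite group `Y` and has no fixed points on it, every element of `Y` is `(σ h) y (σ h)⁻¹ y⁻¹`. -/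
theorem f4m_exists_comm_of_free {Y : Subgroup G} (hN : NormOn σ Ht Y) {h : Γ} (hh : h ∈ Ht) (hfree : FreeOn σ h Y) :
    ∀ y ∈ Y, ∃ y' ∈ Y, y = σ h * y' * (σ h)⁻¹ * y'⁻¹ := by
  let φ : Y → Y := fun y' => ⟨σ h * y'.1 * (σ h)⁻¹ * y'.1⁻¹, Y.mul_mem (hN h hh _ y'.2) (Y.inv_mem y'.2)⟩
  have hinj : Function.Injective φ := by
    intro a b hab
    have h1 : σ h * a.1 * (σ h)⁻¹ * a.1⁻¹ = σ h * b.1 * (σ h)⁻¹ * b.1⁻¹ := congrArg Subtype.val hab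
    have h2 : σ h * (b.1⁻¹ * a.1) = (b.1⁻¹ * a.1) * σ h := by
      have : (σ h)⁻¹ * (σ h * a.1 * (σ h)⁻¹ * a.1⁻¹) * a.1 * σ h = 
          (σ h)⁻¹ * (σ h * b.1 * (σ h)⁻¹ * b.1⁻¹) * a.1 * σ h := by rw [h1]
      have e1 : (σ h)⁻¹ * (σ h * a.1 * (σ h)⁻¹ * a.1⁻¹) * a.1 * σ h = a.1 := by group
      have e2 : (σ h)⁻¹ * (σ h * b.1 * (σ h)⁻¹ * b.1⁻¹) * a.1 * σ h =
          b.1 * (σ h)⁻¹ * (b.1⁻¹ * a.1) * σ h := by group
      rw [e1, e2] at this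
      calc σ h * (b.1⁻¹ * a.1) = σ h * (b.1⁻¹ * (b.1 * (σ h)⁻¹ * (b.1⁻¹ * a.1) * σ h)) := by
            rw [← this]
        _ = _ := by group
    have h3 := hfree _ (Y.mul_mem (Y.inv_mem b.2) a.2) h2
    apply Subtype.ext
    have : a.1 = b.1 * (b.1⁻¹ * a.1) := by group
    rw [this, h3, mul_one]
  have hsurj := Finite.injective_iff_surjective.1 hinj
  intro y hy
  obtain ⟨y', hy'⟩ := hsurj ⟨y, hy⟩
  exact ⟨y'.1, y'.2, (congrArg Subtype.val hy').symm⟩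

/-- core: every element of `Y` is the image of an element of the lift -/
theorem f4m_cop_exists_lift (S : CopSetting σ p Ht) {Y : Subgroup G} (hN : NormOn σ Ht Y) {h : Γ} (hh : h ∈ Ht)
    (hfree : FreeOn σ h Y) {y : G} (hy : y ∈ Y) :
    ∃ x' : Γ, σ x' ∈ Y ∧ h * x' * h⁻¹ * x'⁻¹ ∈ f4m_lift σ Ht Y ∧ σ (h * x' * h⁻¹ * x'⁻¹) = y := by
  obtain ⟨y', hy', rfl⟩ := f4m_exists_comm_of_free hN hh hfree y hy
  obtain ⟨x', rfl⟩ := S.surj y'
  refine ⟨x', hy', ?_, by simp⟩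
  have h1 : ⁅x', h⁆ ∈ f4m_lift σ Ht Y := Subgroup.commutator_mem_commutator (Subgroup.mem_comap.2 hy') hh
  have e : h * x' * h⁻¹ * x'⁻¹ = ⁅x', h⁆⁻¹ := by
    simp only [commutatorElement_def]; group
  rw [e]
  exact Subgroup.inv_mem _ h1

/-- every element of the preimage is (kernel element) · (element of the lift). -/
theorem f4m_exists_mul_of_mem_comap (S : CopSetting σ p Ht) {Y : Subgroup G} (hN : NormOn σ Ht Y) {h : Γ} (hh : h ∈ Ht)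
    (hfree : FreeOn σ h Y) {x : Γ} (hx : σ x ∈ Y) : ∃ z ∈ σ.ker, ∃ y ∈ f4m_lift σ Ht Y, x = z * y := by
  obtain ⟨x', -, hu, hσ⟩ := f4m_cop_exists_lift S hN hh hfree hx
  refine ⟨x * (h * x' * h⁻¹ * x'⁻¹)⁻¹, ?_, _, hu, by group⟩
  rw [MonoidHom.mem_ker, map_mul, map_inv, hσ, mul_inv_cancel]

/-- (F2) `σ⁻¹(Y) = ker σ · ⁅σ⁻¹(Y), Ht⁆` if some element of `Ht` acts fixed-point-freely on `Y`. -/
theorem f4m_comap_eq (S : CopSetting σ p Ht) {Y : Subgroup G} (hN : NormOn σ Ht Y) {h : Γ} (hh : h ∈ Ht)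
    (hfree : FreeOn σ h Y) : Y.comap σ = σ.ker ⊔ f4m_lift σ Ht Y := by
  apply le_antisymm
  · intro x hx
    obtain ⟨z, hz, y, hy, rfl⟩ := f4m_exists_mul_of_mem_comap S hN hh hfree (Subgroup.mem_comap.1 hx)
    exact Subgroup.mul_mem_sup hz hy
  · apply sup_le
    · intro x hx
      rw [Subgroup.mem_comap, MonoidHom.mem_ker.1 hx]
      exact Y.one_mem
    · exact f4m_lift_le_comap hN

theorem f4m_map_lift (S : CopSetting σ p Ht) {Y : Subgroup G} (hN : NormOn σ Ht Y) {h : Γ} (hh : h ∈ Ht)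
    (hfree : FreeOn σ h Y) : (f4m_lift σ Ht Y).map σ = Y := by
  apply le_antisymm
  · rw [Subgroup.map_le_iff_le_comap]
    exact f4m_lift_le_comap hN
  · intro y hy
    obtain ⟨x', -, hu, hσ⟩ := f4m_cop_exists_lift S hN hh hfree hy
    exact ⟨_, hu, hσ⟩

/-- (F3) `⁅Ỹ, Ht⁆ = Ỹ`. -/
theorem f4m_lift_comm_Ht (S : CopSetting σ p Ht) {Y : Subgroup G} (hN : NormOn σ Ht Y) {h : Γ} (hh : h ∈ Ht)
    (hfree : FreeOn σ h Y) : ⁅f4m_lift σ Ht Y, Ht⁆ = f4m_lift σ Ht Y := by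
  apply le_antisymm
  · rw [Subgroup.commutator_le]
    intro y hy k hk
    have h1 := f4m_lift_conj_Ht hN k hk _ (Subgroup.inv_mem _ hy)
    have e : ⁅y, k⁆ = y * (k * y⁻¹ * k⁻¹) := by
      simp only [commutatorElement_def]; group
    rw [e]
    exact Subgroup.mul_mem _ hy h1
  · nth_rewrite 1 [f4m_lift]
    rw [Subgroup.commutator_le]
    intro a ha k hk
    obtain ⟨z, hz, y₁, hy₁, rfl⟩ := f4m_exists_mul_of_mem_comap S hN hh hfree (Subgroup.mem_comap.1 ha)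
    have hzc := S.central hz
    rw [Subgroup.mem_center_iff] at hzc
    have e : ⁅z * y₁, k⁆ = ⁅y₁, k⁆ := by
      simp only [commutatorElement_def]
      have h1 := hzc (y₁ * k * y₁⁻¹)
      calc z * y₁ * k * (z * y₁)⁻¹ * k⁻¹ = z * (y₁ * k * y₁⁻¹) * z⁻¹ * k⁻¹ := by group
        _ = (y₁ * k * y₁⁻¹) * z * z⁻¹ * k⁻¹ := by rw [← h1]
        _ = _ := by group
    rw [e]
    exact Subgroup.commutator_mem_commutator hy₁ hk

/-- (F6) an element of `Ht` centralizing `Y` centralizes the whole preimage of `Y` (stability group argument: `x ↦ h x h⁻¹ x⁻¹` is a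
homomorphism `σ⁻¹(Y) → ker σ`, killed by the order of `h`, which is prime to `p`). -/
theorem f4m_cent_comap (S : CopSetting σ p Ht) {Y : Subgroup G} {h : Γ} (hh : h ∈ Ht) (hc : CentOn σ h Y) :
    ∀ x ∈ Y.comap σ, h * x = x * h := by
  intro x hx
  have hx' : σ x ∈ Y := Subgroup.mem_comap.1 hx
  have hζ : h * x * h⁻¹ * x⁻¹ ∈ σ.ker := by
    rw [MonoidHom.mem_ker, map_mul, map_mul, map_mul, map_inv, map_inv, hc _ hx']
    group
  have hζc := S.central hζ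
  rw [Subgroup.mem_center_iff] at hζc
  have hpow : ∀ k : ℕ, h ^ k * x * (h ^ k)⁻¹ = (h * x * h⁻¹ * x⁻¹) ^ k * x := by
    intro k
    induction k with
    | zero => simp
    | succ k ih =>
      have h1 := hζc ((h * x * h⁻¹ * x⁻¹) ^ k)
      calc h ^ (k + 1) * x * (h ^ (k + 1))⁻¹ = h * (h ^ k * x * (h ^ k)⁻¹) * h⁻¹ := by
            rw [pow_succ']; group
        _ = h * ((h * x * h⁻¹ * x⁻¹) ^ k * x) * h⁻¹ := by rw [ih]
        _ = (h * (h * x * h⁻¹ * x⁻¹) ^ k * h⁻¹) * ((h * x * h⁻¹ * x⁻¹) * x) := by group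
        _ = (h * x * h⁻¹ * x⁻¹) ^ k * ((h * x * h⁻¹ * x⁻¹) * x) := by
            congr 1
            have hc2 : h * (h * x * h⁻¹ * x⁻¹) ^ k = (h * x * h⁻¹ * x⁻¹) ^ k * h :=
              (Commute.pow_right (show Commute h (h * x * h⁻¹ * x⁻¹) from hζc h) k).eq
            rw [hc2]; group
        _ = _ := by rw [pow_succ]; group
  have hcard : h ^ Nat.card Ht = 1 := by
    have e : (⟨h, hh⟩ : Ht) ^ Nat.card Ht = 1 := pow_card_eq_one'
    have e' := congrArg Subtype.val e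
    rw [Subgroup.coe_pow, Subgroup.coe_one] at e'
    exact e'
  have h1 := hpow (Nat.card Ht)
  rw [hcard, one_mul, inv_one, mul_one] at h1
  have h2 : (h * x * h⁻¹ * x⁻¹) ^ Nat.card Ht = 1 := by
    have : (h * x * h⁻¹ * x⁻¹) ^ Nat.card Ht * x = 1 * x := by rw [← h1, one_mul]
    exact mul_right_cancel this
  obtain ⟨j, hj⟩ := (IsPGroup.iff_orderOf.1 S.ker_p) ⟨_, hζ⟩
  have h3 : orderOf (h * x * h⁻¹ * x⁻¹) = p ^ j := by
    rw [← hj]; exact (Subgroup.orderOf_mk _ hζ).symm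
  have h4 : orderOf (h * x * h⁻¹ * x⁻¹) ∣ Nat.card Ht := orderOf_dvd_of_pow_eq_one h2
  have h5 : orderOf (h * x * h⁻¹ * x⁻¹) = 1 := by
    have hcop : Nat.Coprime (p ^ j) (Nat.card Ht) := (Nat.Coprime.pow_right j S.Ht_cop).symm
    rw [← h3] at hcop
    exact Nat.Coprime.eq_one_of_dvd hcop h4
  have h6 : h * x * h⁻¹ * x⁻¹ = 1 := orderOf_eq_one_iff.1 h5
  calc h * x = (h * x * h⁻¹ * x⁻¹) * x * h := by group
    _ = x * h := by rw [h6, one_mul]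

theorem f4m_cop_comm_central {z y k : Γ} (hz : z ∈ Subgroup.center Γ) : ⁅z * y, k⁆ = ⁅y, k⁆ := by
  rw [Subgroup.mem_center_iff] at hz
  simp only [commutatorElement_def]
  have h1 := hz (y * k * y⁻¹)
  calc z * y * k * (z * y)⁻¹ * k⁻¹ = z * (y * k * y⁻¹) * z⁻¹ * k⁻¹ := by group
    _ = (y * k * y⁻¹) * z * z⁻¹ * k⁻¹ := by rw [← h1]
    _ = _ := by group

/-- core, second form: every element of `Y` is the image of `h x' h⁻¹ x'⁻¹` with `x'` in the lift -/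
theorem f4m_cop_exists_lift' (S : CopSetting σ p Ht) {Y : Subgroup G} (hN : NormOn σ Ht Y) {h : Γ} (hh : h ∈ Ht)
    (hfree : FreeOn σ h Y) {y : G} (hy : y ∈ Y) :
    ∃ x' ∈ f4m_lift σ Ht Y, σ (h * x' * h⁻¹ * x'⁻¹) = y := by
  obtain ⟨y', hy', rfl⟩ := f4m_exists_comm_of_free hN hh hfree y hy
  have hmap := f4m_map_lift S hN hh hfree
  rw [← hmap] at hy'
  obtain ⟨x', hx', rfl⟩ := hy'
  exact ⟨x', hx', by simp⟩

/-- (F7) `Ỹ = ⁅Ỹ, h⁆` for `h ∈ Ht` acting fixed-point-freely on `Y`. -/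
theorem f4m_lift_le_closure (S : CopSetting σ p Ht) {Y : Subgroup G} (hN : NormOn σ Ht Y) {h : Γ} (hh : h ∈ Ht)
    (hfree : FreeOn σ h Y) :
    f4m_lift σ Ht Y ≤ Subgroup.closure {g | ∃ x ∈ f4m_lift σ Ht Y, g = h * x * h⁻¹ * x⁻¹} := by
  -- the closure is normalized by `Ht`
  have hnorm : ∀ k ∈ Ht, ∀ n ∈ Subgroup.closure {g | ∃ x ∈ f4m_lift σ Ht Y, g = h * x * h⁻¹ * x⁻¹},
      k * n * k⁻¹ ∈ Subgroup.closure {g | ∃ x ∈ f4m_lift σ Ht Y, g = h * x * h⁻¹ * x⁻¹} := by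
    intro k hk n hn
    have h1 : Subgroup.closure {g | ∃ x ∈ f4m_lift σ Ht Y, g = h * x * h⁻¹ * x⁻¹} ≤
        (Subgroup.closure {g | ∃ x ∈ f4m_lift σ Ht Y, g = h * x * h⁻¹ * x⁻¹}).comap
          (MulAut.conj k).toMonoidHom := by
      rw [Subgroup.closure_le]
      rintro _ ⟨x, hx, rfl⟩
      rw [SetLike.mem_coe, Subgroup.mem_comap]
      have e0 : (MulAut.conj k).toMonoidHom (h * x * h⁻¹ * x⁻¹) = k * (h * x * h⁻¹ * x⁻¹) * k⁻¹ := rfl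
      rw [e0]
      apply Subgroup.subset_closure
      refine ⟨k * x * k⁻¹, f4m_lift_conj_Ht hN k hk x hx, ?_⟩
      have hkh := S.Ht_comm k hk h hh
      have hinv : k⁻¹ * h⁻¹ = h⁻¹ * k⁻¹ := by
        rw [← mul_inv_rev, ← mul_inv_rev, hkh]
      symm
      calc h * (k * x * k⁻¹) * h⁻¹ * (k * x * k⁻¹)⁻¹
          = (h * k) * x * (k⁻¹ * h⁻¹) * k * x⁻¹ * k⁻¹ := by group
        _ = (k * h) * x * (h⁻¹ * k⁻¹) * k * x⁻¹ * k⁻¹ := by rw [← hkh, hinv]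
        _ = k * (h * x * h⁻¹ * x⁻¹) * k⁻¹ := by group
    exact h1 hn
  nth_rewrite 1 [← f4m_lift_comm_Ht S hN hh hfree]
  rw [Subgroup.commutator_le]
  intro x hx k hk
  obtain ⟨x', hx', hσ⟩ := f4m_cop_exists_lift' S hN hh hfree
    (Subgroup.mem_comap.1 (f4m_lift_le_comap hN hx))
  have hgen : h * x' * h⁻¹ * x'⁻¹ ∈
      Subgroup.closure {g | ∃ x ∈ f4m_lift σ Ht Y, g = h * x * h⁻¹ * x⁻¹} :=
    Subgroup.subset_closure ⟨x', hx', rfl⟩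
  have hz : x * (h * x' * h⁻¹ * x'⁻¹)⁻¹ ∈ σ.ker := by
    rw [MonoidHom.mem_ker, map_mul, map_inv, hσ, mul_inv_cancel]
  have hzc := S.central hz
  have e : x = (x * (h * x' * h⁻¹ * x'⁻¹)⁻¹) * (h * x' * h⁻¹ * x'⁻¹) := by group
  rw [e, f4m_cop_comm_central hzc]
  have e2 : ⁅h * x' * h⁻¹ * x'⁻¹, k⁆ =
      (h * x' * h⁻¹ * x'⁻¹) * (k * (h * x' * h⁻¹ * x'⁻¹)⁻¹ * k⁻¹) := by
    simp only [commutatorElement_def]; group
  rw [e2]
  exact Subgroup.mul_mem _ hgen (hnorm k hk _ (Subgroup.inv_mem _ hgen))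

/-- (a) if the preimage of `Y` is abelian, the lift meets the kernel trivially. -/
theorem f4m_lift_inf_ker_of_comm (S : CopSetting σ p Ht) {Y : Subgroup G} (hN : NormOn σ Ht Y) {h : Γ} (hh : h ∈ Ht)
    (hfree : FreeOn σ h Y) (hab : ∀ x ∈ Y.comap σ, ∀ y ∈ Y.comap σ, x * y = y * x) :
    f4m_lift σ Ht Y ⊓ σ.ker = ⊥ := by
  have hconj : ∀ w ∈ Y.comap σ, h * w * h⁻¹ ∈ Y.comap σ := fun w hw =>
    f4m_cop_conj_mem_comap hN hw hh
  let I : Subgroup Γ :=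
    { carrier := {g | ∃ w ∈ Y.comap σ, g = h * w * h⁻¹ * w⁻¹}
      one_mem' := ⟨1, Subgroup.one_mem _, by group⟩
      mul_mem' := by
        rintro _ _ ⟨w₁, hw₁, rfl⟩ ⟨w₂, hw₂, rfl⟩
        refine ⟨w₁ * w₂, Subgroup.mul_mem _ hw₁ hw₂, ?_⟩
        have h1 := hab _ (Subgroup.mul_mem _ (hconj w₂ hw₂) (Subgroup.inv_mem _ hw₂)) _
          (Subgroup.inv_mem _ hw₁)
        calc h * w₁ * h⁻¹ * w₁⁻¹ * (h * w₂ * h⁻¹ * w₂⁻¹)
            = h * w₁ * h⁻¹ * (w₁⁻¹ * (h * w₂ * h⁻¹ * w₂⁻¹)) := by group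
          _ = h * w₁ * h⁻¹ * ((h * w₂ * h⁻¹ * w₂⁻¹) * w₁⁻¹) := by rw [h1]
          _ = _ := by group
      inv_mem' := by
        rintro _ ⟨w, hw, rfl⟩
        refine ⟨w⁻¹, Subgroup.inv_mem _ hw, ?_⟩
        have h1 := hab _ hw _ (hconj _ (Subgroup.inv_mem _ hw))
        calc (h * w * h⁻¹ * w⁻¹)⁻¹ = w * (h * w⁻¹ * h⁻¹) := by group
          _ = (h * w⁻¹ * h⁻¹) * w := h1
          _ = _ := by group }
  have hle : f4m_lift σ Ht Y ≤ I := by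
    refine (f4m_lift_le_closure S hN hh hfree).trans ?_
    rw [Subgroup.closure_le]
    rintro _ ⟨x, hx, rfl⟩
    exact ⟨x, f4m_lift_le_comap hN hx, rfl⟩
  rw [eq_bot_iff]
  rintro x ⟨hx1, hx2⟩
  obtain ⟨w, hw, rfl⟩ := hle hx1
  rw [Subgroup.mem_bot]
  have hσ : σ (h * w * h⁻¹ * w⁻¹) = 1 := MonoidHom.mem_ker.1 hx2
  rw [map_mul, map_mul, map_mul, map_inv, map_inv] at hσ
  have hcomm : σ h * σ w = σ w * σ h := by
    calc σ h * σ w = (σ h * σ w * (σ h)⁻¹ * (σ w)⁻¹) * σ w * σ h := by group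
      _ = σ w * σ h := by rw [hσ, one_mul]
  have hw1 : σ w = 1 := hfree _ (Subgroup.mem_comap.1 hw) hcomm
  have hwc := S.central (MonoidHom.mem_ker.2 hw1)
  rw [Subgroup.mem_center_iff] at hwc
  calc h * w * h⁻¹ * w⁻¹ = (h * w) * h⁻¹ * w⁻¹ := by group
    _ = (w * h) * h⁻¹ * w⁻¹ := by rw [hwc h]
    _ = 1 := by group

/-- the lift has the order of `Y` if it meets the kernel trivially. -/
theorem f4m_card_lift (S : CopSetting σ p Ht) {Y : Subgroup G} (hN : NormOn σ Ht Y) {h : Γ} (hh : h ∈ Ht)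
    (hfree : FreeOn σ h Y) (hk : f4m_lift σ Ht Y ⊓ σ.ker = ⊥) : Nat.card (f4m_lift σ Ht Y) = Nat.card Y := by
  have hmap := f4m_map_lift S hN hh hfree
  let f : f4m_lift σ Ht Y → Y := fun x => ⟨σ x.1, hmap.le ⟨x.1, x.2, rfl⟩⟩
  refine Nat.card_congr (Equiv.ofBijective f ⟨?_, ?_⟩)
  · intro a b hab
    have h1 : σ a.1 = σ b.1 := congrArg Subtype.val hab
    have h2 : a.1 * b.1⁻¹ ∈ f4m_lift σ Ht Y ⊓ σ.ker := by
      refine Subgroup.mem_inf.2 ⟨Subgroup.mul_mem _ a.2 (Subgroup.inv_mem _ b.2), ?_⟩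
      rw [MonoidHom.mem_ker, map_mul, map_inv, h1, mul_inv_cancel]
    rw [hk, Subgroup.mem_bot] at h2
    apply Subtype.ext
    exact mul_inv_eq_one.1 h2
  · rintro ⟨y, hy⟩
    have hy' := hy
    rw [← hmap] at hy'
    obtain ⟨x, hx, rfl⟩ := hy'
    exact ⟨⟨x, hx⟩, rfl⟩

/-- (F8) conjugation by an element normalizing `Ht`. -/
theorem f4m_lift_conj {g : Γ} (hg : ∀ k ∈ Ht, g * k * g⁻¹ ∈ Ht) (Y : Subgroup G) :
    ∀ x ∈ f4m_lift σ Ht Y, g * x * g⁻¹ ∈ f4m_lift σ Ht (Y.map (MulAut.conj (σ g)).toMonoidHom) := by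
  intro x hx
  have h1 : (f4m_lift σ Ht Y).map (MulAut.conj g).toMonoidHom ≤
      f4m_lift σ Ht (Y.map (MulAut.conj (σ g)).toMonoidHom) := by
    rw [f4m_lift, Subgroup.map_commutator]
    apply Subgroup.commutator_mono
    · rintro _ ⟨a, ha, rfl⟩
      rw [Subgroup.mem_comap]
      refine ⟨σ a, Subgroup.mem_comap.1 ha, ?_⟩
      simp
    · rintro _ ⟨b, hb, rfl⟩
      exact hg b hb
  exact h1 ⟨x, hx, rfl⟩

end Cfsg.Agent.F4M
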