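import Mathlib
import Cfsg.Agent.F4M.Cop

set_option autoImplicit false

/-! S2114 package A2 (file `Cfsg/Agent/F4M/Pair.lean`): commutator relations lift to the canonical lifts; blueprint §1 (b), (d).
Helper names: prefix `f4m_pair_`. -/

namespace Cfsg.Agent.F4M

open scoped commutatorElement

variable {Γ G : Type*} [Group Γ] [Group G] [Finite Γ] [Finite G] {p : ℕ} [Fact p.Prime]
  {σ : Γ →* G} {Ht : Subgroup Γ}

/-- conjugation by `g` maps `⨆ k ∈ s, T k` into itself if it does so on the generating subgroups -/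
theorem f4m_pair_conj_iSup {E : Type*} [Group E] {ι : Type*} (s : Finset ι) (T : ι → Subgroup E) (g : E)
    (hg : ∀ k ∈ s, ∀ d ∈ T k, g * d * g⁻¹ ∈ ⨆ k ∈ s, T k) :
    ∀ d ∈ ⨆ k ∈ s, T k, g * d * g⁻¹ ∈ ⨆ k ∈ s, T k := by
  have hle : (⨆ k ∈ s, T k) ≤ (⨆ k ∈ s, T k).comap (MulAut.conj g).toMonoidHom := by
    refine iSup₂_le ?_
    intro k hk d hd
    rw [Subgroup.mem_comap]
    have := hg k hk d hd
    simpa [MulAut.conj_apply] using this
  intro d hd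
  have := hle hd
  rw [Subgroup.mem_comap] at this
  simpa [MulAut.conj_apply] using this

/-- the pair lemma: if `[Y₁, Y₂] ⊆ σ(Dt)`, `Dt` normalized by `Ỹ₁` and by `h`, then `[Ỹ₁, Ỹ₂] ⊆ Dt`. -/
theorem f4m_pair_lift (S : CopSetting σ p Ht) {Y₁ Y₂ : Subgroup G} (hN₁ : NormOn σ Ht Y₁) (hN₂ : NormOn σ Ht Y₂)
    {h : Γ} (hh : h ∈ Ht) (hfree : FreeOn σ h Y₁) (hcent : CentOn σ h Y₂) (Dt : Subgroup Γ)
    (hD : ∀ x ∈ Y₁, ∀ y ∈ Y₂, x * y * x⁻¹ * y⁻¹ ∈ Dt.map σ)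
    (hDn : ∀ x ∈ f4m_lift σ Ht Y₁, ∀ d ∈ Dt, x * d * x⁻¹ ∈ Dt) (hDh : ∀ d ∈ Dt, h * d * h⁻¹ ∈ Dt) :
    ∀ x ∈ f4m_lift σ Ht Y₁, ∀ y ∈ f4m_lift σ Ht Y₂, x * y * x⁻¹ * y⁻¹ ∈ Dt := by
  intro x hx y hy
  revert x
  have hyc : y ∈ Y₂.comap σ := f4m_lift_le_comap hN₂ hy
  have hhy : h * y = y * h := f4m_cent_comap S hh hcent y hyc
  have hy' : h⁻¹ * y * h = y := by rw [mul_assoc, ← hhy, inv_mul_cancel_left]
  let T : Subgroup Γ :=
    { carrier := {x | x ∈ f4m_lift σ Ht Y₁ ∧ x * y * x⁻¹ * y⁻¹ ∈ Dt}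
      one_mem' := ⟨Subgroup.one_mem _, by simp⟩
      mul_mem' := by
        rintro a b ⟨ha, ha'⟩ ⟨hb, hb'⟩
        refine ⟨Subgroup.mul_mem _ ha hb, ?_⟩
        have e : a * b * y * (a * b)⁻¹ * y⁻¹ =
            a * (b * y * b⁻¹ * y⁻¹) * a⁻¹ * (a * y * a⁻¹ * y⁻¹) := by group
        rw [e]
        exact Dt.mul_mem (hDn a ha _ hb') ha'
      inv_mem' := by
        rintro a ⟨ha, ha'⟩
        refine ⟨Subgroup.inv_mem _ ha, ?_⟩
        have e : a⁻¹ * y * a⁻¹⁻¹ * y⁻¹ = a⁻¹ * (a * y * a⁻¹ * y⁻¹)⁻¹ * a⁻¹⁻¹ := by group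
        rw [e]
        exact hDn a⁻¹ (Subgroup.inv_mem _ ha) _ (Dt.inv_mem ha') }
  have hgen : Subgroup.closure {g | ∃ x ∈ f4m_lift σ Ht Y₁, g = h * x * h⁻¹ * x⁻¹} ≤ T := by
    rw [Subgroup.closure_le]
    rintro g ⟨x, hx, rfl⟩
    have hxc : σ x ∈ Y₁ := f4m_lift_le_comap hN₁ hx
    have hyY : σ y ∈ Y₂ := hyc
    have ha : h * x * h⁻¹ ∈ f4m_lift σ Ht Y₁ := f4m_lift_conj_Ht hN₁ h hh x hx
    refine ⟨Subgroup.mul_mem _ ha (Subgroup.inv_mem _ hx), ?_⟩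
    -- decompose the commutator `c = z * d`
    obtain ⟨d, hd, hdσ⟩ := hD (σ x) hxc (σ y) hyY
    have hzker : (x * y * x⁻¹ * y⁻¹) * d⁻¹ ∈ σ.ker := by
      rw [MonoidHom.mem_ker, map_mul, map_inv, hdσ]
      simp [map_mul, map_inv]
    have hzc : ∀ u : Γ, u * ((x * y * x⁻¹ * y⁻¹) * d⁻¹) = ((x * y * x⁻¹ * y⁻¹) * d⁻¹) * u :=
      Subgroup.mem_center_iff.mp (S.central hzker)
    obtain ⟨z, hz⟩ : ∃ z, z = (x * y * x⁻¹ * y⁻¹) * d⁻¹ := ⟨_, rfl⟩
    rw [← hz] at hzc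
    have hc : x * y * x⁻¹ * y⁻¹ = z * d := by rw [hz]; group
    have key : z⁻¹ * (x * (h * x * h⁻¹)⁻¹ * h) * z = x * (h * x * h⁻¹)⁻¹ * h := by
      rw [mul_assoc, hzc, inv_mul_cancel_left]
    have e1 : h * x * h⁻¹ * x⁻¹ * y * (h * x * h⁻¹ * x⁻¹)⁻¹ * y⁻¹ =
        (h * x * h⁻¹) * (x⁻¹ * (x * y * x⁻¹ * y⁻¹)⁻¹ * x) * (h * x * h⁻¹)⁻¹ *
          (h * (x * (h⁻¹ * y * h) * x⁻¹ * (h⁻¹ * y * h)⁻¹) * h⁻¹) := by group
    have e2 : (h * x * h⁻¹) * (x⁻¹ * (z * d)⁻¹ * x) * (h * x * h⁻¹)⁻¹ * (h * (z * d) * h⁻¹) =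
        (h * x * h⁻¹) * x⁻¹ * d⁻¹ * (z⁻¹ * (x * (h * x * h⁻¹)⁻¹ * h) * z) * d * h⁻¹ := by group
    have e3 : (h * x * h⁻¹) * x⁻¹ * d⁻¹ * (x * (h * x * h⁻¹)⁻¹ * h) * d * h⁻¹ =
        (h * x * h⁻¹) * (x⁻¹ * d⁻¹ * x⁻¹⁻¹) * (h * x * h⁻¹)⁻¹ * (h * d * h⁻¹) := by group
    show h * x * h⁻¹ * x⁻¹ * y * (h * x * h⁻¹ * x⁻¹)⁻¹ * y⁻¹ ∈ Dt
    rw [e1, hy', hc, e2, key, e3]
    refine Dt.mul_mem (hDn _ ha _ ?_) (hDh d hd)
    exact hDn x⁻¹ (Subgroup.inv_mem _ hx) d⁻¹ (Dt.inv_mem hd)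
  intro x hx
  exact (hgen (f4m_lift_le_closure S hN₁ hh hfree hx)).2

/-- commuting subgroups have commuting lifts, if some `h ∈ Ht` is fixed-point-free on the first and centralizes the second. -/
theorem f4m_comm_lift (S : CopSetting σ p Ht) {Y₁ Y₂ : Subgroup G} (hN₁ : NormOn σ Ht Y₁) (hN₂ : NormOn σ Ht Y₂)
    {h : Γ} (hh : h ∈ Ht) (hfree : FreeOn σ h Y₁) (hcent : CentOn σ h Y₂)
    (hcomm : ∀ x ∈ Y₁, ∀ y ∈ Y₂, x * y = y * x) :
    ∀ x ∈ f4m_lift σ Ht Y₁, ∀ y ∈ f4m_lift σ Ht Y₂, x * y = y * x := by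
  intro x hx y hy
  have h1 := f4m_pair_lift S hN₁ hN₂ hh hfree hcent ⊥ ?_ ?_ ?_ x hx y hy
  · rw [Subgroup.mem_bot] at h1
    calc x * y = (x * y * x⁻¹ * y⁻¹) * (y * x) := by group
      _ = y * x := by rw [h1, one_mul]
  · intro a ha b hb
    rw [Subgroup.map_bot, Subgroup.mem_bot, hcomm a ha b hb]
    group
  · intro a _ d hd
    rw [Subgroup.mem_bot] at hd ⊢
    rw [hd]; group
  · intro d hd
    rw [Subgroup.mem_bot] at hd ⊢
    rw [hd]; group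

/-- for `k < n` (with `n ≥ 2` implicit in the existence of another index) the lift of `U k` maps onto `U k` -/
theorem f4m_pair_map_lift (S : CopSetting σ p Ht) (U : ℕ → Subgroup G) (n : ℕ)
    (hN : ∀ i < n, NormOn σ Ht (U i))
    (hNC : ∀ i < n, ∀ j < n, i ≠ j → ∃ h ∈ Ht, FreeOn σ h (U i) ∧ CentOn σ h (U j))
    {k j : ℕ} (hk : k < n) (hj : j < n) (hkj : k ≠ j) :
    (f4m_lift σ Ht (U k)).map σ = U k := by
  obtain ⟨h, hh, hfree, _⟩ := hNC k hk j hj hkj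
  exact f4m_map_lift S (hN k hk) hh hfree

/-- all membership-level commutator relations of a root system `U 0, …, U (n-1)` lift. -/
theorem f4m_pairs (S : CopSetting σ p Ht) (U : ℕ → Subgroup G) (n : ℕ)
    (hN : ∀ i < n, NormOn σ Ht (U i))
    (hNC : ∀ i < n, ∀ j < n, i ≠ j → ∃ h ∈ Ht, FreeOn σ h (U i) ∧ CentOn σ h (U j))
    (hcomm : ∀ i j, i < j → j < n → ∀ x ∈ U i, ∀ y ∈ U j,
      x * y * x⁻¹ * y⁻¹ ∈ ⨆ k ∈ Finset.Ioo i j, U k) :
    ∀ i j, i < j → j < n → ∀ x ∈ f4m_lift σ Ht (U i), ∀ y ∈ f4m_lift σ Ht (U j),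
      x * y * x⁻¹ * y⁻¹ ∈ ⨆ k ∈ Finset.Ioo i j, f4m_lift σ Ht (U k) := by
  have key : ∀ d, ∀ i j, i < j → j < n → j - i ≤ d → ∀ x ∈ f4m_lift σ Ht (U i),
      ∀ y ∈ f4m_lift σ Ht (U j),
      x * y * x⁻¹ * y⁻¹ ∈ ⨆ k ∈ Finset.Ioo i j, f4m_lift σ Ht (U k) := by
    intro d
    induction d with
    | zero =>
      intro i j hij _ hd
      omega
    | succ d ih =>
      intro i j hij hjn _
      have hin : i < n := lt_trans hij hjn
      obtain ⟨h, hh, hfree, hcent⟩ := hNC i hin j hjn (ne_of_lt hij)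
      refine f4m_pair_lift S (hN i hin) (hN j hjn) hh hfree hcent
        (⨆ k ∈ Finset.Ioo i j, f4m_lift σ Ht (U k)) ?_ ?_ ?_
      · intro x hx y hy
        have h1 := hcomm i j hij hjn x hx y hy
        have hle : (⨆ k ∈ Finset.Ioo i j, U k) ≤
            (⨆ k ∈ Finset.Ioo i j, f4m_lift σ Ht (U k)).map σ := by
          refine iSup₂_le ?_
          intro k hk
          have hk' := Finset.mem_Ioo.mp hk
          have hkn : k < n := lt_trans hk'.2 hjn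
          rw [← f4m_pair_map_lift S U n hN hNC hkn hin (ne_of_gt hk'.1)]
          exact Subgroup.map_mono (le_iSup₂ (f := fun k _ => f4m_lift σ Ht (U k)) k hk)
        exact hle h1
      · intro x hx
        refine f4m_pair_conj_iSup (Finset.Ioo i j) (fun k => f4m_lift σ Ht (U k)) x ?_
        intro k hk e he
        have hk' := Finset.mem_Ioo.mp hk
        have hkn : k < n := lt_trans hk'.2 hjn
        have h1 := ih i k hk'.1 hkn (by omega) x hx e he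
        have hle : (⨆ l ∈ Finset.Ioo i k, f4m_lift σ Ht (U l)) ≤
            ⨆ l ∈ Finset.Ioo i j, f4m_lift σ Ht (U l) := by
          refine iSup₂_le ?_
          intro l hl
          have hl' := Finset.mem_Ioo.mp hl
          exact le_iSup₂ (f := fun l _ => f4m_lift σ Ht (U l)) l
            (Finset.mem_Ioo.mpr ⟨hl'.1, lt_trans hl'.2 hk'.2⟩)
        have h2 : e ∈ ⨆ l ∈ Finset.Ioo i j, f4m_lift σ Ht (U l) :=
          (le_iSup₂ (f := fun l _ => f4m_lift σ Ht (U l)) k hk) he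
        have e1 : x * e * x⁻¹ = (x * e * x⁻¹ * e⁻¹) * e := by group
        rw [e1]
        exact Subgroup.mul_mem _ (hle h1) h2
      · refine f4m_pair_conj_iSup (Finset.Ioo i j) (fun k => f4m_lift σ Ht (U k)) h ?_
        intro k hk e he
        have hk' := Finset.mem_Ioo.mp hk
        have hkn : k < n := lt_trans hk'.2 hjn
        exact (le_iSup₂ (f := fun l _ => f4m_lift σ Ht (U l)) k hk)
          (f4m_lift_conj_Ht (hN k hkn) h hh e he)
  intro i j hij hjn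
  exact key (j - i) i j hij hjn le_rfl

/-- a group generated by subgroups `T 0, …, T (n-1)` with `[T i, T j] ⊆ ⟨T k : i < k < j⟩` has order at most the product. -/
theorem f4m_card_iSup_le {E : Type*} [Group E] [Finite E] (T : ℕ → Subgroup E) (n : ℕ)
    (hcomm : ∀ i j, i < j → j < n → ∀ x ∈ T i, ∀ y ∈ T j, x * y * x⁻¹ * y⁻¹ ∈ ⨆ k ∈ Finset.Ioo i j, T k) :
    Nat.card ↥(⨆ k ∈ Finset.range n, T k) ≤ ∏ k ∈ Finset.range n, Nat.card (T k) := by
  have key : ∀ m, m ≤ n → Nat.card ↥(⨆ k ∈ Finset.Ico (n - m) n, T k) ≤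
      ∏ k ∈ Finset.Ico (n - m) n, Nat.card (T k) := by
    intro m
    induction m with
    | zero =>
      intro _
      simp
    | succ m ih =>
      intro hm
      have ih' := ih (by omega)
      obtain ⟨i, hi⟩ : ∃ i, i = n - (m + 1) := ⟨_, rfl⟩
      have hi1 : n - m = i + 1 := by omega
      have hin : i < n := by omega
      rw [hi1] at ih'
      rw [← hi]
      have hIco : Finset.Ico i n = insert i (Finset.Ico (i + 1) n) :=
        (Finset.insert_Ico_add_one_left_eq_Ico hin).symm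
      rw [hIco, Finset.iSup_insert, Finset.prod_insert (by simp)]
      -- `T i` normalizes `D`
      have hconj : ∀ x ∈ T i, ∀ d ∈ ⨆ k ∈ Finset.Ico (i + 1) n, T k,
          x * d * x⁻¹ ∈ ⨆ k ∈ Finset.Ico (i + 1) n, T k := by
        intro x hx
        refine f4m_pair_conj_iSup (Finset.Ico (i + 1) n) T x ?_
        intro k hk e he
        have hk' := Finset.mem_Ico.mp hk
        have h1 := hcomm i k (by omega) hk'.2 x hx e he
        have hle : (⨆ l ∈ Finset.Ioo i k, T l) ≤ ⨆ l ∈ Finset.Ico (i + 1) n, T l := by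
          refine iSup₂_le ?_
          intro l hl
          have hl' := Finset.mem_Ioo.mp hl
          exact le_iSup₂ (f := fun l _ => T l) l (Finset.mem_Ico.mpr ⟨by omega, by omega⟩)
        have h2 : e ∈ ⨆ l ∈ Finset.Ico (i + 1) n, T l := (le_iSup₂ (f := fun l _ => T l) k hk) he
        have e1 : x * e * x⁻¹ = (x * e * x⁻¹ * e⁻¹) * e := by group
        rw [e1]
        exact Subgroup.mul_mem _ (hle h1) h2
      have hnorm : T i ≤ Subgroup.normalizer ((⨆ k ∈ Finset.Ico (i + 1) n, T k : Subgroup E) : Set E) := by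
        intro x hx
        rw [Subgroup.mem_normalizer_iff]
        intro d
        constructor
        · exact hconj x hx d
        · intro hd
          have := hconj x⁻¹ ((T i).inv_mem hx) _ hd
          have e1 : x⁻¹ * (x * d * x⁻¹) * x⁻¹⁻¹ = d := by group
          rwa [e1] at this
      have hcoe := Subgroup.coe_mul_of_left_le_normalizer_right (T i)
        (⨆ k ∈ Finset.Ico (i + 1) n, T k) hnorm
      have hsurj : Function.Surjective
          (fun q : T i × ↥(⨆ k ∈ Finset.Ico (i + 1) n, T k) =>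
            (⟨(q.1 : E) * (q.2 : E), Subgroup.mul_mem _ (le_sup_left (a := T i) q.1.2)
              (le_sup_right (a := T i) q.2.2)⟩ :
              ↥(T i ⊔ ⨆ k ∈ Finset.Ico (i + 1) n, T k))) := by
        rintro ⟨u, hu⟩
        have hu' : u ∈ ((T i ⊔ ⨆ k ∈ Finset.Ico (i + 1) n, T k : Subgroup E) : Set E) := hu
        rw [hcoe] at hu'
        obtain ⟨a, ha, b, hb, hab⟩ := hu'
        exact ⟨(⟨a, ha⟩, ⟨b, hb⟩), Subtype.ext hab⟩
      calc Nat.card ↥(T i ⊔ ⨆ k ∈ Finset.Ico (i + 1) n, T k)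
          ≤ Nat.card (T i × ↥(⨆ k ∈ Finset.Ico (i + 1) n, T k)) :=
            Nat.card_le_card_of_surjective _ hsurj
        _ = Nat.card (T i) * Nat.card ↥(⨆ k ∈ Finset.Ico (i + 1) n, T k) := Nat.card_prod _ _
        _ ≤ Nat.card (T i) * ∏ k ∈ Finset.Ico (i + 1) n, Nat.card (T k) :=
            Nat.mul_le_mul_left _ ih'
  have h1 := key n le_rfl
  rw [Nat.sub_self] at h1
  rw [Finset.range_eq_Ico]
  exact h1

/-- (d) the lift of the whole unipotent group meets the kernel trivially. -/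
theorem f4m_iSup_lift_inf_ker (S : CopSetting σ p Ht) (U : ℕ → Subgroup G) (n : ℕ)
    (hN : ∀ i < n, NormOn σ Ht (U i))
    (hNC : ∀ i < n, ∀ j < n, i ≠ j → ∃ h ∈ Ht, FreeOn σ h (U i) ∧ CentOn σ h (U j))
    (hcomm : ∀ i j, i < j → j < n → ∀ x ∈ U i, ∀ y ∈ U j,
      x * y * x⁻¹ * y⁻¹ ∈ ⨆ k ∈ Finset.Ioo i j, U k)
    (hker : ∀ i < n, f4m_lift σ Ht (U i) ⊓ σ.ker = ⊥)
    (hcard : Nat.card ↥(⨆ k ∈ Finset.range n, U k) = ∏ k ∈ Finset.range n, Nat.card (U k)) (hn : 2 ≤ n) :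
    (⨆ k ∈ Finset.range n, f4m_lift σ Ht (U k)) ⊓ σ.ker = ⊥ ∧
      (⨆ k ∈ Finset.range n, f4m_lift σ Ht (U k)).map σ = ⨆ k ∈ Finset.range n, U k := by
  -- another index
  have hother : ∀ k < n, ∃ j < n, k ≠ j := by
    intro k _
    by_cases hk0 : k = 0
    · exact ⟨1, by omega, by omega⟩
    · exact ⟨0, by omega, hk0⟩
  have hmapk : ∀ k < n, (f4m_lift σ Ht (U k)).map σ = U k := by
    intro k hk
    obtain ⟨j, hj, hkj⟩ := hother k hk
    exact f4m_pair_map_lift S U n hN hNC hk hj hkj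
  have hcardk : ∀ k < n, Nat.card (f4m_lift σ Ht (U k)) = Nat.card (U k) := by
    intro k hk
    obtain ⟨j, hj, hkj⟩ := hother k hk
    obtain ⟨h, hh, hfree, _⟩ := hNC k hk j hj hkj
    exact f4m_card_lift S (hN k hk) hh hfree (hker k hk)
  have hmap : (⨆ k ∈ Finset.range n, f4m_lift σ Ht (U k)).map σ = ⨆ k ∈ Finset.range n, U k := by
    rw [Subgroup.map_iSup]
    refine iSup_congr ?_
    intro k
    rw [Subgroup.map_iSup]
    refine iSup_congr ?_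
    intro hk
    exact hmapk k (Finset.mem_range.mp hk)
  refine ⟨?_, hmap⟩
  have hle : Nat.card ↥(⨆ k ∈ Finset.range n, f4m_lift σ Ht (U k)) ≤
      Nat.card ↥(⨆ k ∈ Finset.range n, U k) := by
    have h1 := f4m_card_iSup_le (fun k => f4m_lift σ Ht (U k)) n (f4m_pairs S U n hN hNC hcomm)
    have h2 : ∏ k ∈ Finset.range n, Nat.card (f4m_lift σ Ht (U k)) =
        ∏ k ∈ Finset.range n, Nat.card (U k) :=
      Finset.prod_congr rfl (fun k hk => hcardk k (Finset.mem_range.mp hk))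
    rw [hcard, ← h2]
    exact h1
  -- the surjection `Ũ → U`
  let f : ↥(⨆ k ∈ Finset.range n, f4m_lift σ Ht (U k)) → ↥(⨆ k ∈ Finset.range n, U k) :=
    fun x => ⟨σ x.1, by rw [← hmap]; exact Subgroup.mem_map_of_mem σ x.2⟩
  have hfsurj : Function.Surjective f := by
    rintro ⟨u, hu⟩
    rw [← hmap] at hu
    obtain ⟨x, hx, hxu⟩ := hu
    exact ⟨⟨x, hx⟩, Subtype.ext hxu⟩
  have hfbij := hfsurj.bijective_of_nat_card_le hle
  rw [eq_bot_iff]
  intro z hz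
  rw [Subgroup.mem_bot]
  obtain ⟨hz1, hz2⟩ := Subgroup.mem_inf.mp hz
  have h1 : f ⟨z, hz1⟩ = f 1 := by
    apply Subtype.ext
    show σ z = σ 1
    rw [map_one]
    exact hz2
  have h2 := hfbij.1 h1
  exact congrArg Subtype.val h2

end Cfsg.Agent.F4M
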