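import Mathlib
import Cfsg.Agent.F4M.Defs
import Cfsg.Agent.F4M.Cop
import Cfsg.Agent.F4M.Pair

set_option autoImplicit false

/-!
# Part I for a root group over the field with four elements (generic; for `²E₆(4)`)

`f4m_field_comap_comm` needs more than four scalars.  For a root group `Y_R` which is a commutator `⁅Y_a, z₀⁆` of a root group `Y_a` of
exponent `2` commuting with `Y_R` the full preimage of `Y_R` is commutative all the same: `x ↦ ⁅x, z⁆` (`z` above `z₀`) is an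
anti-homomorphism of the canonical lift of `Y_a` into the preimage of `Y_R`, its values have square `1` (`x² ∈ ker σ` is central), so they
commute, and together with `ker σ` they exhaust the preimage.
-/

namespace Cfsg.Agent.F4M

variable {Γ G : Type*} [Group Γ] [Group G] [Finite Γ] [Finite G] {p : ℕ} [Fact p.Prime] {σ : Γ →* G} {Ht : Subgroup Γ}

/-- two elements of square one whose product has square one commute. -/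
theorem f4m_q4_comm_of_sq {E : Type*} [Group E] {a b : E} (ha : a * a = 1) (hb : b * b = 1)
    (hab : (a * b) * (a * b) = 1) : a * b = b * a := by
  have ha' : a⁻¹ = a := inv_eq_of_mul_eq_one_left ha
  have hb' : b⁻¹ = b := inv_eq_of_mul_eq_one_left hb
  have h1 : (a * b)⁻¹ = a * b := inv_eq_of_mul_eq_one_left hab
  rw [mul_inv_rev, ha', hb'] at h1
  exact h1.symm

/-- the full preimage of `Y_R = ⁅Y_a, z₀⁆` is commutative, if `Y_a` has exponent `2` and commutes with `Y_R`. -/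
theorem f4m_q4_comap_comm (S : CopSetting σ p Ht) {Ya YR : Subgroup G} (hNa : NormOn σ Ht Ya)
    (hNR : NormOn σ Ht YR) {h₁ : Γ} (hh₁ : h₁ ∈ Ht) (hfree₁ : FreeOn σ h₁ Ya) (hcent₁ : CentOn σ h₁ YR)
    {h₂ : Γ} (hh₂ : h₂ ∈ Ht) (hfree₂ : FreeOn σ h₂ YR)
    (hcomm : ∀ x ∈ Ya, ∀ y ∈ YR, x * y = y * x) (hexp : ∀ x ∈ Ya, x * x = 1)
    (z₀ : G) (hab : ∀ x ∈ Ya, x * z₀ * x⁻¹ * z₀⁻¹ ∈ YR)
    (hsurj : ∀ y ∈ YR, ∃ x ∈ Ya, x * z₀ * x⁻¹ * z₀⁻¹ = y) :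
    ∀ u ∈ YR.comap σ, ∀ v ∈ YR.comap σ, u * v = v * u := by
  obtain ⟨z, hz⟩ := S.surj z₀
  have hcen : ∀ ζ ∈ σ.ker, ∀ g : Γ, g * ζ = ζ * g := fun ζ hζ g =>
    Subgroup.mem_center_iff.1 (S.central hζ) g
  -- the canonical lift of `Y_a` centralizes the preimage of `Y_R`
  have hAR : ∀ x ∈ f4m_lift σ Ht Ya, ∀ w ∈ YR.comap σ, x * w = w * x := by
    intro x hx w hw
    obtain ⟨ζ, hζ, w', hw', rfl⟩ := f4m_exists_mul_of_mem_comap S hNR hh₂ hfree₂ (Subgroup.mem_comap.1 hw)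
    have h1 := f4m_comm_lift S hNa hNR hh₁ hfree₁ hcent₁ hcomm x hx w' hw'
    rw [← mul_assoc, hcen ζ hζ x, mul_assoc, h1, mul_assoc]
  -- `φ x = ⁅x, z⁆` lies above `Y_R`
  have hφmem : ∀ x ∈ f4m_lift σ Ht Ya, x * z * x⁻¹ * z⁻¹ ∈ YR.comap σ := by
    intro x hx
    rw [Subgroup.mem_comap, map_mul, map_mul, map_mul, map_inv, map_inv, hz]
    exact hab _ (f4m_lift_le_comap hNa hx)
  -- `φ` is an anti-homomorphism
  have hφmul : ∀ x ∈ f4m_lift σ Ht Ya, ∀ x' ∈ f4m_lift σ Ht Ya,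
      (x * x') * z * (x * x')⁻¹ * z⁻¹ = (x' * z * x'⁻¹ * z⁻¹) * (x * z * x⁻¹ * z⁻¹) := by
    intro x hx x' hx'
    have h1 := hAR x hx _ (hφmem x' hx')
    calc (x * x') * z * (x * x')⁻¹ * z⁻¹
        = (x * (x' * z * x'⁻¹ * z⁻¹)) * x⁻¹ * (x * z * x⁻¹ * z⁻¹) := by group
      _ = ((x' * z * x'⁻¹ * z⁻¹) * x) * x⁻¹ * (x * z * x⁻¹ * z⁻¹) := by rw [h1]
      _ = _ := by group
  -- the values of `φ` have square one
  have hφsq : ∀ x ∈ f4m_lift σ Ht Ya, (x * z * x⁻¹ * z⁻¹) * (x * z * x⁻¹ * z⁻¹) = 1 := by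
    intro x hx
    rw [← hφmul x hx x hx]
    have hk : x * x ∈ σ.ker := by
      rw [MonoidHom.mem_ker, map_mul]
      exact hexp _ (f4m_lift_le_comap hNa hx)
    have h1 := hcen _ hk z
    calc x * x * z * (x * x)⁻¹ * z⁻¹ = (x * x * z) * (x * x)⁻¹ * z⁻¹ := by group
      _ = (z * (x * x)) * (x * x)⁻¹ * z⁻¹ := by rw [h1]
      _ = 1 := by group
  -- every element above `Y_R` is `ζ * φ x`
  have hrep : ∀ u ∈ YR.comap σ, ∃ ζ ∈ σ.ker, ∃ x ∈ f4m_lift σ Ht Ya, u = ζ * (x * z * x⁻¹ * z⁻¹) := by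
    intro u hu
    obtain ⟨x₀, hx₀, e⟩ := hsurj _ (Subgroup.mem_comap.1 hu)
    have hmap := f4m_map_lift S hNa hh₁ hfree₁
    rw [← hmap] at hx₀
    obtain ⟨x, hx, rfl⟩ := hx₀
    refine ⟨u * (x * z * x⁻¹ * z⁻¹)⁻¹, ?_, x, hx, by group⟩
    rw [MonoidHom.mem_ker, map_mul, map_inv, map_mul, map_mul, map_mul, map_inv, map_inv, hz, e,
      mul_inv_cancel]
  intro u hu v hv
  obtain ⟨ζ, hζ, x, hx, rfl⟩ := hrep u hu
  obtain ⟨ζ', hζ', x', hx', rfl⟩ := hrep v hv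
  have hc : (x * z * x⁻¹ * z⁻¹) * (x' * z * x'⁻¹ * z⁻¹) = (x' * z * x'⁻¹ * z⁻¹) * (x * z * x⁻¹ * z⁻¹) := by
    apply f4m_q4_comm_of_sq (hφsq x hx) (hφsq x' hx')
    rw [← hφmul x' hx' x hx]
    exact hφsq _ (mul_mem hx' hx)
  have c1 := hcen ζ hζ
  have c2 := hcen ζ' hζ'
  calc ζ * (x * z * x⁻¹ * z⁻¹) * (ζ' * (x' * z * x'⁻¹ * z⁻¹))
      = ζ * ((x * z * x⁻¹ * z⁻¹) * ζ') * (x' * z * x'⁻¹ * z⁻¹) := by group
    _ = ζ * (ζ' * (x * z * x⁻¹ * z⁻¹)) * (x' * z * x'⁻¹ * z⁻¹) := by rw [c2]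
    _ = ζ * ζ' * ((x * z * x⁻¹ * z⁻¹) * (x' * z * x'⁻¹ * z⁻¹)) := by group
    _ = ζ * ζ' * ((x' * z * x'⁻¹ * z⁻¹) * (x * z * x⁻¹ * z⁻¹)) := by rw [hc]
    _ = (ζ * ζ') * (x' * z * x'⁻¹ * z⁻¹) * (x * z * x⁻¹ * z⁻¹) := by group
    _ = (ζ' * ζ) * (x' * z * x'⁻¹ * z⁻¹) * (x * z * x⁻¹ * z⁻¹) := by rw [c1 ζ']
    _ = ζ' * (ζ * (x' * z * x'⁻¹ * z⁻¹)) * (x * z * x⁻¹ * z⁻¹) := by group
    _ = ζ' * ((x' * z * x'⁻¹ * z⁻¹) * ζ) * (x * z * x⁻¹ * z⁻¹) := by rw [← c1]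
    _ = _ := by group

/-- the canonical lift of `Y_R` meets `ker σ` trivially in the situation of `f4m_q4_comap_comm`. -/
theorem f4m_q4_lift_inf_ker (S : CopSetting σ p Ht) {Ya YR : Subgroup G} (hNa : NormOn σ Ht Ya)
    (hNR : NormOn σ Ht YR) {h₁ : Γ} (hh₁ : h₁ ∈ Ht) (hfree₁ : FreeOn σ h₁ Ya) (hcent₁ : CentOn σ h₁ YR)
    {h₂ : Γ} (hh₂ : h₂ ∈ Ht) (hfree₂ : FreeOn σ h₂ YR)
    (hcomm : ∀ x ∈ Ya, ∀ y ∈ YR, x * y = y * x) (hexp : ∀ x ∈ Ya, x * x = 1)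
    (z₀ : G) (hab : ∀ x ∈ Ya, x * z₀ * x⁻¹ * z₀⁻¹ ∈ YR)
    (hsurj : ∀ y ∈ YR, ∃ x ∈ Ya, x * z₀ * x⁻¹ * z₀⁻¹ = y) :
    f4m_lift σ Ht YR ⊓ σ.ker = ⊥ :=
  f4m_lift_inf_ker_of_comm S hNR hh₂ hfree₂
    (f4m_q4_comap_comm S hNa hNR hh₁ hfree₁ hcent₁ hh₂ hfree₂ hcomm hexp z₀ hab hsurj)

end Cfsg.Agent.F4M
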