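import Mathlib
import Cfsg.Agent.F4M.Defs
import Cfsg.Agent.Helper7.SzMulA

set_option autoImplicit false

/-! S2114 package A5 (file `Cfsg/Agent/F4M/FieldPair.lean`): the two places of Part I where the field is used (blueprint §A5).
A commutator pairing with central values on a group parametrized additively by a field `K`, `|K| > 4`, which is invariant under all scalars,
is trivial (`Helper7.SzMul.biadd_eq_one_of_scale`, file Helper7/SzMulA.lean).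
* `f4m_field_comap_comm`: the full preimage of a root group of type `SL₂` (or of the centre `W` of a root group of Suzuki type) is commutative.
* `f4m_field_sz_comm_le`: for a root group `Y` of Suzuki type with centre `W`, `⁅Ỹ, Ỹ⁆ ≤ W̃` once `Ỹ` centralizes `σ⁻¹(W)`.
Prefix `f4m_field_` (extra helpers: `f4m_fieldpair_*`). -/

namespace Cfsg.Agent.F4M

open scoped commutatorElement

/-! ### helper2's written-out commutator identities (used by `F4M/PartI.lean`) -/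

section helpers2

variable {Γ : Type*} [Group Γ]

/-- `⁅a a', b⁆ = ⁅a', b⁆ ⁅a, b⁆` if `a` commutes with `⁅a', b⁆` (commutators written out). -/
theorem f4m_field_cm_mul_left {a a' b : Γ} (h : a * (a' * b * a'⁻¹ * b⁻¹) = (a' * b * a'⁻¹ * b⁻¹) * a) :
    (a * a') * b * (a * a')⁻¹ * b⁻¹ = (a' * b * a'⁻¹ * b⁻¹) * (a * b * a⁻¹ * b⁻¹) := by
  calc (a * a') * b * (a * a')⁻¹ * b⁻¹ = (a * (a' * b * a'⁻¹ * b⁻¹)) * b * a⁻¹ * b⁻¹ := by group
    _ = ((a' * b * a'⁻¹ * b⁻¹) * a) * b * a⁻¹ * b⁻¹ := by rw [h]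
    _ = (a' * b * a'⁻¹ * b⁻¹) * (a * b * a⁻¹ * b⁻¹) := by group

/-- `⁅a, b b'⁆ = ⁅a, b⁆ ⁅a, b'⁆` if `b` commutes with `⁅a, b'⁆` (commutators written out). -/
theorem f4m_field_cm_mul_right {a b b' : Γ} (h : b * (a * b' * a⁻¹ * b'⁻¹) = (a * b' * a⁻¹ * b'⁻¹) * b) :
    a * (b * b') * a⁻¹ * (b * b')⁻¹ = (a * b * a⁻¹ * b⁻¹) * (a * b' * a⁻¹ * b'⁻¹) := by
  calc a * (b * b') * a⁻¹ * (b * b')⁻¹ = a * b * a⁻¹ * b⁻¹ * (b * (a * b' * a⁻¹ * b'⁻¹)) * b⁻¹ := by group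
    _ = a * b * a⁻¹ * b⁻¹ * ((a * b' * a⁻¹ * b'⁻¹) * b) * b⁻¹ := by rw [h]
    _ = (a * b * a⁻¹ * b⁻¹) * (a * b' * a⁻¹ * b'⁻¹) := by group

/-- a central factor on the left drops out of a commutator. -/
theorem f4m_field_cm_central_left {a b z : Γ} (hz : ∀ g : Γ, g * z = z * g) :
    (a * z) * b * (a * z)⁻¹ * b⁻¹ = a * b * a⁻¹ * b⁻¹ := by
  have h1 : z * b * z⁻¹ = b := by rw [← hz b]; group
  calc (a * z) * b * (a * z)⁻¹ * b⁻¹ = a * (z * b * z⁻¹) * a⁻¹ * b⁻¹ := by group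
    _ = a * b * a⁻¹ * b⁻¹ := by rw [h1]

/-- a central factor on the right drops out of a commutator. -/
theorem f4m_field_cm_central_right {a b z : Γ} (hz : ∀ g : Γ, g * z = z * g) :
    a * (b * z) * a⁻¹ * (b * z)⁻¹ = a * b * a⁻¹ * b⁻¹ := by
  have h1 : z * a⁻¹ * z⁻¹ = a⁻¹ := by rw [← hz a⁻¹]; group
  calc a * (b * z) * a⁻¹ * (b * z)⁻¹ = a * b * (z * a⁻¹ * z⁻¹) * b⁻¹ := by group
    _ = a * b * a⁻¹ * b⁻¹ := by rw [h1]

/-- commuting elements have trivial commutator. -/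
theorem f4m_field_cm_eq_one {a b : Γ} (h : a * b = b * a) : a * b * a⁻¹ * b⁻¹ = 1 := by
  rw [h]; group

/-- elements with trivial commutator commute. -/
theorem f4m_field_comm_of_cm {a b : Γ} (h : a * b * a⁻¹ * b⁻¹ = 1) : a * b = b * a := by
  calc a * b = (a * b * a⁻¹ * b⁻¹) * (b * a) := by group
    _ = b * a := by rw [h, one_mul]

end helpers2

variable {Γ G : Type*} [Group Γ] [Group G] {σ : Γ →* G} {p : ℕ} {Ht : Subgroup Γ}

/-! ### commutator identities -/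

omit [Group G] in
/-- `⁅a a', b⁆ = ⁅a, b⁆ ⁅a', b⁆` if `⁅a', b⁆` commutes with `a` and with `⁅a, b⁆`. -/
theorem f4m_fieldpair_comm_mul_left {a a' b : Γ} (h1 : a * ⁅a', b⁆ = ⁅a', b⁆ * a)
    (h2 : ⁅a, b⁆ * ⁅a', b⁆ = ⁅a', b⁆ * ⁅a, b⁆) : ⁅a * a', b⁆ = ⁅a, b⁆ * ⁅a', b⁆ := by
  have e1 : ⁅a * a', b⁆ = a * ⁅a', b⁆ * (b * a⁻¹ * b⁻¹) := by
    simp only [commutatorElement_def]; group
  have e2 : ⁅a', b⁆ * a * (b * a⁻¹ * b⁻¹) = ⁅a', b⁆ * ⁅a, b⁆ := by
    simp only [commutatorElement_def]; group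
  rw [e1, h1, e2, ← h2]

omit [Group G] in
/-- `⁅a, b b'⁆ = ⁅a, b⁆ ⁅a, b'⁆` if `⁅a, b'⁆` commutes with `a b a⁻¹` and with `⁅a, b⁆`. -/
theorem f4m_fieldpair_comm_mul_right {a b b' : Γ} (h1 : a * b * a⁻¹ * ⁅a, b'⁆ = ⁅a, b'⁆ * (a * b * a⁻¹))
    (h2 : ⁅a, b⁆ * ⁅a, b'⁆ = ⁅a, b'⁆ * ⁅a, b⁆) : ⁅a, b * b'⁆ = ⁅a, b⁆ * ⁅a, b'⁆ := by
  have e1 : ⁅a, b * b'⁆ = a * b * a⁻¹ * ⁅a, b'⁆ * b⁻¹ := by
    simp only [commutatorElement_def]; group
  have e2 : ⁅a, b'⁆ * (a * b * a⁻¹) * b⁻¹ = ⁅a, b'⁆ * ⁅a, b⁆ := by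
    simp only [commutatorElement_def]; group
  rw [e1, h1, e2, ← h2]

omit [Group G] in
/-- a factor commuting with `b` can be dropped on the left. -/
theorem f4m_fieldpair_comm_absorb_left {a b z : Γ} (h : z * b = b * z) : ⁅a * z, b⁆ = ⁅a, b⁆ := by
  calc ⁅a * z, b⁆ = a * (z * b) * z⁻¹ * a⁻¹ * b⁻¹ := by simp only [commutatorElement_def]; group
    _ = a * (b * z) * z⁻¹ * a⁻¹ * b⁻¹ := by rw [h]
    _ = ⁅a, b⁆ := by simp only [commutatorElement_def]; group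

omit [Group G] in
/-- a factor commuting with `a` can be dropped on the right. -/
theorem f4m_fieldpair_comm_absorb_right {a b z : Γ} (h : a * z = z * a) : ⁅a, b * z⁆ = ⁅a, b⁆ := by
  have h' : z * a⁻¹ = a⁻¹ * z := ((show Commute a z from h).symm.inv_right)
  calc ⁅a, b * z⁆ = a * b * (z * a⁻¹) * z⁻¹ * b⁻¹ := by simp only [commutatorElement_def]; group
    _ = a * b * (a⁻¹ * z) * z⁻¹ * b⁻¹ := by rw [h']
    _ = ⁅a, b⁆ := by simp only [commutatorElement_def]; group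

/-- a commutator of two elements with commuting images is central. -/
theorem f4m_fieldpair_comm_central (hc : σ.ker ≤ Subgroup.center Γ) {a b : Γ} (h : σ a * σ b = σ b * σ a) :
    ∀ g, g * ⁅a, b⁆ = ⁅a, b⁆ * g := by
  have hk : ⁅a, b⁆ ∈ σ.ker := by
    rw [MonoidHom.mem_ker, map_commutatorElement, commutatorElement_eq_one_iff_mul_comm]; exact h
  exact Subgroup.mem_center_iff.mp (hc hk)

/-- with central kernel, a commutator depends only on the images. -/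
theorem f4m_fieldpair_comm_congr (hc : σ.ker ≤ Subgroup.center Γ) {a a' b b' : Γ} (ha : σ a = σ a') (hb : σ b = σ b') :
    ⁅a, b⁆ = ⁅a', b'⁆ := by
  obtain ⟨z, hzdef⟩ : ∃ z, z = a'⁻¹ * a := ⟨_, rfl⟩
  obtain ⟨z', hzdef'⟩ : ∃ z', z' = b'⁻¹ * b := ⟨_, rfl⟩
  have e1 : a = a' * z := by rw [hzdef]; group
  have e2 : b = b' * z' := by rw [hzdef']; group
  have hz : ∀ g, g * z = z * g := by
    apply Subgroup.mem_center_iff.mp; apply hc
    rw [MonoidHom.mem_ker, hzdef, map_mul, map_inv, ha]; simp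
  have hz' : ∀ g, g * z' = z' * g := by
    apply Subgroup.mem_center_iff.mp; apply hc
    rw [MonoidHom.mem_ker, hzdef', map_mul, map_inv, hb]; simp
  calc ⁅a, b⁆ = ⁅a' * z, b' * z'⁆ := by rw [← e1, ← e2]
    _ = ⁅a', b' * z'⁆ := f4m_fieldpair_comm_absorb_left (hz _).symm
    _ = ⁅a', b'⁆ := f4m_fieldpair_comm_absorb_right (hz' _)

/-- the full preimage of a subgroup parametrized additively by a field with more than four elements, on which all scalars are induced by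
conjugation, is commutative. -/
theorem f4m_field_comap_comm {K : Type*} [Field K] (hK : ∃ s : Finset K, 4 < s.card)
    (hs : Function.Surjective σ) (hc : σ.ker ≤ Subgroup.center Γ)
    (x : K → G) (hadd : ∀ t u, x (t + u) = x t * x u)
    (hscal : ∀ c : K, c ≠ 0 → ∃ g : G, ∀ t, g * x t * g⁻¹ = x (c * t))
    (Y : Subgroup G) (hY : ∀ y ∈ Y, ∃ t, y = x t) :
    ∀ a ∈ Y.comap σ, ∀ b ∈ Y.comap σ, a * b = b * a := by
  obtain ⟨xt, hxt⟩ : ∃ xt : K → Γ, ∀ t, σ (xt t) = x t :=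
    ⟨fun t => Function.surjInv hs (x t), fun t => Function.surjInv_eq hs (x t)⟩
  have hxcomm : ∀ t u, x t * x u = x u * x t := fun t u => by rw [← hadd, ← hadd, add_comm]
  have hcen : ∀ t u g, g * ⁅xt t, xt u⁆ = ⁅xt t, xt u⁆ * g := fun t u =>
    f4m_fieldpair_comm_central hc (by rw [hxt, hxt]; exact hxcomm t u)
  have hf := Helper7.SzMul.biadd_eq_one_of_scale hK (fun t u => ⁅xt t, xt u⁆)
    (by
      intro t t' u
      show ⁅xt (t + t'), xt u⁆ = ⁅xt t, xt u⁆ * ⁅xt t', xt u⁆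
      rw [f4m_fieldpair_comm_congr hc (a' := xt t * xt t') (b' := xt u)
        (by rw [hxt, map_mul, hxt, hxt, hadd]) rfl]
      exact f4m_fieldpair_comm_mul_left (hcen t' u _) (hcen t' u _))
    (by
      intro t u u'
      show ⁅xt t, xt (u + u')⁆ = ⁅xt t, xt u⁆ * ⁅xt t, xt u'⁆
      rw [f4m_fieldpair_comm_congr hc (a' := xt t) (b' := xt u * xt u') rfl
        (by rw [hxt, map_mul, hxt, hxt, hadd])]
      exact f4m_fieldpair_comm_mul_right (hcen t u' _) (hcen t u' _))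
    (fun t => commutatorElement_self _)
    (by
      intro v hv t u
      show ⁅xt (v * t), xt (v * u)⁆ = ⁅xt t, xt u⁆
      obtain ⟨g, hg⟩ := hscal v hv
      obtain ⟨gt, hgt⟩ := hs g
      rw [f4m_fieldpair_comm_congr hc (a' := gt * xt t * gt⁻¹) (b' := gt * xt u * gt⁻¹)
        (by rw [hxt, map_mul, map_mul, map_inv, hgt, hxt, hg])
        (by rw [hxt, map_mul, map_mul, map_inv, hgt, hxt, hg]),
        ← conjugate_commutatorElement, hcen t u gt]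
      group)
  intro a ha b hb
  obtain ⟨t, ht⟩ := hY _ (Subgroup.mem_comap.mp ha)
  obtain ⟨u, hu⟩ := hY _ (Subgroup.mem_comap.mp hb)
  rw [← commutatorElement_eq_one_iff_mul_comm,
    f4m_fieldpair_comm_congr hc (a' := xt t) (b' := xt u) (by rw [ht, hxt]) (by rw [hu, hxt])]
  exact hf t u

/-- a root group `Y` of Suzuki type: `Y = {e t u}`, `W = {e 0 u}` central in `Y`, `Y ⧸ W ≅ K⁺ ≅ W`, and `H` induces all scalars on
`Y ⧸ W` and on `W`. -/
structure SzRoot (K : Type*) [Field K] (H Y W : Subgroup G) where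
  /-- the parametrization -/
  e : K → K → G
  mem : ∀ t u, e t u ∈ Y
  surj : ∀ g ∈ Y, ∃ t u, g = e t u
  memW : ∀ u, e 0 u ∈ W
  surjW : ∀ g ∈ W, ∃ u, g = e 0 u
  mul : ∀ t u t' u', ∃ u'', e t u * e t' u' = e (t + t') u''
  mulW : ∀ t u u', e t u * e 0 u' = e t (u + u')
  cenW : ∀ t u u', e 0 u' * e t u = e t u * e 0 u'
  normW : ∀ h ∈ H, ∀ y ∈ W, h * y * h⁻¹ ∈ W
  scalV : ∀ c : K, c ≠ 0 → ∃ h ∈ H, ∀ t u, ∃ u', h * e t u * h⁻¹ = e (c * t) u'
  scalW : ∀ c : K, c ≠ 0 → ∃ h ∈ H, ∀ u, h * e 0 u * h⁻¹ = e 0 (c * u)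

/-- `W ≤ Y`. -/
theorem SzRoot.W_le {K : Type*} [Field K] {H Y W : Subgroup G} (R : SzRoot K H Y W) : W ≤ Y := by
  intro g hg
  obtain ⟨u, rfl⟩ := R.surjW g hg
  exact R.mem 0 u

/-- `Y ⧸ W` is abelian. -/
theorem SzRoot.comm_mem {K : Type*} [Field K] {H Y W : Subgroup G} (R : SzRoot K H Y W) :
    ∀ x ∈ Y, ∀ y ∈ Y, x * y * x⁻¹ * y⁻¹ ∈ W := by
  intro x hx y hy
  obtain ⟨t, u, rfl⟩ := R.surj x hx
  obtain ⟨t', u', rfl⟩ := R.surj y hy
  obtain ⟨u₁, h1⟩ := R.mul t u t' u'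
  obtain ⟨u₂, h2⟩ := R.mul t' u' t u
  have h3 : R.e (t + t') u₁ = R.e (t' + t) u₂ * R.e 0 (u₁ - u₂) := by
    rw [R.mulW, add_comm t' t, show u₂ + (u₁ - u₂) = u₁ by ring]
  have hxy : R.e t u * R.e t' u' = R.e t' u' * R.e t u * R.e 0 (u₁ - u₂) := by rw [h1, h3, h2]
  have hw1 := R.cenW t u (u₁ - u₂)
  have hw2 := R.cenW t' u' (u₁ - u₂)
  have key : R.e t u * R.e t' u' * (R.e t u)⁻¹ * (R.e t' u')⁻¹ = R.e 0 (u₁ - u₂) := by
    rw [hxy]
    calc R.e t' u' * R.e t u * R.e 0 (u₁ - u₂) * (R.e t u)⁻¹ * (R.e t' u')⁻¹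
        = R.e t' u' * (R.e t u * R.e 0 (u₁ - u₂)) * (R.e t u)⁻¹ * (R.e t' u')⁻¹ := by group
      _ = R.e t' u' * (R.e 0 (u₁ - u₂) * R.e t u) * (R.e t u)⁻¹ * (R.e t' u')⁻¹ := by rw [hw1]
      _ = (R.e t' u' * R.e 0 (u₁ - u₂)) * (R.e t' u')⁻¹ := by group
      _ = (R.e 0 (u₁ - u₂) * R.e t' u') * (R.e t' u')⁻¹ := by rw [hw2]
      _ = R.e 0 (u₁ - u₂) := by group
  rw [key]
  exact R.memW _

/-- `e 0 0 = 1`. -/
theorem f4m_fieldpair_e00 {K : Type*} [Field K] {H Y W : Subgroup G} (R : SzRoot K H Y W) : R.e 0 0 = 1 := by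
  have h := R.mulW 0 0 0
  rw [add_zero] at h
  exact mul_left_cancel (h.trans (mul_one _).symm)

/-- `e 0 u * (e 0 v)⁻¹ = e 0 (u - v)`. -/
theorem f4m_fieldpair_e0_sub {K : Type*} [Field K] {H Y W : Subgroup G} (R : SzRoot K H Y W) (u v : K) :
    R.e 0 u * (R.e 0 v)⁻¹ = R.e 0 (u - v) := by
  have h := R.mulW 0 (u - v) v
  rw [sub_add_cancel] at h
  rw [← h]; group

set_option linter.unusedVariables false in
/-- Suzuki type: if `Ỹ` centralizes the full preimage of `W` and `W̃ ∩ ker σ = 1`, then `⁅Ỹ, Ỹ⁆ ≤ W̃`. -/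
theorem f4m_field_sz_comm_le {K : Type*} [Field K] (hK : ∃ s : Finset K, 4 < s.card) (S : CopSetting σ p Ht)
    {Y W : Subgroup G} (R : SzRoot K (Ht.map σ) Y W) (hN : NormOn σ Ht Y)
    {h : Γ} (hh : h ∈ Ht) (hfree : FreeOn σ h Y)
    (hWk : f4m_lift σ Ht W ⊓ σ.ker = ⊥)
    (hcen : ∀ e ∈ f4m_lift σ Ht Y, ∀ w ∈ W.comap σ, e * w = w * e) :
    ∀ e ∈ f4m_lift σ Ht Y, ∀ e' ∈ f4m_lift σ Ht Y, e * e' * e⁻¹ * e'⁻¹ ∈ f4m_lift σ Ht W := by
  classical
  have hWY : W ≤ Y := R.W_le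
  have hNW : NormOn σ Ht W := fun k hk y hy => R.normW (σ k) (Subgroup.mem_map_of_mem σ hk) y hy
  -- (i) lifts lie in the preimages
  have hle : ∀ {X : Subgroup G}, NormOn σ Ht X → f4m_lift σ Ht X ≤ X.comap σ := by
    intro X hX
    unfold f4m_lift
    rw [Subgroup.commutator_le]
    intro a ha k hk
    rw [Subgroup.mem_comap, map_commutatorElement, commutatorElement_def]
    have h1 : σ k * (σ a)⁻¹ * (σ k)⁻¹ ∈ X := hX k hk _ (X.inv_mem ha)
    have e1 : σ a * σ k * (σ a)⁻¹ * (σ k)⁻¹ = σ a * (σ k * (σ a)⁻¹ * (σ k)⁻¹) := by group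
    rw [e1]; exact X.mul_mem ha h1
  have hE_le := hle hN
  have hWt_le := hle hNW
  -- (ii) `Ht` normalizes the lift of `Y`
  have hconjE : ∀ k ∈ Ht, ∀ a ∈ f4m_lift σ Ht Y, k * a * k⁻¹ ∈ f4m_lift σ Ht Y := by
    intro k hk
    have hsub : f4m_lift σ Ht Y ≤ (f4m_lift σ Ht Y).comap (MulAut.conj k).toMonoidHom := by
      unfold f4m_lift
      rw [Subgroup.commutator_le]
      intro a ha k' hk'
      rw [Subgroup.mem_comap]
      show k * ⁅a, k'⁆ * k⁻¹ ∈ _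
      rw [conjugate_commutatorElement]
      refine Subgroup.commutator_mem_commutator ?_ (Ht.mul_mem (Ht.mul_mem hk hk') (Ht.inv_mem hk))
      rw [Subgroup.mem_comap, map_mul, map_mul, map_inv]
      exact hN k hk _ ha
    intro a ha
    exact hsub ha
  -- (iii) `σ(Ỹ)` contains the commutators `⁅σ k, y⁆`
  have himg : ∀ y ∈ Y, ∀ k ∈ Ht, σ k * y * (σ k)⁻¹ * y⁻¹ ∈ (f4m_lift σ Ht Y).map σ := by
    intro y hy k hk
    obtain ⟨yt, rfl⟩ := S.surj y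
    refine ⟨⁅k, yt⁆, ?_, by rw [map_commutatorElement, commutatorElement_def]⟩
    rw [← commutatorElement_inv]
    exact Subgroup.inv_mem _ (Subgroup.commutator_mem_commutator (Subgroup.mem_comap.mpr hy) hk)
  -- a scalar `c ≠ 0, 1`
  obtain ⟨s, hs4⟩ := hK
  obtain ⟨c, hcs, hcn⟩ := Finset.exists_mem_notMem_of_card_lt_card (s := ({0, 1} : Finset K)) (t := s)
    (lt_of_le_of_lt Finset.card_le_two (by omega))
  rw [Finset.mem_insert, Finset.mem_singleton, not_or] at hcn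
  obtain ⟨hc0, hc1⟩ := hcn
  have hc1' : c - 1 ≠ 0 := sub_ne_zero.mpr hc1
  -- `W ≤ σ(Ỹ)`
  have hWimg : ∀ v : K, R.e 0 v ∈ (f4m_lift σ Ht Y).map σ := by
    intro v
    obtain ⟨h₁, hh₁, hsc⟩ := R.scalW c hc0
    obtain ⟨k, hk, rfl⟩ := Subgroup.mem_map.mp hh₁
    have h1 := himg (R.e 0 (v / (c - 1))) (R.mem _ _) k hk
    rw [hsc, f4m_fieldpair_e0_sub] at h1
    have e1 : c * (v / (c - 1)) - v / (c - 1) = v := by
      rw [← sub_one_mul, mul_div_cancel₀ _ hc1']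
    rwa [e1] at h1
  -- every `e t 0` lies in `σ(Ỹ)`
  have hVimg : ∀ t : K, R.e t 0 ∈ (f4m_lift σ Ht Y).map σ := by
    intro t
    obtain ⟨h₀, hh₀, hsc⟩ := R.scalV c hc0
    obtain ⟨k, hk, rfl⟩ := Subgroup.mem_map.mp hh₀
    obtain ⟨u', hu'⟩ := hsc (t / (c - 1)) 0
    obtain ⟨u₃, hu₃⟩ := R.mul t 0 (t / (c - 1)) 0
    have hct : t + t / (c - 1) = c * (t / (c - 1)) := by
      have h := mul_div_cancel₀ t hc1'
      calc t + t / (c - 1) = (c - 1) * (t / (c - 1)) + t / (c - 1) := by rw [h]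
        _ = c * (t / (c - 1)) := by ring
    have h1 := himg (R.e (t / (c - 1)) 0) (R.mem _ _) k hk
    have hg : σ k * R.e (t / (c - 1)) 0 * (σ k)⁻¹ * (R.e (t / (c - 1)) 0)⁻¹ = R.e t 0 * R.e 0 (u' - u₃) := by
      rw [hu']
      have e1 : R.e (c * (t / (c - 1))) u' = R.e t 0 * R.e (t / (c - 1)) 0 * R.e 0 (u' - u₃) := by
        rw [hu₃, hct, R.mulW, show u₃ + (u' - u₃) = u' by ring]
      rw [e1]
      have e2 := R.cenW (t / (c - 1)) 0 (u' - u₃)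
      calc R.e t 0 * R.e (t / (c - 1)) 0 * R.e 0 (u' - u₃) * (R.e (t / (c - 1)) 0)⁻¹
          = R.e t 0 * (R.e (t / (c - 1)) 0 * R.e 0 (u' - u₃)) * (R.e (t / (c - 1)) 0)⁻¹ := by group
        _ = R.e t 0 * (R.e 0 (u' - u₃) * R.e (t / (c - 1)) 0) * (R.e (t / (c - 1)) 0)⁻¹ := by rw [e2]
        _ = R.e t 0 * R.e 0 (u' - u₃) := by group
    rw [hg] at h1
    have h2 := hWimg (u' - u₃)
    have e3 : R.e t 0 = R.e t 0 * R.e 0 (u' - u₃) * (R.e 0 (u' - u₃))⁻¹ := by group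
    rw [e3]
    exact Subgroup.mul_mem _ h1 (Subgroup.inv_mem _ h2)
  choose et het_mem het_map using fun t => Subgroup.mem_map.mp (hVimg t)
  -- commutators of elements of `Ỹ`
  have hcommW : ∀ a ∈ f4m_lift σ Ht Y, ∀ b ∈ f4m_lift σ Ht Y, ⁅a, b⁆ ∈ W.comap σ := by
    intro a ha b hb
    rw [Subgroup.mem_comap, map_commutatorElement, commutatorElement_def]
    exact R.comm_mem _ (hE_le ha) _ (hE_le hb)
  have hcommE : ∀ a ∈ f4m_lift σ Ht Y, ∀ b ∈ f4m_lift σ Ht Y, ⁅a, b⁆ ∈ f4m_lift σ Ht Y := by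
    intro a ha b hb
    rw [commutatorElement_def]
    exact Subgroup.mul_mem _ (Subgroup.mul_mem _ (Subgroup.mul_mem _ ha hb) (Subgroup.inv_mem _ ha))
      (Subgroup.inv_mem _ hb)
  have hmulL : ∀ a ∈ f4m_lift σ Ht Y, ∀ a' ∈ f4m_lift σ Ht Y, ∀ b ∈ f4m_lift σ Ht Y,
      ⁅a * a', b⁆ = ⁅a, b⁆ * ⁅a', b⁆ := by
    intro a ha a' ha' b hb
    exact f4m_fieldpair_comm_mul_left (hcen a ha _ (hcommW a' ha' b hb))
      (hcen _ (hcommE a ha b hb) _ (hcommW a' ha' b hb))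
  have hmulR : ∀ a ∈ f4m_lift σ Ht Y, ∀ b ∈ f4m_lift σ Ht Y, ∀ b' ∈ f4m_lift σ Ht Y,
      ⁅a, b * b'⁆ = ⁅a, b⁆ * ⁅a, b'⁆ := by
    intro a ha b hb b' hb'
    exact f4m_fieldpair_comm_mul_right
      (hcen _ (Subgroup.mul_mem _ (Subgroup.mul_mem _ ha hb) (Subgroup.inv_mem _ ha)) _ (hcommW a ha b' hb'))
      (hcen _ (hcommE a ha b hb) _ (hcommW a ha b' hb'))
  -- an element of `Ỹ` above `e t u'` is `et t` times an element above `W`
  have hdec' : ∀ a ∈ f4m_lift σ Ht Y, ∀ t u', σ a = R.e t u' → (et t)⁻¹ * a ∈ W.comap σ := by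
    intro a ha t u' htu
    rw [Subgroup.mem_comap, map_mul, map_inv, het_map, htu]
    have h1 := R.mulW t 0 u'
    rw [zero_add] at h1
    rw [← h1]
    have e1 : (R.e t 0)⁻¹ * (R.e t 0 * R.e 0 u') = R.e 0 u' := by group
    rw [e1]; exact R.memW u'
  -- the reduction of a commutator to the chosen lifts
  have hred : ∀ a ∈ f4m_lift σ Ht Y, ∀ b ∈ f4m_lift σ Ht Y, ∀ t u' t' u'', σ a = R.e t u' → σ b = R.e t' u'' →
      ⁅a, b⁆ = ⁅et t, et t'⁆ := by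
    intro a ha b hb t u' t' u'' hta htb
    have hω := hdec' a ha t u' hta
    have hω' := hdec' b hb t' u'' htb
    have ea : a = et t * ((et t)⁻¹ * a) := by group
    have eb : b = et t' * ((et t')⁻¹ * b) := by group
    calc ⁅a, b⁆ = ⁅et t * ((et t)⁻¹ * a), b⁆ := by rw [← ea]
      _ = ⁅et t, b⁆ := f4m_fieldpair_comm_absorb_left (hcen b hb _ hω).symm
      _ = ⁅et t, et t' * ((et t')⁻¹ * b)⁆ := by rw [← eb]
      _ = ⁅et t, et t'⁆ := f4m_fieldpair_comm_absorb_right (hcen _ (het_mem t) _ hω')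
  -- the abelian group `C₀ = Ỹ ⊓ σ⁻¹(W)` and its quotient by `W̃`
  have hWtE : f4m_lift σ Ht W ≤ f4m_lift σ Ht Y :=
    Subgroup.commutator_mono (Subgroup.comap_mono hWY) le_rfl
  haveI hNn : ((f4m_lift σ Ht W).subgroupOf (f4m_lift σ Ht Y ⊓ W.comap σ)).Normal := by
    constructor
    intro n hn g
    rw [Subgroup.mem_subgroupOf] at hn ⊢
    have hgE : (g : Γ) ∈ f4m_lift σ Ht Y := (Subgroup.mem_inf.mp g.2).1
    have hcomm := hcen g hgE n (hWt_le hn)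
    have e1 : ((g * n * g⁻¹ : ↥(f4m_lift σ Ht Y ⊓ W.comap σ)) : Γ) = (n : Γ) := by
      rw [Subgroup.coe_mul, Subgroup.coe_mul, Subgroup.coe_inv, hcomm]; group
    rw [e1]; exact hn
  have hmemC : ∀ t u, ⁅et t, et u⁆ ∈ f4m_lift σ Ht Y ⊓ W.comap σ := fun t u =>
    Subgroup.mem_inf.mpr ⟨hcommE _ (het_mem t) _ (het_mem u), hcommW _ (het_mem t) _ (het_mem u)⟩
  have hf := Helper7.SzMul.biadd_eq_one_of_scale ⟨s, hs4⟩
    (fun t u => (QuotientGroup.mk (⟨⁅et t, et u⁆, hmemC t u⟩ : ↥(f4m_lift σ Ht Y ⊓ W.comap σ)) :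
      ↥(f4m_lift σ Ht Y ⊓ W.comap σ) ⧸ (f4m_lift σ Ht W).subgroupOf (f4m_lift σ Ht Y ⊓ W.comap σ)))
    (by
      intro t t' u
      obtain ⟨u₀, hu₀⟩ := R.mul t 0 t' 0
      have hprod : σ (et t * et t') = R.e (t + t') u₀ := by rw [map_mul, het_map, het_map, hu₀]
      have hE2 : et t * et t' ∈ f4m_lift σ Ht Y := Subgroup.mul_mem _ (het_mem t) (het_mem t')
      have e1 : ⁅et t * et t', et u⁆ = ⁅et (t + t'), et u⁆ :=
        hred _ hE2 _ (het_mem u) (t + t') u₀ u 0 hprod (het_map u)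
      have e2 := hmulL _ (het_mem t) _ (het_mem t') _ (het_mem u)
      rw [e1] at e2
      show QuotientGroup.mk _ = QuotientGroup.mk _ * QuotientGroup.mk _
      rw [← QuotientGroup.mk_mul]
      congr 1
      exact Subtype.ext e2)
    (by
      intro t u u'
      obtain ⟨u₀, hu₀⟩ := R.mul u 0 u' 0
      have hprod : σ (et u * et u') = R.e (u + u') u₀ := by rw [map_mul, het_map, het_map, hu₀]
      have hE2 : et u * et u' ∈ f4m_lift σ Ht Y := Subgroup.mul_mem _ (het_mem u) (het_mem u')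
      have e1 : ⁅et t, et u * et u'⁆ = ⁅et t, et (u + u')⁆ :=
        hred _ (het_mem t) _ hE2 t 0 (u + u') u₀ (het_map t) hprod
      have e2 := hmulR _ (het_mem t) _ (het_mem u) _ (het_mem u')
      rw [e1] at e2
      show QuotientGroup.mk _ = QuotientGroup.mk _ * QuotientGroup.mk _
      rw [← QuotientGroup.mk_mul]
      congr 1
      exact Subtype.ext e2)
    (by
      intro t
      show QuotientGroup.mk _ = 1
      rw [QuotientGroup.eq_one_iff, Subgroup.mem_subgroupOf]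
      show ⁅et t, et t⁆ ∈ _
      rw [commutatorElement_self]
      exact Subgroup.one_mem _)
    (by
      intro v hv t u
      obtain ⟨h₀, hh₀, hsc⟩ := R.scalV v hv
      obtain ⟨k, hk, rfl⟩ := Subgroup.mem_map.mp hh₀
      obtain ⟨u₁, hu₁⟩ := hsc t 0
      obtain ⟨u₂, hu₂⟩ := hsc u 0
      have ha₁ : k * et t * k⁻¹ ∈ f4m_lift σ Ht Y := hconjE k hk _ (het_mem t)
      have hb₁ : k * et u * k⁻¹ ∈ f4m_lift σ Ht Y := hconjE k hk _ (het_mem u)
      have hσa : σ (k * et t * k⁻¹) = R.e (v * t) u₁ := by rw [map_mul, map_mul, map_inv, het_map, hu₁]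
      have hσb : σ (k * et u * k⁻¹) = R.e (v * u) u₂ := by rw [map_mul, map_mul, map_inv, het_map, hu₂]
      have e1 : k * ⁅et t, et u⁆ * k⁻¹ = ⁅et (v * t), et (v * u)⁆ := by
        rw [conjugate_commutatorElement]
        exact hred _ ha₁ _ hb₁ (v * t) u₁ (v * u) u₂ hσa hσb
      show QuotientGroup.mk _ = QuotientGroup.mk _
      rw [QuotientGroup.eq, Subgroup.mem_subgroupOf]
      show (⁅et (v * t), et (v * u)⁆)⁻¹ * ⁅et t, et u⁆ ∈ f4m_lift σ Ht W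
      rw [← e1]
      have e2 : (k * ⁅et t, et u⁆ * k⁻¹)⁻¹ * ⁅et t, et u⁆ = ⁅(⁅et t, et u⁆)⁻¹, k⁆⁻¹ := by
        simp only [commutatorElement_def]; group
      rw [e2]
      exact Subgroup.inv_mem _ (Subgroup.commutator_mem_commutator
        (Subgroup.inv_mem _ (hcommW _ (het_mem t) _ (het_mem u))) hk))
  -- conclusion
  intro e he e' he'
  obtain ⟨t, u', htu⟩ := R.surj _ (hE_le he)
  obtain ⟨t', u'', htu'⟩ := R.surj _ (hE_le he')
  have e1 : e * e' * e⁻¹ * e'⁻¹ = ⁅et t, et t'⁆ := by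
    rw [← commutatorElement_def]
    exact hred e he e' he' t u' t' u'' htu htu'
  rw [e1]
  have h1 := hf t t'
  rw [QuotientGroup.eq_one_iff, Subgroup.mem_subgroupOf] at h1
  exact h1

end Cfsg.Agent.F4M
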