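import Mathlib
import Cfsg.Agent.F4M.Cop

set_option autoImplicit false

/-! S2114 package A3 (file `Cfsg/Agent/F4M/SzStep.lean`): the Suzuki-type root groups; blueprint §1 (c).
`f4m_sz_center` = step 2 (three subgroups lemma, `Subgroup.commutator_commutator_eq_bot_of_rotate`), `f4m_sz_inf` = step 3b.
Helper names: prefix `f4m_szstep_`. -/

namespace Cfsg.Agent.F4M

open scoped commutatorElement

variable {Γ G : Type*} [Group Γ] [Group G] [Finite Γ] [Finite G] {p : ℕ} [Fact p.Prime]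
  {σ : Γ →* G} {Ht : Subgroup Γ}

omit [Finite Γ] in
/-- elementwise commuting subgroups have trivial commutator subgroup. -/
theorem f4m_szstep_comm_eq_bot {A B : Subgroup Γ} (h : ∀ a ∈ A, ∀ b ∈ B, a * b = b * a) : ⁅A, B⁆ = ⊥ := by
  rw [Subgroup.commutator_eq_bot_iff_le_centralizer]
  intro a ha
  rw [Subgroup.mem_centralizer_iff]
  intro b hb
  exact (h a ha b hb).symm

set_option linter.unusedVariables false in
/-- step 2: if `W ≤ [Y₄, Y₁]`, `[Y₁, Y₂] = [Y₂, Y₃] = [Y₁, Y₃] = 1` (already lifted), `[Y₂, Y₄] ⊆ Y₃`, then the lift of `Y₂` centralizes the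
whole preimage of `W`. -/
theorem f4m_sz_center (S : CopSetting σ p Ht) {Y₁ Y₂ Y₃ Y₄ W : Subgroup G}
    (h12 : ∀ x ∈ f4m_lift σ Ht Y₁, ∀ e ∈ f4m_lift σ Ht Y₂, x * e = e * x)
    (h23 : ∀ e ∈ f4m_lift σ Ht Y₂, ∀ t ∈ f4m_lift σ Ht Y₃, e * t = t * e)
    (h13 : ∀ x ∈ f4m_lift σ Ht Y₁, ∀ t ∈ f4m_lift σ Ht Y₃, x * t = t * x)
    (h3 : Y₃.comap σ = σ.ker ⊔ f4m_lift σ Ht Y₃)
    (h24 : ∀ e ∈ Y₂, ∀ c ∈ Y₄, e * c * e⁻¹ * c⁻¹ ∈ Y₃)
    (hl2 : f4m_lift σ Ht Y₂ ≤ Y₂.comap σ) (hl4 : f4m_lift σ Ht Y₄ ≤ Y₄.comap σ)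
    (h1 : (f4m_lift σ Ht Y₁).map σ = Y₁) (h4 : (f4m_lift σ Ht Y₄).map σ = Y₄)
    (hW : W ≤ ⁅Y₄, Y₁⁆) :
    ∀ e ∈ f4m_lift σ Ht Y₂, ∀ w ∈ W.comap σ, e * w = w * e := by
  have hAE : ⁅f4m_lift σ Ht Y₁, f4m_lift σ Ht Y₂⁆ = ⊥ := f4m_szstep_comm_eq_bot h12
  have h1' : ⁅⁅f4m_lift σ Ht Y₁, f4m_lift σ Ht Y₂⁆, f4m_lift σ Ht Y₄⁆ = ⊥ := by
    rw [hAE]; exact Subgroup.commutator_bot_left _
  have hEC : ⁅f4m_lift σ Ht Y₂, f4m_lift σ Ht Y₄⁆ ≤ Y₃.comap σ := by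
    rw [Subgroup.commutator_le]
    intro e he c hc
    rw [Subgroup.mem_comap, commutatorElement_def, map_mul, map_mul, map_mul, map_inv, map_inv]
    exact h24 _ (hl2 he) _ (hl4 hc)
  have hcentA : Y₃.comap σ ≤ Subgroup.centralizer ((f4m_lift σ Ht Y₁ : Subgroup Γ) : Set Γ) := by
    rw [h3]
    apply sup_le
    · intro z hz
      rw [Subgroup.mem_centralizer_iff]
      intro a _
      have hzc := S.central hz
      rw [Subgroup.mem_center_iff] at hzc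
      exact hzc a
    · intro t ht
      rw [Subgroup.mem_centralizer_iff]
      intro a ha
      exact h13 a ha t ht
  have h2' : ⁅⁅f4m_lift σ Ht Y₂, f4m_lift σ Ht Y₄⁆, f4m_lift σ Ht Y₁⁆ = ⊥ := by
    rw [Subgroup.commutator_eq_bot_iff_le_centralizer]
    exact hEC.trans hcentA
  have h3' : ⁅⁅f4m_lift σ Ht Y₄, f4m_lift σ Ht Y₁⁆, f4m_lift σ Ht Y₂⁆ = ⊥ :=
    Subgroup.commutator_commutator_eq_bot_of_rotate h1' h2'
  have hmap : ⁅Y₄, Y₁⁆ = (⁅f4m_lift σ Ht Y₄, f4m_lift σ Ht Y₁⁆).map σ := by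
    rw [Subgroup.map_commutator, h4, h1]
  intro e he w hw
  have hw' : σ w ∈ (⁅f4m_lift σ Ht Y₄, f4m_lift σ Ht Y₁⁆).map σ := by
    rw [← hmap]; exact hW hw
  obtain ⟨g, hg, hgw⟩ := hw'
  obtain ⟨z, hzdef⟩ : ∃ z, z = g⁻¹ * w := ⟨_, rfl⟩
  have hwz : w = g * z := by rw [hzdef]; group
  have hz : z ∈ σ.ker := by
    rw [MonoidHom.mem_ker, hzdef, map_mul, map_inv, hgw]; simp
  have hzc := S.central hz
  rw [Subgroup.mem_center_iff] at hzc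
  have hge : e * g = g * e := by
    have hgc : g ∈ Subgroup.centralizer ((f4m_lift σ Ht Y₂ : Subgroup Γ) : Set Γ) :=
      (Subgroup.commutator_eq_bot_iff_le_centralizer.mp h3') hg
    rw [Subgroup.mem_centralizer_iff] at hgc
    exact hgc e he
  rw [hwz]
  calc e * (g * z) = (e * g) * z := by group
    _ = g * e * z := by rw [hge]
    _ = g * (e * z) := by group
    _ = g * (z * e) := by rw [hzc e]
    _ = g * z * e := by group

set_option linter.unusedVariables false in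
/-- step 3b: `E = Ỹ`, `Wt ≤ E` central in `E`, `Wt ∩ ker σ = 1`, `[E, E] ≤ Wt`, `Wt` normalized by `h`, `h` fixed-point-free on `Y`
⟹ `E ∩ ker σ = 1`  (`x ↦ h x h⁻¹ x⁻¹` induces a surjective, hence injective, endomorphism of the abelian group `E / Wt`). -/
theorem f4m_sz_inf (S : CopSetting σ p Ht) {Y : Subgroup G} (hN : NormOn σ Ht Y) {h : Γ} (hh : h ∈ Ht)
    (hfree : FreeOn σ h Y) (Wt : Subgroup Γ) (hWE : Wt ≤ f4m_lift σ Ht Y) (hWk : Wt ⊓ σ.ker = ⊥)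
    (hWc : ∀ e ∈ f4m_lift σ Ht Y, ∀ w ∈ Wt, e * w = w * e)
    (hEE : ∀ e ∈ f4m_lift σ Ht Y, ∀ e' ∈ f4m_lift σ Ht Y, e * e' * e⁻¹ * e'⁻¹ ∈ Wt)
    (hWh : ∀ w ∈ Wt, h * w * h⁻¹ ∈ Wt) :
    f4m_lift σ Ht Y ⊓ σ.ker = ⊥ := by
  have hconj : ∀ x ∈ f4m_lift σ Ht Y, h * x * h⁻¹ ∈ f4m_lift σ Ht Y := f4m_lift_conj_Ht hN h hh
  have hpsi : ∀ x ∈ f4m_lift σ Ht Y, h * x * h⁻¹ * x⁻¹ ∈ f4m_lift σ Ht Y := fun x hx =>
    (f4m_lift σ Ht Y).mul_mem (hconj x hx) ((f4m_lift σ Ht Y).inv_mem hx)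
  -- the normal subgroup `Wt` of `E`
  haveI hNn : (Wt.subgroupOf (f4m_lift σ Ht Y)).Normal := by
    constructor
    intro n hn g
    rw [Subgroup.mem_subgroupOf] at hn ⊢
    have hcomm := hWc g g.2 n hn
    have : ((g * n * g⁻¹ : ↥(f4m_lift σ Ht Y)) : Γ) = (n : Γ) := by
      rw [Subgroup.coe_mul, Subgroup.coe_mul, Subgroup.coe_inv, hcomm]; group
    rw [this]; exact hn
  -- the map `x ↦ [h x h⁻¹ x⁻¹]`
  let f : ↥(f4m_lift σ Ht Y) →* ↥(f4m_lift σ Ht Y) ⧸ (Wt.subgroupOf (f4m_lift σ Ht Y)) :=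
    MonoidHom.mk' (fun x => QuotientGroup.mk (⟨h * x * h⁻¹ * x⁻¹, hpsi x x.2⟩ : ↥(f4m_lift σ Ht Y))) (by
      intro x y
      rw [← QuotientGroup.mk_mul, QuotientGroup.eq, Subgroup.mem_subgroupOf]
      have key := hEE x x.2 _ ((f4m_lift σ Ht Y).inv_mem (hpsi y y.2))
      convert key using 1
      simp only [Subgroup.coe_mul, Subgroup.coe_inv]
      group)
  have hf : ∀ x : ↥(f4m_lift σ Ht Y),
      f x = QuotientGroup.mk (⟨h * x * h⁻¹ * x⁻¹, hpsi x x.2⟩ : ↥(f4m_lift σ Ht Y)) := fun _ => rfl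
  have hker : Wt.subgroupOf (f4m_lift σ Ht Y) ≤ f.ker := by
    intro w hw
    rw [Subgroup.mem_subgroupOf] at hw
    rw [MonoidHom.mem_ker, hf, QuotientGroup.eq_one_iff, Subgroup.mem_subgroupOf]
    exact Wt.mul_mem (hWh _ hw) (Wt.inv_mem hw)
  let ψ := QuotientGroup.lift (Wt.subgroupOf (f4m_lift σ Ht Y)) f hker
  have hψ : ∀ x : ↥(f4m_lift σ Ht Y), ψ (QuotientGroup.mk x) = f x := fun x =>
    QuotientGroup.lift_mk _ _ x
  -- surjectivity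
  have hsurj : Function.Surjective ψ := by
    intro q
    induction q using QuotientGroup.induction_on with
    | H y =>
      have hgen : Subgroup.closure {g | ∃ x ∈ f4m_lift σ Ht Y, g = h * x * h⁻¹ * x⁻¹} ≤
          (f.range.comap (QuotientGroup.mk' (Wt.subgroupOf (f4m_lift σ Ht Y)))).map
            (f4m_lift σ Ht Y).subtype := by
        rw [Subgroup.closure_le]
        rintro g ⟨x, hx, rfl⟩
        refine ⟨⟨h * x * h⁻¹ * x⁻¹, hpsi x hx⟩, ?_, rfl⟩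
        show QuotientGroup.mk' _ _ ∈ f.range
        exact ⟨⟨x, hx⟩, rfl⟩
      have hy := hgen (f4m_lift_le_closure S hN hh hfree y.2)
      obtain ⟨r, hr, hry⟩ := hy
      have hry' : r = y := Subtype.ext hry
      rw [hry'] at hr
      obtain ⟨x, hx⟩ := hr
      exact ⟨QuotientGroup.mk x, by rw [hψ]; exact hx⟩
  have hinj : Function.Injective ψ := Finite.injective_iff_surjective.mpr hsurj
  rw [eq_bot_iff]
  intro z hz
  obtain ⟨hzE, hzk⟩ := Subgroup.mem_inf.mp hz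
  have hzc := S.central hzk
  rw [Subgroup.mem_center_iff] at hzc
  have h1 : ψ (QuotientGroup.mk (⟨z, hzE⟩ : ↥(f4m_lift σ Ht Y))) = ψ 1 := by
    rw [hψ, hf, map_one, QuotientGroup.eq_one_iff, Subgroup.mem_subgroupOf]
    have : h * z * h⁻¹ * z⁻¹ = 1 := by rw [hzc h]; group
    show h * z * h⁻¹ * z⁻¹ ∈ Wt
    rw [this]
    exact Wt.one_mem
  have h2 := hinj h1
  rw [QuotientGroup.eq_one_iff, Subgroup.mem_subgroupOf] at h2
  have h3 : z ∈ Wt ⊓ σ.ker := Subgroup.mem_inf.mpr ⟨h2, hzk⟩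
  rw [hWk] at h3
  exact h3

end Cfsg.Agent.F4M
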