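import Mathlib
import Cfsg.Prelude.Def_KGroupFacts
import Cfsg.Agent.F4M.Defs

set_option autoImplicit false

/-! S2114 package A4 (file `Cfsg/Agent/F4M/Transfer.lean`): existence of `Ht`, its normalizer, transfer, reduction to a `p`-group kernel;
blueprint §1 (setup), (d).  Reusable: `Cfsg.Agent.Helper7.Td.td_pow_index_mem_commutator` (Helper7/TdK.lean: a central element of the
commutator subgroup, raised to the index of `P`, lies in `⁅P, P⁆`), Mathlib's Schur–Zassenhaus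
(`Subgroup.exists_left_complement'_of_coprime`).  Helper names: prefix `f4m_tr_`. -/

namespace Cfsg.Agent.F4M

open scoped commutatorElement

section helpers

variable {Γ G : Type*} [Group Γ] [Group G]

/-- an element of a `p`-subgroup whose `n`-th power is trivial, `n` prime to `p`, is trivial -/
theorem f4m_tr_eq_one_of_pow {p : ℕ} {Z : Subgroup Γ} (hp : IsPGroup p Z) {z : Γ} (hz : z ∈ Z)
    {n : ℕ} (hn : n.Coprime p) (h : z ^ n = 1) : z = 1 := by
  obtain ⟨k, hk⟩ := hp ⟨z, hz⟩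
  have hk' : z ^ (p ^ k) = 1 := by
    have := congrArg Subtype.val hk
    simpa using this
  have h1 : orderOf z ∣ n := orderOf_dvd_of_pow_eq_one h
  have h2 : orderOf z ∣ p ^ k := orderOf_dvd_of_pow_eq_one hk'
  have h3 : orderOf z ∣ Nat.gcd n (p ^ k) := Nat.dvd_gcd h1 h2
  have h4 : Nat.gcd n (p ^ k) = 1 := Nat.Coprime.pow_right k hn
  rw [h4, Nat.dvd_one] at h3
  exact orderOf_eq_one_iff.mp h3

/-- a central factor on the left of a commutator can be dropped -/
theorem f4m_tr_comm_mul_central_left {u c y : Γ} (hc : ∀ x, x * c = c * x) : ⁅u * c, y⁆ = ⁅u, y⁆ := by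
  rw [commutatorElement_def, commutatorElement_def, mul_inv_rev]
  calc u * c * y * (c⁻¹ * u⁻¹) * y⁻¹ = u * (c * y) * c⁻¹ * u⁻¹ * y⁻¹ := by group
    _ = u * (y * c) * c⁻¹ * u⁻¹ * y⁻¹ := by rw [hc y]
    _ = u * y * u⁻¹ * y⁻¹ := by group

/-- a central factor on the right of a commutator can be dropped -/
theorem f4m_tr_comm_mul_central_right {x v c : Γ} (hc : ∀ x, x * c = c * x) : ⁅x, v * c⁆ = ⁅x, v⁆ := by
  rw [commutatorElement_def, commutatorElement_def, mul_inv_rev]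
  calc x * (v * c) * x⁻¹ * (c⁻¹ * v⁻¹) = x * v * (c * x⁻¹) * c⁻¹ * v⁻¹ := by group
    _ = x * v * (x⁻¹ * c) * c⁻¹ * v⁻¹ := by rw [hc x⁻¹]
    _ = x * v * x⁻¹ * v⁻¹ := by group

/-- transfer into the abelianization of a subgroup of finite index: a central element of the commutator subgroup, raised to the
index of `P`, lies in `⁅P, P⁆` (same proof as `Cfsg.Agent.Helper7.Td.td_pow_index_mem_commutator`, repeated here to keep the
imports of this file small). -/
theorem f4m_tr_pow_index_mem_commutator (P : Subgroup Γ) [P.FiniteIndex] (z : Γ)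
    (hz : z ∈ Subgroup.center Γ) (hz' : z ∈ commutator Γ) : z ^ P.index ∈ ⁅P, P⁆ := by
  have key : ∀ (k : ℕ) (g₀ : Γ), g₀⁻¹ * z ^ k * g₀ ∈ P → g₀⁻¹ * z ^ k * g₀ = z ^ k := by
    intro k g₀ _
    have h := (Subgroup.mem_center_iff.mp (pow_mem hz k)) g₀
    rw [mul_assoc, ← h, inv_mul_cancel_left]
  have h1 := MonoidHom.transfer_eq_pow (Abelianization.of : ↥P →* Abelianization ↥P) z key
  have h2 : MonoidHom.transfer (Abelianization.of : ↥P →* Abelianization ↥P) z = 1 :=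
    MonoidHom.mem_ker.mp (Abelianization.commutator_subset_ker _ hz')
  rw [h2] at h1
  have h3 : (⟨z ^ P.index, MonoidHom.transfer_eq_pow_aux z key⟩ : ↥P) ∈ commutator ↥P := by
    rw [← Abelianization.ker_of]
    exact MonoidHom.mem_ker.mpr h1.symm
  rw [← Subgroup.map_subtype_commutator]
  exact ⟨_, h3, rfl⟩

end helpers

variable {Γ G : Type*} [Group Γ] [Group G] [Finite Γ] [Finite G] {p : ℕ} [Fact p.Prime]
  {σ : Γ →* G}

/-- the Hall `p'`-subgroup of the preimage of an abelian `p'`-subgroup `H` of `G`. -/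
theorem f4m_exists_Ht (hs : Function.Surjective σ) (hc : σ.ker ≤ Subgroup.center Γ) (hp : IsPGroup p σ.ker)
    (H : Subgroup G) (hH : ∀ a ∈ H, ∀ b ∈ H, a * b = b * a) (hHp : (Nat.card H).Coprime p) :
    ∃ Ht : Subgroup Γ, CopSetting σ p Ht ∧ Ht.map σ = H := by
  classical
  set Hh : Subgroup Γ := H.comap σ with hHh
  have hZle : σ.ker ≤ Hh := fun z hz => by
    rw [hHh, Subgroup.mem_comap, MonoidHom.mem_ker.mp hz]; exact H.one_mem
  set N : Subgroup Hh := σ.ker.subgroupOf Hh with hN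
  have : N.Normal := Subgroup.Normal.subgroupOf inferInstance Hh
  have hNcard : Nat.card N = Nat.card σ.ker :=
    Nat.card_congr (Subgroup.subgroupOfEquivOfLe hZle).toEquiv
  have hNidx : N.index = Nat.card H := by
    have h1 : N.index = σ.ker.relIndex Hh := rfl
    rw [h1, ← MonoidHom.comap_bot, hHh, Subgroup.relIndex_comap,
      Subgroup.map_comap_eq_self_of_surjective hs, Subgroup.relIndex_bot_left]
  have hcop : Nat.Coprime (Nat.card N) N.index := by
    rw [hNcard, hNidx]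
    obtain ⟨k, hk⟩ := IsPGroup.iff_card.mp hp
    rw [hk]
    exact (Nat.Coprime.pow_right k hHp).symm
  obtain ⟨K, hK⟩ := Subgroup.exists_left_complement'_of_coprime hcop
  have hKcard : Nat.card K = Nat.card H := by
    rw [← hK.index_eq_card, hNidx]
  -- `K ⊓ N = ⊥`
  have hdisj : ∀ x : Hh, x ∈ K → (x : Γ) ∈ σ.ker → x = 1 := by
    intro x hxK hxN
    have h1 : x ∈ K ⊓ N := Subgroup.mem_inf.mpr ⟨hxK, Subgroup.mem_subgroupOf.mpr hxN⟩
    rw [hK.disjoint.eq_bot] at h1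
    exact Subgroup.mem_bot.mp h1
  refine ⟨K.map Hh.subtype, ⟨hs, hc, hp, ?_, ?_⟩, ?_⟩
  · -- abelian
    rintro a ⟨a', ha', rfl⟩ b ⟨b', hb', rfl⟩
    have h1 : a' * b' * a'⁻¹ * b'⁻¹ ∈ K :=
      K.mul_mem (K.mul_mem (K.mul_mem ha' hb') (K.inv_mem ha')) (K.inv_mem hb')
    have h2 : ((a' * b' * a'⁻¹ * b'⁻¹ : Hh) : Γ) ∈ σ.ker := by
      rw [MonoidHom.mem_ker]
      have e0 : ((a' * b' * a'⁻¹ * b'⁻¹ : Hh) : Γ) = (a' : Γ) * (b' : Γ) * (a' : Γ)⁻¹ * (b' : Γ)⁻¹ := rfl
      rw [e0, map_mul, map_mul, map_mul, map_inv, map_inv]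
      have e : σ (a' : Γ) * σ (b' : Γ) = σ (b' : Γ) * σ (a' : Γ) := hH (σ a') a'.2 (σ b') b'.2
      calc σ (a' : Γ) * σ (b' : Γ) * (σ (a' : Γ))⁻¹ * (σ (b' : Γ))⁻¹
          = (σ (b' : Γ) * σ (a' : Γ)) * (σ (a' : Γ))⁻¹ * (σ (b' : Γ))⁻¹ := by rw [e]
        _ = 1 := by group
    have h3 := hdisj _ h1 h2
    have h4 : a' * b' = b' * a' := by
      have : a' * b' * a'⁻¹ * b'⁻¹ * (b' * a') = a' * b' := by group
      rw [← this, h3, one_mul]
    have := congrArg (Subtype.val) h4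
    simpa using this
  · -- coprime
    have h1 : Nat.card (K.map Hh.subtype) = Nat.card K :=
      Subgroup.card_map_of_injective (Subgroup.subtype_injective Hh)
    rw [h1, hKcard]
    exact hHp
  · -- image
    apply le_antisymm
    · rintro y ⟨x, ⟨x', _, rfl⟩, rfl⟩
      exact x'.2
    · intro y hy
      obtain ⟨x, rfl⟩ := hs y
      have hx : x ∈ Hh := hy
      obtain ⟨⟨k, n⟩, hkn⟩ := hK.2 ⟨x, hx⟩
      have hn : ((n : Hh) : Γ) ∈ σ.ker := Subgroup.mem_subgroupOf.mp n.2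
      have e1 : ((k : Hh) : Γ) * ((n : Hh) : Γ) = x := by
        have := congrArg Subtype.val hkn
        simpa using this
      refine ⟨((k : Hh) : Γ), ⟨(k : Hh), k.2, rfl⟩, ?_⟩
      rw [← e1, map_mul, MonoidHom.mem_ker.mp hn, mul_one]

/-- an element of `Γ` whose image normalizes `σ(Ht)` normalizes `Ht`. -/
theorem f4m_Ht_conj {Ht : Subgroup Γ} (S : CopSetting σ p Ht) {g : Γ}
    (hg : ∀ x ∈ Ht.map σ, σ g * x * (σ g)⁻¹ ∈ Ht.map σ) : ∀ k ∈ Ht, g * k * g⁻¹ ∈ Ht := by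
  intro k hk
  obtain ⟨k', hk', e⟩ := hg (σ k) ⟨k, hk, rfl⟩
  -- `z := g k g⁻¹ k'⁻¹ ∈ ker σ`
  have hz : g * k * g⁻¹ * k'⁻¹ ∈ σ.ker := by
    rw [MonoidHom.mem_ker, map_mul, map_mul, map_mul, map_inv, map_inv, ← e, mul_inv_cancel]
  have hzc : ∀ x : Γ, x * (g * k * g⁻¹ * k'⁻¹) = (g * k * g⁻¹ * k'⁻¹) * x := fun x =>
    (Subgroup.mem_center_iff.mp (S.central hz)) x
  have hpow : ∀ x ∈ Ht, x ^ Nat.card Ht = 1 := by
    intro x hx
    have h1 := pow_card_eq_one' (G := Ht) (x := ⟨x, hx⟩)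
    have h2 := congrArg Subtype.val h1
    rw [Subgroup.coe_pow, Subgroup.coe_one] at h2
    exact h2
  generalize hn : Nat.card Ht = n at hpow
  have hcopn : n.Coprime p := hn ▸ S.Ht_cop
  have hkn : k ^ n = 1 := hpow k hk
  have hk'n : k' ^ n = 1 := hpow k' hk'
  have e1 : g * k * g⁻¹ = (g * k * g⁻¹ * k'⁻¹) * k' := by group
  have e2 : (g * k * g⁻¹) ^ n = 1 := by
    rw [conj_pow, hkn, mul_one, mul_inv_cancel]
  have e3 : ((g * k * g⁻¹ * k'⁻¹) * k') ^ n = (g * k * g⁻¹ * k'⁻¹) ^ n * k' ^ n :=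
    (Commute.mul_pow (hzc k').symm n)
  have e4 : (g * k * g⁻¹ * k'⁻¹) ^ n = 1 := by
    rw [← e1, e2, hk'n, mul_one] at e3
    exact e3.symm
  have e5 := f4m_tr_eq_one_of_pow S.ker_p hz hcopn e4
  rw [e1, e5, one_mul]
  exact hk'

/-- transfer: a stem extension with `p`-group kernel that splits over a subgroup of index prime to `p` is trivial. -/
theorem f4m_split_transfer (hσ : Cfsg.IsStemExtension σ) (hp : IsPGroup p σ.ker) (Ut : Subgroup Γ)
    (hU : Ut ⊓ σ.ker = ⊥) (hidx : ¬ p ∣ (Ut.map σ).index) : σ.ker = ⊥ := by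
  obtain ⟨hs, hc, hk⟩ := hσ
  set P : Subgroup Γ := (Ut.map σ).comap σ with hP
  have hPidx : P.index = (Ut.map σ).index := Subgroup.index_comap_of_surjective _ hs
  have hcomm : ⁅P, P⁆ ≤ Ut := by
    rw [Subgroup.commutator_le]
    intro a ha b hb
    rw [hP, Subgroup.mem_comap] at ha hb
    obtain ⟨u, hu, hua⟩ := ha
    obtain ⟨v, hv, hvb⟩ := hb
    have hca : u⁻¹ * a ∈ σ.ker := by rw [MonoidHom.mem_ker, map_mul, map_inv, hua, inv_mul_cancel]
    have hcb : v⁻¹ * b ∈ σ.ker := by rw [MonoidHom.mem_ker, map_mul, map_inv, hvb, inv_mul_cancel]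
    have ka : ∀ x, x * (u⁻¹ * a) = (u⁻¹ * a) * x := fun x => (Subgroup.mem_center_iff.mp (hc hca)) x
    have kb : ∀ x, x * (v⁻¹ * b) = (v⁻¹ * b) * x := fun x => (Subgroup.mem_center_iff.mp (hc hcb)) x
    have e : ⁅a, b⁆ = ⁅u, v⁆ := by
      have ea : a = u * (u⁻¹ * a) := by group
      have eb : b = v * (v⁻¹ * b) := by group
      rw [ea, eb, f4m_tr_comm_mul_central_left ka, f4m_tr_comm_mul_central_right kb]
    rw [e]
    exact (Subgroup.commutator_le_self Ut) (Subgroup.commutator_mem_commutator hu hv)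
  have : P.FiniteIndex := ⟨by
    rw [hPidx]; exact Subgroup.FiniteIndex.index_ne_zero⟩
  rw [Subgroup.eq_bot_iff_forall]
  intro z hz
  have h3 := f4m_tr_pow_index_mem_commutator P z (hc hz) (hk hz)
  have h5 : z ^ P.index ∈ Ut ⊓ σ.ker := ⟨hcomm h3, pow_mem hz _⟩
  rw [hU] at h5
  have h6 : z ^ P.index = 1 := Subgroup.mem_bot.mp h5
  have hcop : (P.index).Coprime p := by
    rw [hPidx, Nat.coprime_comm]
    exact (Nat.Prime.coprime_iff_not_dvd (Fact.out)).mpr hidx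
  exact f4m_tr_eq_one_of_pow hp hz hcop h6

end Cfsg.Agent.F4M

namespace Cfsg.Agent.F4M

universe u

/-- the elements of the central subgroup `σ.ker` killed by `m`, as a subgroup -/
def f4m_tr_torsion {Γ : Type*} [Group Γ] {G : Type*} [Group G] (σ : Γ →* G)
    (hc : σ.ker ≤ Subgroup.center Γ) (m : ℕ) : Subgroup Γ where
  carrier := {z | z ∈ σ.ker ∧ z ^ m = 1}
  one_mem' := ⟨σ.ker.one_mem, one_pow m⟩
  mul_mem' := by
    rintro a b ⟨ha, ha'⟩ ⟨hb, hb'⟩
    refine ⟨σ.ker.mul_mem ha hb, ?_⟩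
    have hcomm : Commute a b := (Subgroup.mem_center_iff.mp (hc hb)) a
    rw [hcomm.mul_pow, ha', hb', one_mul]
  inv_mem' := by
    rintro a ⟨ha, ha'⟩
    exact ⟨σ.ker.inv_mem ha, by rw [inv_pow, ha', inv_one]⟩

theorem f4m_tr_mem_torsion {Γ : Type*} [Group Γ] {G : Type*} [Group G] {σ : Γ →* G}
    {hc : σ.ker ≤ Subgroup.center Γ} {m : ℕ} {z : Γ} :
    z ∈ f4m_tr_torsion σ hc m ↔ z ∈ σ.ker ∧ z ^ m = 1 := Iff.rfl

instance f4m_tr_torsion_normal {Γ : Type*} [Group Γ] {G : Type*} [Group G] (σ : Γ →* G)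
    (hc : σ.ker ≤ Subgroup.center Γ) (m : ℕ) : (f4m_tr_torsion σ hc m).Normal where
  conj_mem := by
    intro z hz g
    have h1 : g * z * g⁻¹ = z := by
      have := (Subgroup.mem_center_iff.mp (hc hz.1)) g
      rw [this, mul_inv_cancel_right]
    rw [h1]; exact hz

/-- reduction: if every finite stem extension of `G` with `p`-group kernel is trivial, the kernel of every finite stem extension of `G`
has order prime to `p` (divide out the `p'`-part of the kernel). -/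
theorem f4m_coprime_of_pgroup_case {G : Type u} [Group G] [Finite G] (p : ℕ) [Fact p.Prime]
    (h : ∀ (Γ : Type u) [Group Γ] [Finite Γ] (σ : Γ →* G), Cfsg.IsStemExtension σ → IsPGroup p σ.ker → σ.ker = ⊥)
    (Γ : Type u) [Group Γ] [Finite Γ] (σ : Γ →* G) (hσ : Cfsg.IsStemExtension σ) :
    (Nat.card σ.ker).Coprime p := by
  classical
  obtain ⟨hs, hc, hk⟩ := hσ
  have hpp : p.Prime := Fact.out
  set c := Nat.card σ.ker with hcdef
  have hcpos : c ≠ 0 := Nat.card_pos.ne'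
  set m := c / p ^ (c.factorization p) with hm
  set k := c.factorization p with hkdef
  have hcm : p ^ k * m = c := Nat.ordProj_mul_ordCompl_eq_self c p
  have hmcop : p.Coprime m := Nat.coprime_ordCompl hpp hcpos
  set Z' := f4m_tr_torsion σ hc m with hZ'
  have hZ'le : Z' ≤ σ.ker := fun z hz => hz.1
  -- the quotient extension
  let σ' : Γ ⧸ Z' →* G := QuotientGroup.lift Z' σ (fun z hz => MonoidHom.mem_ker.mp (hZ'le hz))
  have hσ'mk : ∀ x : Γ, σ' (QuotientGroup.mk x) = σ x := fun x => rfl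
  have hker : ∀ y : Γ ⧸ Z', y ∈ σ'.ker ↔ ∃ z ∈ σ.ker, (QuotientGroup.mk z : Γ ⧸ Z') = y := by
    intro y
    constructor
    · intro hy
      obtain ⟨x, rfl⟩ := QuotientGroup.mk_surjective y
      exact ⟨x, by rw [MonoidHom.mem_ker] at hy ⊢; rw [← hσ'mk]; exact hy, rfl⟩
    · rintro ⟨z, hz, rfl⟩
      rw [MonoidHom.mem_ker, hσ'mk]; exact MonoidHom.mem_ker.mp hz
  have hstem : Cfsg.IsStemExtension σ' := by
    refine ⟨?_, ?_, ?_⟩
    · intro y
      obtain ⟨x, rfl⟩ := hs y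
      exact ⟨QuotientGroup.mk x, rfl⟩
    · intro y hy
      obtain ⟨z, hz, rfl⟩ := (hker y).mp hy
      rw [Subgroup.mem_center_iff]
      intro w
      obtain ⟨x, rfl⟩ := QuotientGroup.mk_surjective w
      have := (Subgroup.mem_center_iff.mp (hc hz)) x
      rw [← QuotientGroup.mk_mul, ← QuotientGroup.mk_mul, this]
    · intro y hy
      obtain ⟨z, hz, rfl⟩ := (hker y).mp hy
      have h1 : z ∈ commutator Γ := hk hz
      have h2 : (commutator Γ).map (QuotientGroup.mk' Z') ≤ commutator (Γ ⧸ Z') := by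
        rw [commutator_def, commutator_def, Subgroup.map_commutator]
        exact Subgroup.commutator_mono le_top le_top
      exact h2 ⟨z, h1, rfl⟩
  have hpker : IsPGroup p σ'.ker := by
    rintro ⟨y, hy⟩
    obtain ⟨z, hz, rfl⟩ := (hker y).mp hy
    refine ⟨k, ?_⟩
    apply Subtype.ext
    rw [Subgroup.coe_pow, Subgroup.coe_one]
    show (QuotientGroup.mk z : Γ ⧸ Z') ^ (p ^ k) = 1
    rw [← QuotientGroup.mk_pow, QuotientGroup.eq_one_iff]
    refine ⟨σ.ker.pow_mem hz _, ?_⟩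
    rw [← pow_mul, hcm]
    have h1 := pow_card_eq_one' (G := σ.ker) (x := ⟨z, hz⟩)
    have h2 := congrArg Subtype.val h1
    rw [Subgroup.coe_pow, Subgroup.coe_one] at h2
    exact h2
  have hbot := h (Γ ⧸ Z') σ' hstem hpker
  -- so every element of the kernel is killed by `m`
  have hall : ∀ z ∈ σ.ker, z ^ m = 1 := by
    intro z hz
    have h1 : (QuotientGroup.mk z : Γ ⧸ Z') ∈ σ'.ker := (hker _).mpr ⟨z, hz, rfl⟩
    rw [hbot, Subgroup.mem_bot, QuotientGroup.eq_one_iff] at h1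
    exact h1.2
  rw [Nat.coprime_comm, hpp.coprime_iff_not_dvd]
  intro hd
  obtain ⟨z, hz⟩ := exists_prime_orderOf_dvd_card' (G := σ.ker) p hd
  have h1 : (z : Γ) ^ m = 1 := hall z z.2
  have h2 : orderOf (z : Γ) ∣ m := orderOf_dvd_of_pow_eq_one h1
  rw [Subgroup.orderOf_coe, hz] at h2
  exact (hpp.coprime_iff_not_dvd.mp hmcop) h2

end Cfsg.Agent.F4M
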