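import Mathlib
import Cfsg.Agent.F4M.FieldPair
import Cfsg.Agent.F4M.Cop
import Cfsg.Agent.F4M.Pair
import Cfsg.Agent.F4M.SzStep
import Cfsg.Agent.F4M.Transfer
import Cfsg.Prelude.Def_KGroupFacts

set_option autoImplicit false

/-! S2114 package A6 (file `Cfsg/Agent/F4M/PartI.lean`): Part I, abstract form (blueprint §A6).  For a finite group `G` with an "octagon" of
root groups `U 0, …, U 7` (a Sylow `p`-subgroup `U = U 0 ⋯ U 7` with unique factorisation), a commutative `p'`-torus `H`, the condition (NC),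
a base root group `U a` of type `SL₂`, a base root group `U (b+1)` of Suzuki type whose centre `W` lies in `⁅U (b+3), U b⁆`, and every `U i`
an `N(H)`-conjugate of one of the two: every finite stem extension of `G` has kernel of order prime to `p`.
Assembly of `F4M/Cop`, `Pair`, `SzStep`, `Transfer`, `FieldPair` (all importable).  Prefix `f4m_partI_`. -/

namespace Cfsg.Agent.F4M

universe u

/-- the downstairs data of Part I. -/
structure OctRoots (K : Type*) [Field K] (G : Type*) [Group G] (p : ℕ) where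
  /-- the torus -/
  H : Subgroup G
  /-- the root groups `U 0, …, U 7` -/
  U : ℕ → Subgroup G
  /-- the centre of the base root group of Suzuki type -/
  W : Subgroup G
  /-- the index of the base root group of type `SL₂` -/
  a : ℕ
  /-- `U (b+1)` is the base root group of Suzuki type -/
  b : ℕ
  /-- the parametrization of `U a` -/
  x : K → G
  /-- the base root group of Suzuki type -/
  sz : SzRoot K H (U (b + 1)) W
  ha : a < 8
  hb : b + 3 < 8
  H_comm : ∀ h ∈ H, ∀ k ∈ H, h * k = k * h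
  H_cop : (Nat.card H).Coprime p
  norm : ∀ i < 8, ∀ h ∈ H, ∀ y ∈ U i, h * y * h⁻¹ ∈ U i
  nc : ∀ i < 8, ∀ j < 8, i ≠ j → ∃ h ∈ H, (∀ y ∈ U i, h * y = y * h → y = 1) ∧ ∀ y ∈ U j, h * y = y * h
  comm : ∀ i j, i < j → j < 8 → ∀ x ∈ U i, ∀ y ∈ U j, x * y * x⁻¹ * y⁻¹ ∈ ⨆ k ∈ Finset.Ioo i j, U k
  card : Nat.card ↥(⨆ k ∈ Finset.range 8, U k) = ∏ k ∈ Finset.range 8, Nat.card (U k)
  idx : ¬ p ∣ (⨆ k ∈ Finset.range 8, U k).index
  x_add : ∀ t u, x (t + u) = x t * x u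
  x_surj : ∀ g ∈ U a, ∃ t, g = x t
  x_scal : ∀ c : K, c ≠ 0 → ∃ h ∈ H, ∀ t, h * x t * h⁻¹ = x (c * t)
  comm_b : ∀ x ∈ U b, ∀ y ∈ U (b + 2), x * y = y * x
  W_le : W ≤ ⁅U (b + 3), U b⁆
  conj : ∀ i < 8, ∃ g : G, (∀ h ∈ H, g * h * g⁻¹ ∈ H) ∧
    (U i = (U a).map (MulAut.conj g).toMonoidHom ∨ U i = (U (b + 1)).map (MulAut.conj g).toMonoidHom)

/-- if conjugation by `g` maps the finite subgroup `H` into itself, so does conjugation by `g⁻¹`. -/
theorem f4m_partI_conj_inv {G : Type*} [Group G] [Finite G] {H : Subgroup G} {g : G}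
    (hg : ∀ h ∈ H, g * h * g⁻¹ ∈ H) : ∀ h ∈ H, g⁻¹ * h * g ∈ H := by
  let φ : H → H := fun h => ⟨g * h.1 * g⁻¹, hg h.1 h.2⟩
  have hinj : Function.Injective φ := by
    intro a b hab
    have h1 : g * a.1 * g⁻¹ = g * b.1 * g⁻¹ := congrArg Subtype.val hab
    apply Subtype.ext
    have h2 : a.1 = g⁻¹ * (g * a.1 * g⁻¹) * g := by group
    rw [h2, h1]; group
  have hsurj := Finite.injective_iff_surjective.mp hinj
  intro h hh
  obtain ⟨y, hy⟩ := hsurj ⟨h, hh⟩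
  have h1 : g * y.1 * g⁻¹ = h := congrArg Subtype.val hy
  have h2 : g⁻¹ * h * g = y.1 := by rw [← h1]; group
  rw [h2]; exact y.2

/-- transport of `lift ⊓ ker = ⊥` along conjugation by an element normalizing the torus. -/
theorem f4m_partI_conj_ker {Γ G : Type*} [Group Γ] [Group G] [Finite Γ] [Finite G] {p : ℕ} [Fact p.Prime]
    {σ : Γ →* G} {Ht : Subgroup Γ} (S : CopSetting σ p Ht) {Y₀ Y : Subgroup G} {g : G}
    (hg : ∀ h ∈ Ht.map σ, g * h * g⁻¹ ∈ Ht.map σ) (hY : Y = Y₀.map (MulAut.conj g).toMonoidHom)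
    (h0 : f4m_lift σ Ht Y₀ ⊓ σ.ker = ⊥) : f4m_lift σ Ht Y ⊓ σ.ker = ⊥ := by
  obtain ⟨gt, rfl⟩ := S.surj g
  have hginv := f4m_partI_conj_inv hg
  have hn : ∀ k ∈ Ht, gt⁻¹ * k * gt⁻¹⁻¹ ∈ Ht := by
    apply f4m_Ht_conj S
    intro x hx
    rw [map_inv, inv_inv]
    exact hginv x hx
  rw [eq_bot_iff]
  intro z hz
  obtain ⟨hzl, hzk⟩ := Subgroup.mem_inf.mp hz
  have h1 := f4m_lift_conj hn Y z hzl
  have hzc : gt⁻¹ * z * gt⁻¹⁻¹ = z := by
    have := Subgroup.mem_center_iff.mp (S.central hzk) gt⁻¹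
    rw [this]; group
  rw [hzc] at h1
  have hle : Y.map (MulAut.conj (σ gt⁻¹)).toMonoidHom ≤ Y₀ := by
    rw [hY]
    rintro _ ⟨_, ⟨y, hy, rfl⟩, rfl⟩
    simp only [MulEquiv.coe_toMonoidHom, map_inv, MulAut.conj_inv_apply, MulAut.conj_apply]
    have : (σ gt)⁻¹ * (σ gt * y * (σ gt)⁻¹) * σ gt = y := by group
    rw [this]; exact hy
  have h2 : z ∈ f4m_lift σ Ht Y₀ := f4m_lift_mono hle h1
  rw [← h0]
  exact Subgroup.mem_inf.mpr ⟨h2, hzk⟩

variable {K : Type*} [Field K] {G : Type u} [Group G] {p : ℕ}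

/-- Part I for a stem extension whose kernel is a `p`-group. -/
theorem f4m_partI_pgroup [Finite G] [Fact p.Prime] (R : OctRoots K G p) (hK : ∃ s : Finset K, 4 < s.card)
    {Γ : Type*} [Group Γ] [Finite Γ] (σ : Γ →* G) (hσ : Cfsg.IsStemExtension σ) (hp : IsPGroup p σ.ker) : σ.ker = ⊥ := by
  obtain ⟨hs, hc, hk⟩ := hσ
  obtain ⟨Ht, S, hmap⟩ := f4m_exists_Ht hs hc hp R.H R.H_comm R.H_cop
  have hmemH : ∀ h ∈ Ht, σ h ∈ R.H := fun h hh => hmap ▸ (⟨h, hh, rfl⟩ : σ h ∈ Ht.map σ)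
  -- `NormOn`, (NC)
  have hN : ∀ i < 8, NormOn σ Ht (R.U i) := fun i hi h hh y hy => R.norm i hi (σ h) (hmemH h hh) y hy
  have hNC : ∀ i < 8, ∀ j < 8, i ≠ j → ∃ h ∈ Ht, FreeOn σ h (R.U i) ∧ CentOn σ h (R.U j) := by
    intro i hi j hj hij
    obtain ⟨h₀, hh₀, hfree, hcent⟩ := R.nc i hi j hj hij
    rw [← hmap] at hh₀
    obtain ⟨h, hh, rfl⟩ := hh₀
    exact ⟨h, hh, hfree, hcent⟩
  have hother : ∀ k < 8, ∃ j < 8, k ≠ j := by
    intro k _
    by_cases hk0 : k = 0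
    · exact ⟨1, by norm_num, by omega⟩
    · exact ⟨0, by norm_num, hk0⟩
  have hfreeOf : ∀ i < 8, ∃ h ∈ Ht, FreeOn σ h (R.U i) := by
    intro i hi
    obtain ⟨j, hj, hij⟩ := hother i hi
    obtain ⟨h, hh, hfree, -⟩ := hNC i hi j hj hij
    exact ⟨h, hh, hfree⟩
  have ha := R.ha
  have hb := R.hb
  -- (A) the base root group of type `SL₂`
  have hA : f4m_lift σ Ht (R.U R.a) ⊓ σ.ker = ⊥ := by
    obtain ⟨h, hh, hfree⟩ := hfreeOf R.a ha
    refine f4m_lift_inf_ker_of_comm S (hN R.a ha) hh hfree ?_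
    exact f4m_field_comap_comm hK hs hc R.x R.x_add
      (fun c hc0 => by obtain ⟨h₀, -, e⟩ := R.x_scal c hc0; exact ⟨h₀, e⟩) (R.U R.a) R.x_surj
  -- (B) the base root group of Suzuki type
  have hB : f4m_lift σ Ht (R.U (R.b + 1)) ⊓ σ.ker = ⊥ := by
    have hb0 : R.b < 8 := by omega
    have hb1 : R.b + 1 < 8 := by omega
    have hb2 : R.b + 2 < 8 := by omega
    have sz' : SzRoot K (Ht.map σ) (R.U (R.b + 1)) R.W := by rw [hmap]; exact R.sz
    have hWY : R.W ≤ R.U (R.b + 1) := R.sz.W_le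
    obtain ⟨h, hh, hfree⟩ := hfreeOf (R.b + 1) hb1
    have hNW : NormOn σ Ht R.W := fun k hk y hy => R.sz.normW (σ k) (hmemH k hk) y hy
    have hfreeW : FreeOn σ h R.W := fun y hy => hfree y (hWY hy)
    -- `W̃ ∩ ker = 1`
    have hWk : f4m_lift σ Ht R.W ⊓ σ.ker = ⊥ := by
      refine f4m_lift_inf_ker_of_comm S hNW hh hfreeW ?_
      exact f4m_field_comap_comm hK hs hc (fun u => R.sz.e 0 u)
        (fun t u => (R.sz.mulW 0 t u).symm)
        (fun c hc0 => by obtain ⟨h₀, -, e⟩ := R.sz.scalW c hc0; exact ⟨h₀, e⟩) R.W R.sz.surjW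
    -- commuting pairs
    have hcomm_adj : ∀ i, i + 1 < 8 → ∀ x ∈ R.U i, ∀ y ∈ R.U (i + 1), x * y = y * x := by
      intro i hi x hx y hy
      have h1 := R.comm i (i + 1) (by omega) hi x hx y hy
      have h2 : (⨆ k ∈ Finset.Ioo i (i + 1), R.U k) = ⊥ := by
        rw [eq_bot_iff]
        refine iSup₂_le ?_
        intro k hk
        rw [Finset.mem_Ioo] at hk
        omega
      rw [h2, Subgroup.mem_bot] at h1
      exact f4m_field_comm_of_cm h1
    have hlift_comm : ∀ i j, i < 8 → j < 8 → i ≠ j → (∀ x ∈ R.U i, ∀ y ∈ R.U j, x * y = y * x) →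
        ∀ x ∈ f4m_lift σ Ht (R.U i), ∀ y ∈ f4m_lift σ Ht (R.U j), x * y = y * x := by
      intro i j hi hj hij hcm
      obtain ⟨k, hk, hfr, hce⟩ := hNC i hi j hj hij
      exact f4m_comm_lift S (hN i hi) (hN j hj) hk hfr hce hcm
    have h12 := hlift_comm R.b (R.b + 1) hb0 hb1 (by omega) (hcomm_adj R.b hb1)
    have h23 := hlift_comm (R.b + 1) (R.b + 2) hb1 hb2 (by omega) (hcomm_adj (R.b + 1) hb2)
    have h13 := hlift_comm R.b (R.b + 2) hb0 hb2 (by omega) R.comm_b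
    have h3 : (R.U (R.b + 2)).comap σ = σ.ker ⊔ f4m_lift σ Ht (R.U (R.b + 2)) := by
      obtain ⟨k, hk, hfr⟩ := hfreeOf (R.b + 2) hb2
      exact f4m_comap_eq S (hN _ hb2) hk hfr
    have h24 : ∀ e ∈ R.U (R.b + 1), ∀ c ∈ R.U (R.b + 3), e * c * e⁻¹ * c⁻¹ ∈ R.U (R.b + 2) := by
      intro e he c hc'
      have h1 := R.comm (R.b + 1) (R.b + 3) (by omega) hb e he c hc'
      have h2 : (⨆ k ∈ Finset.Ioo (R.b + 1) (R.b + 3), R.U k) ≤ R.U (R.b + 2) := by
        refine iSup₂_le ?_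
        intro k hk
        rw [Finset.mem_Ioo] at hk
        have : k = R.b + 2 := by omega
        rw [this]
      exact h2 h1
    have hmapU : ∀ i < 8, (f4m_lift σ Ht (R.U i)).map σ = R.U i := by
      intro i hi
      obtain ⟨k, hk, hfr⟩ := hfreeOf i hi
      exact f4m_map_lift S (hN i hi) hk hfr
    have hcen := f4m_sz_center S (Y₁ := R.U R.b) (Y₂ := R.U (R.b + 1)) (Y₃ := R.U (R.b + 2))
      (Y₄ := R.U (R.b + 3)) (W := R.W) h12 h23 h13 h3 h24 (f4m_lift_le_comap (hN _ hb1))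
      (f4m_lift_le_comap (hN _ hb)) (hmapU _ hb0) (hmapU _ hb) R.W_le
    have hEE := f4m_field_sz_comm_le hK S sz' (hN _ hb1) hh hfree hWk hcen
    refine f4m_sz_inf S (hN _ hb1) hh hfree (f4m_lift σ Ht R.W) (f4m_lift_mono hWY) hWk ?_ hEE
      (f4m_lift_conj_Ht hNW h hh)
    intro e he w hw
    exact hcen e he w (f4m_lift_le_comap hNW hw)
  -- (C) all root groups
  have hker : ∀ i < 8, f4m_lift σ Ht (R.U i) ⊓ σ.ker = ⊥ := by
    intro i hi
    obtain ⟨g, hg, hU | hU⟩ := R.conj i hi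
    · exact f4m_partI_conj_ker S (by rw [hmap]; exact hg) hU hA
    · exact f4m_partI_conj_ker S (by rw [hmap]; exact hg) hU hB
  -- (D) the product and transfer
  obtain ⟨h1, h2⟩ := f4m_iSup_lift_inf_ker S R.U 8 hN hNC R.comm hker R.card (by norm_num)
  refine f4m_split_transfer ⟨hs, hc, hk⟩ hp _ h1 ?_
  rw [h2]
  exact R.idx

/-- **Part I**: every finite stem extension of `G` has kernel of order prime to `p`. -/
theorem f4m_partI [Finite G] [Fact p.Prime] (R : OctRoots K G p) (hK : ∃ s : Finset K, 4 < s.card)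
    (Γ : Type u) [Group Γ] [Finite Γ] (σ : Γ →* G) (hσ : Cfsg.IsStemExtension σ) : (Nat.card σ.ker).Coprime p :=
  f4m_coprime_of_pgroup_case p (fun _ _ _ σ hσ hp => f4m_partI_pgroup R hK σ hσ hp) Γ σ hσ

end Cfsg.Agent.F4M
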