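import Mathlib
import Cfsg.Agent.Helper7.ChevF4m
import Cfsg.Agent.Helper7.F4CentA

set_option autoImplicit false
set_option linter.unusedSectionVars false
set_option linter.unusedVariables false

/-!
# S2114, package C1a: the eight positive root subgroups `U_1, …, U_8` of `²F₄(q)` (`f4mUk hm k = U_{k+1}`)

`U_{k+1} = n⁻¹ X n`, where `X` is the group of the fixed points of the class `{p₁, p₄}` (`k` even) or
`{a, b, a + b, 2a + b}` (`k` odd) and `n` is the element of `N¹` of the alternating word of the classes `k + 1, …, 7`.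
The group `U¹ = U ∩ G¹` is the product `U_1 U_2 ⋯ U_8`, with uniqueness.
-/

namespace Cfsg.Agent.F4M

open Cfsg Cfsg.Lie Matrix Cfsg.Agent.Helper7.Chev

variable {K : Type*} [Field K] [CharP K 2] {m : ℕ} (hm : ∀ t : K, t ^ 2 ^ (2 * m + 1) = t)

/-- the class at the position `k` of the alternating list that starts with `{p₁, p₄}` (`b = false`) or with the class of
type `B₂` (`b = true`). -/
noncomputable def f4mCls (b : Bool) (k : ℕ) :
    FCls good3_F4.toGood2 K (fixSub (f4Tau hm)) (twistedF4 K (2 ^ m)) :=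
  if (k % 2 = 0) = !b then f4Cls1 hm else f4Cls2 hm

theorem f4mCls_word (b : Bool) (k : ℕ) :
    (f4mCls hm b k).word = if (k % 2 = 0) = !b then [0, 3] else [2, 1, 2, 1] := by
  unfold f4mCls
  split_ifs <;> rfl

theorem f4m_altWord_succ (b : Bool) (k : ℕ) :
    f4AltWord b (k + 1) = f4AltWord b k ++ (f4mCls hm b k).word := by
  rw [f4AltWord_succ, f4mCls_word]

theorem f4m_altWord_lt (b : Bool) (k : ℕ) : ∀ i ∈ f4AltWord b k, i < chevF4.rank := by
  induction k with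
  | zero => intro i hi; simp [f4AltWord] at hi
  | succ k ih =>
    intro i hi
    rw [f4AltWord_succ, List.mem_append] at hi
    rcases hi with hi | hi
    · exact ih i hi
    · split_ifs at hi
      · simp only [List.mem_cons, List.not_mem_nil, or_false] at hi
        rcases hi with rfl | rfl <;> decide
      · simp only [List.mem_cons, List.not_mem_nil, or_false] at hi
        rcases hi with rfl | rfl | rfl | rfl <;> decide

/-- the alternating word of length `k < 8` maps the next class to positive roots. -/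
theorem f4m_cls_pos (b : Bool) (k : ℕ) (hk : k < 8) :
    ∀ r, (f4mCls hm b k).P r → chevF4.nroots / 2 ≤ (tabOf chevF4).reflWord (f4AltWord b k) r := by
  have h := (f4AltList_pos hm b (k + 1) (by omega)).1
  rw [f4AltList_word] at h
  exact h

/-- the fixed points in `U_w⁻`, `w` the alternating word of length `k`. -/
noncomputable def f4mM (b : Bool) (k : ℕ) : Subgroup (GL chevF4.Idx K) :=
  fM good3_F4.toGood2 (fixSub (f4Tau hm)) (f4AltWord b k)

theorem f4mM_le_minus (b : Bool) (k : ℕ) (hk : k ≤ 8) :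
    f4mM hm b k ≤ Subgroup.closure (minusGen chevF4 K (f4AltWord b k)) := by
  have := (fM_main good3_F4.toGood2 T0_F4 T8_F4 (f4AltList hm b k) (f4AltList_pos hm b k hk)).1
  rwa [f4AltList_word] at this

theorem f4mM_zero (b : Bool) : f4mM hm b 0 = ⊥ := by
  unfold f4mM
  have : f4AltWord b 0 = [] := rfl
  rw [this, fM_nil good3_F4.toGood2 T0_F4]

/-- the element of `N¹` of the class at the position `k`. -/
noncomputable def f4mNc (K : Type*) [Field K] (b : Bool) (k : ℕ) : GL chevF4.Idx K :=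
  nWordGL good3_F4.toGood2 (if (k % 2 = 0) = !b then [0, 3] else [2, 1, 2, 1])

theorem f4mNc_eq (b : Bool) (k : ℕ) :
    f4mNc K b k = nWordGL good3_F4.toGood2 (f4mCls hm b k).word := by
  unfold f4mNc
  rw [f4mCls_word]

/-- peeling off the last class. -/
theorem f4m_peel (b : Bool) (k : ℕ) (hk : k < 8) {g : GL chevF4.Idx K} :
    g ∈ f4mM hm b (k + 1) ↔ ∃ v ∈ f4mM hm b k, ∃ x ∈ (f4mCls hm b k).X,
      g = (f4mNc K b k)⁻¹ * v * f4mNc K b k * x := by
  unfold f4mM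
  rw [f4m_altWord_succ hm, f4mNc_eq hm]
  constructor
  · intro hg
    exact (f4mCls hm b k).fM_decomp good3_F4.toGood2 T0_F4 (f4m_altWord_lt b k) (f4m_cls_pos hm b k hk) hg
  · rintro ⟨v, hv, x, hx, rfl⟩
    exact mul_mem ((f4mCls hm b k).fM_compose good3_F4.toGood2 T0_F4 (f4m_altWord_lt b k)
      (f4m_cls_pos hm b k hk) (f4mM_le_minus hm b k (by omega)) hv).2
      ((f4mCls hm b k).X_le_fM good3_F4.toGood2 T0_F4 (f4m_altWord_lt b k) (f4m_cls_pos hm b k hk) hx)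

/-- uniqueness in the peeling. -/
theorem f4m_peel_unique (b : Bool) (k : ℕ) (hk : k < 8) {v v' x x' : GL chevF4.Idx K}
    (hv : v ∈ f4mM hm b k) (hv' : v' ∈ f4mM hm b k) (hx : x ∈ (f4mCls hm b k).X)
    (hx' : x' ∈ (f4mCls hm b k).X)
    (e : (f4mNc K b k)⁻¹ * v * f4mNc K b k * x = (f4mNc K b k)⁻¹ * v' * f4mNc K b k * x') :
    v = v' ∧ x = x' := by
  rw [f4mNc_eq hm] at e
  set n : GL chevF4.Idx K := nWordGL good3_F4.toGood2 (f4mCls hm b k).word with hn
  have ha := ((f4mCls hm b k).fM_compose good3_F4.toGood2 T0_F4 (f4m_altWord_lt b k)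
      (f4m_cls_pos hm b k hk) (f4mM_le_minus hm b k (by omega)) hv).1
  have ha' := ((f4mCls hm b k).fM_compose good3_F4.toGood2 T0_F4 (f4m_altWord_lt b k)
      (f4m_cls_pos hm b k hk) (f4mM_le_minus hm b k (by omega)) hv').1
  have e2 : (n⁻¹ * v' * n)⁻¹ * (n⁻¹ * v * n) = x' * x⁻¹ := by
    calc (n⁻¹ * v' * n)⁻¹ * (n⁻¹ * v * n)
        = (n⁻¹ * v' * n)⁻¹ * (n⁻¹ * v * n * x) * x⁻¹ := by group
      _ = (n⁻¹ * v' * n)⁻¹ * (n⁻¹ * v' * n * x') * x⁻¹ := by rw [e]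
      _ = _ := by group
  have h1 : (n⁻¹ * v' * n)⁻¹ * (n⁻¹ * v * n) = 1 := by
    have hmem : (n⁻¹ * v' * n)⁻¹ * (n⁻¹ * v * n) ∈
        Subgroup.closure (upGenS chevF4 K (f4mCls hm b k).P) ⊓
          Subgroup.closure (rootGen chevF4 K (f4mCls hm b k).P) := by
      refine Subgroup.mem_inf.mpr ⟨mul_mem (inv_mem ha') ha, ?_⟩
      rw [e2]
      exact mul_mem ((f4mCls hm b k).X_le hx') (inv_mem ((f4mCls hm b k).X_le hx))
    rw [(f4mCls hm b k).inter, Subgroup.mem_bot] at hmem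
    exact hmem
  have hvv : v = v' := by
    have := inv_mul_eq_one.mp h1
    have e3 : v' = n * (n⁻¹ * v' * n) * n⁻¹ := by group
    have e4 : v = n * (n⁻¹ * v * n) * n⁻¹ := by group
    rw [e3, e4, this]
  subst hvv
  exact ⟨rfl, mul_left_cancel e⟩

/-! ### the elements of `N¹` of the tails -/

/-- the word of the classes at the positions `j, …, 7`. -/
def f4mTailWord (b : Bool) (j : ℕ) : List ℕ :=
  ((List.range' j (8 - j)).map fun k => if (k % 2 = 0) = !b then [0, 3] else [2, 1, 2, 1]).flatten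

/-- the element of `N¹` of the classes at the positions `j, …, 7`. -/
noncomputable def f4mNt (K : Type*) [Field K] (b : Bool) (j : ℕ) : GL chevF4.Idx K :=
  nWordGL good3_F4.toGood2 (f4mTailWord b j)

theorem f4mNt_succ (b : Bool) (j : ℕ) (hj : j < 8) : f4mNt K b j = f4mNc K b j * f4mNt K b (j + 1) := by
  unfold f4mNt f4mNc f4mTailWord
  have : 8 - j = (8 - (j + 1)) + 1 := by omega
  rw [this, List.range'_succ, List.map_cons, List.flatten_cons, nWordGL_append]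

theorem f4mNt_eight (b : Bool) : f4mNt K b 8 = 1 := rfl

theorem f4mNc_mem (b : Bool) (k : ℕ) : f4mNc K b k ∈ twistedF4 K (2 ^ m) := by
  unfold f4mNc
  split_ifs
  · exact f4N1_mem_twisted
  · exact f4N2_mem_twisted

theorem f4mNt_mem (b : Bool) (j : ℕ) : f4mNt K b j ∈ twistedF4 K (2 ^ m) := by
  by_cases hj : j ≤ 8
  · obtain ⟨d, rfl⟩ : ∃ d, j = 8 - d := ⟨8 - j, by omega⟩
    induction d with
    | zero => rw [f4mNt_eight]; exact one_mem _
    | succ d ih =>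
      by_cases hd : d < 8
      · have e : 8 - (d + 1) + 1 = 8 - d := by omega
        rw [f4mNt_succ b (8 - (d + 1)) (by omega), e]
        exact mul_mem (f4mNc_mem b _) (ih (by omega))
      · have e : 8 - (d + 1) = 8 - d := by omega
        rw [e]
        exact ih (by omega)
  · have : f4mTailWord b j = [] := by
      unfold f4mTailWord
      have : 8 - j = 0 := by omega
      rw [this]
      rfl
    unfold f4mNt
    rw [this, nWordGL_nil]
    exact one_mem _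

/-! ### the root subgroups and the heads -/

/-- the root subgroup at the position `k` of the family `b`. -/
noncomputable def f4mRoot (b : Bool) (k : ℕ) : Subgroup (GL chevF4.Idx K) :=
  ((f4mCls hm b k).X).map (MulAut.conj (f4mNt K b (k + 1))⁻¹).toMonoidHom

/-- the product of the root subgroups at the positions `0, …, j - 1`. -/
noncomputable def f4mHead (b : Bool) (j : ℕ) : Subgroup (GL chevF4.Idx K) :=
  (f4mM hm b j).map (MulAut.conj (f4mNt K b j)⁻¹).toMonoidHom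

/-- **the root subgroup `U_{k+1}` of `²F₄(q)`**, `k < 8`. -/
noncomputable def f4mUk (k : ℕ) : Subgroup (GL chevF4.Idx K) := f4mRoot hm false k

theorem mem_f4mRoot {b : Bool} {k : ℕ} {g : GL chevF4.Idx K} :
    g ∈ f4mRoot hm b k ↔ ∃ x ∈ (f4mCls hm b k).X, g = (f4mNt K b (k + 1))⁻¹ * x * f4mNt K b (k + 1) := by
  unfold f4mRoot
  rw [Subgroup.mem_map]
  constructor
  · rintro ⟨x, hx, rfl⟩
    refine ⟨x, hx, ?_⟩
    simp
  · rintro ⟨x, hx, rfl⟩
    refine ⟨x, hx, ?_⟩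
    simp

theorem mem_f4mHead {b : Bool} {j : ℕ} {g : GL chevF4.Idx K} :
    g ∈ f4mHead hm b j ↔ ∃ v ∈ f4mM hm b j, g = (f4mNt K b j)⁻¹ * v * f4mNt K b j := by
  unfold f4mHead
  rw [Subgroup.mem_map]
  constructor
  · rintro ⟨x, hx, rfl⟩
    refine ⟨x, hx, ?_⟩
    simp
  · rintro ⟨x, hx, rfl⟩
    refine ⟨x, hx, ?_⟩
    simp

theorem f4mHead_zero (b : Bool) : f4mHead hm b 0 = ⊥ := by
  unfold f4mHead
  rw [f4mM_zero, Subgroup.map_bot]

/-- the head of length `j + 1` is the product of the head of length `j` and the root subgroup at `j`. -/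
theorem f4mHead_succ (b : Bool) (j : ℕ) (hj : j < 8) {g : GL chevF4.Idx K} :
    g ∈ f4mHead hm b (j + 1) ↔ ∃ a ∈ f4mHead hm b j, ∃ y ∈ f4mRoot hm b j, g = a * y := by
  rw [mem_f4mHead]
  constructor
  · rintro ⟨v, hv, rfl⟩
    obtain ⟨v', hv', x, hx, rfl⟩ := (f4m_peel hm b j hj).mp hv
    refine ⟨(f4mNt K b j)⁻¹ * v' * f4mNt K b j, (mem_f4mHead hm).mpr ⟨v', hv', rfl⟩,
      (f4mNt K b (j + 1))⁻¹ * x * f4mNt K b (j + 1), (mem_f4mRoot hm).mpr ⟨x, hx, rfl⟩, ?_⟩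
    rw [f4mNt_succ b j hj]
    group
  · rintro ⟨a, ha, y, hy, rfl⟩
    obtain ⟨v', hv', rfl⟩ := (mem_f4mHead hm).mp ha
    obtain ⟨x, hx, rfl⟩ := (mem_f4mRoot hm).mp hy
    refine ⟨(f4mNc K b j)⁻¹ * v' * f4mNc K b j * x, (f4m_peel hm b j hj).mpr ⟨v', hv', x, hx, rfl⟩, ?_⟩
    rw [f4mNt_succ b j hj]
    group

/-- uniqueness of the factorisation. -/
theorem f4mHead_succ_unique (b : Bool) (j : ℕ) (hj : j < 8) {a a' y y' : GL chevF4.Idx K}
    (ha : a ∈ f4mHead hm b j) (ha' : a' ∈ f4mHead hm b j) (hy : y ∈ f4mRoot hm b j)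
    (hy' : y' ∈ f4mRoot hm b j) (e : a * y = a' * y') : a = a' ∧ y = y' := by
  obtain ⟨v, hv, rfl⟩ := (mem_f4mHead hm).mp ha
  obtain ⟨v', hv', rfl⟩ := (mem_f4mHead hm).mp ha'
  obtain ⟨x, hx, rfl⟩ := (mem_f4mRoot hm).mp hy
  obtain ⟨x', hx', rfl⟩ := (mem_f4mRoot hm).mp hy'
  have key : (f4mNc K b j)⁻¹ * v * f4mNc K b j * x = (f4mNc K b j)⁻¹ * v' * f4mNc K b j * x' := by
    rw [f4mNt_succ b j hj] at e
    have e1 : (f4mNc K b j)⁻¹ * v * f4mNc K b j * x = f4mNt K b (j + 1) *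
        ((f4mNc K b j * f4mNt K b (j + 1))⁻¹ * v * (f4mNc K b j * f4mNt K b (j + 1)) *
          ((f4mNt K b (j + 1))⁻¹ * x * f4mNt K b (j + 1))) * (f4mNt K b (j + 1))⁻¹ := by group
    have e2 : (f4mNc K b j)⁻¹ * v' * f4mNc K b j * x' = f4mNt K b (j + 1) *
        ((f4mNc K b j * f4mNt K b (j + 1))⁻¹ * v' * (f4mNc K b j * f4mNt K b (j + 1)) *
          ((f4mNt K b (j + 1))⁻¹ * x' * f4mNt K b (j + 1))) * (f4mNt K b (j + 1))⁻¹ := by group
    rw [e1, e2, e]
  obtain ⟨rfl, rfl⟩ := f4m_peel_unique hm b j hj hv hv' hx hx' key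
  exact ⟨rfl, rfl⟩

/-! ### the head of length `8` is `U¹` -/

theorem f4mM_eight (b : Bool) : f4mM hm b 8 = chevF4.posUnipotent K ⊓ fixSub (f4Tau hm) := by
  unfold f4mM fM
  apply inf_eq_left.mpr
  intro g hg
  have h := nWordGL_conj_pos_eq_neg (K := K) good3_F4.toGood2 T0_F4 (f4_altW0 b)
  rw [Subgroup.mem_comap, ← h]
  exact Subgroup.mem_map_of_mem _ hg.1

section finite

variable [Finite K]

theorem f4mHead_eight (b : Bool) :
    f4mHead hm b 8 = chevF4.posUnipotent K ⊓ twistedF4 K (2 ^ m) := by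
  rw [(f4_posUnipotent_inf hm).1, ← f4mM_eight hm b]
  ext g
  rw [mem_f4mHead, f4mNt_eight]
  constructor
  · rintro ⟨v, hv, rfl⟩
    simpa using hv
  · intro hg
    exact ⟨g, hg, by simp⟩

theorem f4mHead_le_succ (b : Bool) (j : ℕ) (hj : j < 8) : f4mHead hm b j ≤ f4mHead hm b (j + 1) := by
  intro g hg
  exact (f4mHead_succ hm b j hj).mpr ⟨g, hg, 1, one_mem _, (mul_one g).symm⟩

theorem f4mRoot_le_head_succ (b : Bool) (j : ℕ) (hj : j < 8) : f4mRoot hm b j ≤ f4mHead hm b (j + 1) := by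
  intro g hg
  exact (f4mHead_succ hm b j hj).mpr ⟨1, one_mem _, g, hg, (one_mul g).symm⟩

theorem f4mHead_mono (b : Bool) {i j : ℕ} (hij : i ≤ j) (hj : j ≤ 8) : f4mHead hm b i ≤ f4mHead hm b j := by
  induction j with
  | zero =>
    have : i = 0 := by omega
    subst this
    exact le_rfl
  | succ j ih =>
    rcases Nat.eq_or_lt_of_le hij with rfl | h
    · exact le_rfl
    · exact (ih (by omega) (by omega)).trans (f4mHead_le_succ hm b j (by omega))

theorem f4mRoot_le_head (b : Bool) {k j : ℕ} (hkj : k < j) (hj : j ≤ 8) : f4mRoot hm b k ≤ f4mHead hm b j :=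
  (f4mRoot_le_head_succ hm b k (by omega)).trans (f4mHead_mono hm b hkj hj)

/-- the root subgroups are contained in `U¹`. -/
theorem f4mRoot_le (b : Bool) (k : ℕ) (hk : k < 8) :
    f4mRoot hm b k ≤ chevF4.posUnipotent K ⊓ twistedF4 K (2 ^ m) := by
  rw [← f4mHead_eight hm b]
  exact f4mRoot_le_head hm b hk le_rfl

/-- the heads are generated by the root subgroups. -/
theorem f4mHead_eq_iSup (b : Bool) (j : ℕ) (hj : j ≤ 8) :
    f4mHead hm b j = ⨆ k ∈ Finset.range j, f4mRoot hm b k := by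
  induction j with
  | zero =>
    rw [f4mHead_zero]
    simp
  | succ j ih =>
    apply le_antisymm
    · intro g hg
      obtain ⟨a, ha, y, hy, rfl⟩ := (f4mHead_succ hm b j (by omega)).mp hg
      rw [ih (by omega)] at ha
      refine mul_mem ?_ ?_
      · refine (iSup₂_mono' ?_ : (⨆ k ∈ Finset.range j, f4mRoot hm b k) ≤ _) ha
        intro k hk
        exact ⟨k, Finset.mem_range.mpr (by have := Finset.mem_range.mp hk; omega), le_rfl⟩
      · exact (le_iSup₂_of_le j (Finset.mem_range.mpr (Nat.lt_succ_self j)) le_rfl :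
          f4mRoot hm b j ≤ ⨆ k ∈ Finset.range (j + 1), f4mRoot hm b k) hy
    · refine iSup₂_le ?_
      intro k hk
      exact f4mRoot_le_head hm b (Finset.mem_range.mp hk) hj

/-- **`U¹` is generated by the eight root subgroups.** -/
theorem f4m_iSup_U :
    ⨆ k ∈ Finset.range 8, f4mUk hm k = chevF4.posUnipotent K ⊓ twistedF4 K (2 ^ m) := by
  unfold f4mUk
  rw [← f4mHead_eq_iSup hm false 8 le_rfl, f4mHead_eight]

theorem f4m_U_le (k : ℕ) (hk : k < 8) :
    f4mUk hm k ≤ chevF4.posUnipotent K ⊓ twistedF4 K (2 ^ m) := f4mRoot_le hm false k hk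

/-! ### cardinalities -/

theorem f4m_card_root (b : Bool) (k : ℕ) :
    Nat.card (f4mRoot hm b k) = if (k % 2 = 0) = !b then Nat.card K else Nat.card K * Nat.card K := by
  unfold f4mRoot
  rw [Subgroup.card_map_of_injective (MulEquiv.injective _)]
  unfold f4mCls
  split_ifs
  · rw [f4Cls1_X, card_XJ1_fix hm]
  · rw [f4Cls2_X, card_XJ2_fix hm]

theorem f4m_card_U (k : ℕ) :
    Nat.card (f4mUk hm k) = if k % 2 = 0 then Nat.card K else Nat.card K * Nat.card K := by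
  unfold f4mUk
  rw [f4m_card_root]
  simp

/-- **the order of `U¹` is the product of the orders of the root subgroups.** -/
theorem f4m_card_iSup :
    Nat.card ↥(⨆ k ∈ Finset.range 8, f4mUk hm k) = ∏ k ∈ Finset.range 8, Nat.card (f4mUk hm k) := by
  rw [f4m_iSup_U, (f4_posUnipotent_inf hm).2]
  simp only [f4m_card_U, Finset.prod_range_succ, Finset.prod_range_zero]
  norm_num
  ring

end finite

/-! ### explicit description of the root subgroups -/

theorem f4mTailWord_lt (b : Bool) (j : ℕ) : ∀ i ∈ f4mTailWord b j, i < chevF4.rank := by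
  intro i hi
  unfold f4mTailWord at hi
  rw [List.mem_flatten] at hi
  obtain ⟨l, hl, hil⟩ := hi
  rw [List.mem_map] at hl
  obtain ⟨k, -, rfl⟩ := hl
  split_ifs at hil
  · simp only [List.mem_cons, List.not_mem_nil, or_false] at hil
    rcases hil with rfl | rfl <;> decide
  · simp only [List.mem_cons, List.not_mem_nil, or_false] at hil
    rcases hil with rfl | rfl | rfl | rfl <;> decide

/-- conjugation of a root element by the inverse of the element of `N` of a word, in characteristic two. -/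
theorem f4m_conj_inv_fx {w : List ℕ} (hw : ∀ i ∈ w, i < chevF4.rank) {r s : Fin 48} (h : f4Img w r = s) (a : K) :
    (nWordGL good3_F4.toGood2 w)⁻¹ * fx K s a * nWordGL good3_F4.toGood2 w = fx K r a := by
  rw [← h, ← conj_fx_img hw]
  group

theorem f4m_commute_conj {G : Type*} [Group G] (n : G) {x y : G} (h : Commute x y) :
    Commute (n⁻¹ * x * n) (n⁻¹ * y * n) := by
  have e1 : n⁻¹ * x * n * (n⁻¹ * y * n) = n⁻¹ * (x * y) * n := by group
  have e2 : n⁻¹ * y * n * (n⁻¹ * x * n) = n⁻¹ * (y * x) * n := by group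
  unfold Commute SemiconjBy
  rw [e1, e2, h.eq]

/-- the quadruple of roots `a, b, a + b, 2a + b` which a word maps to the fundamental one. -/
noncomputable def f4mQuadOf (K : Type*) [Field K] [CharP K 2] (w : List ℕ) (hw : ∀ i ∈ w, i < chevF4.rank)
    (a b ab aab : Fin 48)
    (ha : f4Img w a = 27) (hb : f4Img w b = 25) (hab : f4Img w ab = 28) (haab : f4Img w aab = 30)
    (r1 : isoRho_F4 a.val = b.val) (r2 : isoRho_F4 b.val = a.val) (r3 : isoRho_F4 ab.val = aab.val)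
    (r4 : isoRho_F4 aab.val = ab.val) (s1 : isoSR_F4 a.val = true) (s2 : isoSR_F4 b.val = false)
    (s3 : isoSR_F4 ab.val = true) (s4 : isoSR_F4 aab.val = false) : B2Quad K where
  a := a
  b := b
  ab := ab
  aab := aab
  comm_ba := fun t u => by
    have h : fx K 25 u * fx K 27 t = fx K 27 t * fx K 25 u * (fx K 28 (t * u) * fx K 30 (t ^ 2 * u)) :=
      (quadPos K).comm_ba t u
    rw [← f4m_conj_inv_fx hw ha, ← f4m_conj_inv_fx hw hb, ← f4m_conj_inv_fx hw hab, ← f4m_conj_inv_fx hw haab]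
    set n : GL chevF4.Idx K := nWordGL good3_F4.toGood2 w
    calc n⁻¹ * fx K 25 u * n * (n⁻¹ * fx K 27 t * n)
        = n⁻¹ * (fx K 25 u * fx K 27 t) * n := by group
      _ = n⁻¹ * (fx K 27 t * fx K 25 u * (fx K 28 (t * u) * fx K 30 (t ^ 2 * u))) * n := by rw [h]
      _ = _ := by group
  c_a_ab := fun t u => by
    rw [← f4m_conj_inv_fx hw ha, ← f4m_conj_inv_fx hw hab]
    exact f4m_commute_conj _ ((quadPos K).c_a_ab t u)
  c_a_aab := fun t u => by
    rw [← f4m_conj_inv_fx hw ha, ← f4m_conj_inv_fx hw haab]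
    exact f4m_commute_conj _ ((quadPos K).c_a_aab t u)
  c_b_ab := fun t u => by
    rw [← f4m_conj_inv_fx hw hb, ← f4m_conj_inv_fx hw hab]
    exact f4m_commute_conj _ ((quadPos K).c_b_ab t u)
  c_b_aab := fun t u => by
    rw [← f4m_conj_inv_fx hw hb, ← f4m_conj_inv_fx hw haab]
    exact f4m_commute_conj _ ((quadPos K).c_b_aab t u)
  c_ab_aab := fun t u => by
    rw [← f4m_conj_inv_fx hw hab, ← f4m_conj_inv_fx hw haab]
    exact f4m_commute_conj _ ((quadPos K).c_ab_aab t u)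
  rho_a := r1
  rho_b := r2
  rho_ab := r3
  rho_aab := r4
  sr_a := s1
  sr_b := s2
  sr_ab := s3
  sr_aab := s4

/-- conjugating the fixed points of the fundamental quadruple. -/
theorem f4m_conj_inv_xS {w : List ℕ} (hw : ∀ i ∈ w, i < chevF4.rank) (q : B2Quad K)
    (ha : f4Img w q.a = 27) (hb : f4Img w q.b = 25) (hab : f4Img w q.ab = 28) (haab : f4Img w q.aab = 30)
    (t u : K) :
    (nWordGL good3_F4.toGood2 w)⁻¹ * (quadPos K).xS m t u * nWordGL good3_F4.toGood2 w = q.xS m t u := by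
  unfold B2Quad.xS B2Quad.xQ
  rw [← f4m_conj_inv_fx hw ha, ← f4m_conj_inv_fx hw hb, ← f4m_conj_inv_fx hw hab, ← f4m_conj_inv_fx hw haab]
  change _⁻¹ * (fx K 27 _ * fx K 25 _ * fx K 28 _ * fx K 30 _) * _ = _
  group

/-- conjugating the fixed points of the fundamental pair. -/
theorem f4m_conj_inv_xP {w : List ℕ} (hw : ∀ i ∈ w, i < chevF4.rank) {r rb : Fin 48}
    (h1 : f4Img w r = 33) (h2 : f4Img w rb = 24) (t : K) :
    (nWordGL good3_F4.toGood2 w)⁻¹ * xP 33 24 m t * nWordGL good3_F4.toGood2 w = xP r rb m t := by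
  unfold xP
  rw [← f4m_conj_inv_fx hw h1, ← f4m_conj_inv_fx hw h2]
  group

theorem f4m_mem_root_pair {b : Bool} {k : ℕ} (hc : (k % 2 = 0) = !b) {r rb : Fin 48}
    (h1 : f4Img (f4mTailWord b (k + 1)) r = 33) (h2 : f4Img (f4mTailWord b (k + 1)) rb = 24)
    {g : GL chevF4.Idx K} : g ∈ f4mRoot hm b k ↔ ∃ t : K, g = xP r rb m t := by
  rw [mem_f4mRoot]
  have hX : (f4mCls hm b k).X =
      Subgroup.closure (rootGen chevF4 K (InJPos chevF4 f4J1)) ⊓ fixSub (f4Tau hm) := by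
    unfold f4mCls
    rw [if_pos hc, f4Cls1_X]
  rw [hX]
  constructor
  · rintro ⟨x, hx, rfl⟩
    obtain ⟨t, rfl⟩ := (mem_XJ1_fix_iff hm).mp hx
    exact ⟨t, f4m_conj_inv_xP (f4mTailWord_lt b (k + 1)) h1 h2 t⟩
  · rintro ⟨t, rfl⟩
    exact ⟨xP 33 24 m t, (mem_XJ1_fix_iff hm).mpr ⟨t, rfl⟩,
      (f4m_conj_inv_xP (f4mTailWord_lt b (k + 1)) h1 h2 t).symm⟩

theorem f4m_mem_root_quad {b : Bool} {k : ℕ} (hc : ¬ (k % 2 = 0) = !b) (q : B2Quad K)
    (ha : f4Img (f4mTailWord b (k + 1)) q.a = 27) (hb : f4Img (f4mTailWord b (k + 1)) q.b = 25)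
    (hab : f4Img (f4mTailWord b (k + 1)) q.ab = 28) (haab : f4Img (f4mTailWord b (k + 1)) q.aab = 30)
    {g : GL chevF4.Idx K} : g ∈ f4mRoot hm b k ↔ ∃ t u : K, g = q.xS m t u := by
  rw [mem_f4mRoot]
  have hX : (f4mCls hm b k).X =
      Subgroup.closure (rootGen chevF4 K (InJPos chevF4 f4J2)) ⊓ fixSub (f4Tau hm) := by
    unfold f4mCls
    rw [if_neg hc, f4Cls2_X]
  rw [hX]
  constructor
  · rintro ⟨x, hx, rfl⟩
    obtain ⟨t, u, rfl⟩ := (mem_XJ2_fix_iff hm).mp hx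
    exact ⟨t, u, f4m_conj_inv_xS (f4mTailWord_lt b (k + 1)) q ha hb hab haab t u⟩
  · rintro ⟨t, u, rfl⟩
    exact ⟨(quadPos K).xS m t u, (mem_XJ2_fix_iff hm).mpr ⟨t, u, rfl⟩,
      (f4m_conj_inv_xS (f4mTailWord_lt b (k + 1)) q ha hb hab haab t u).symm⟩

/-! ### the tables -/

set_option maxRecDepth 100000 in
theorem f4m_tab_false :
    (f4Img (f4mTailWord false 1) 33 = 33 ∧ f4Img (f4mTailWord false 1) 24 = 24) ∧
    (f4Img (f4mTailWord false 2) 34 = 27 ∧ f4Img (f4mTailWord false 2) 26 = 25 ∧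
      f4Img (f4mTailWord false 2) 36 = 28 ∧ f4Img (f4mTailWord false 2) 42 = 30) ∧
    (f4Img (f4mTailWord false 3) 38 = 33 ∧ f4Img (f4mTailWord false 3) 43 = 24) ∧
    (f4Img (f4mTailWord false 4) 29 = 27 ∧ f4Img (f4mTailWord false 4) 41 = 25 ∧
      f4Img (f4mTailWord false 4) 44 = 28 ∧ f4Img (f4mTailWord false 4) 47 = 30) ∧
    (f4Img (f4mTailWord false 5) 39 = 33 ∧ f4Img (f4mTailWord false 5) 45 = 24) ∧
    (f4Img (f4mTailWord false 6) 35 = 27 ∧ f4Img (f4mTailWord false 6) 31 = 25 ∧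
      f4Img (f4mTailWord false 6) 40 = 28 ∧ f4Img (f4mTailWord false 6) 46 = 30) ∧
    (f4Img (f4mTailWord false 7) 37 = 33 ∧ f4Img (f4mTailWord false 7) 32 = 24) ∧
    (f4Img (f4mTailWord false 8) 27 = 27 ∧ f4Img (f4mTailWord false 8) 25 = 25 ∧
      f4Img (f4mTailWord false 8) 28 = 28 ∧ f4Img (f4mTailWord false 8) 30 = 30) := by
  decide +kernel

set_option maxRecDepth 100000 in
theorem f4m_tab_true :
    (f4Img (f4mTailWord true 8) 33 = 33 ∧ f4Img (f4mTailWord true 8) 24 = 24) ∧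
    (f4Img (f4mTailWord true 7) 34 = 27 ∧ f4Img (f4mTailWord true 7) 26 = 25 ∧
      f4Img (f4mTailWord true 7) 36 = 28 ∧ f4Img (f4mTailWord true 7) 42 = 30) ∧
    (f4Img (f4mTailWord true 6) 38 = 33 ∧ f4Img (f4mTailWord true 6) 43 = 24) ∧
    (f4Img (f4mTailWord true 5) 29 = 27 ∧ f4Img (f4mTailWord true 5) 41 = 25 ∧
      f4Img (f4mTailWord true 5) 44 = 28 ∧ f4Img (f4mTailWord true 5) 47 = 30) ∧
    (f4Img (f4mTailWord true 4) 39 = 33 ∧ f4Img (f4mTailWord true 4) 45 = 24) ∧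
    (f4Img (f4mTailWord true 3) 35 = 27 ∧ f4Img (f4mTailWord true 3) 31 = 25 ∧
      f4Img (f4mTailWord true 3) 40 = 28 ∧ f4Img (f4mTailWord true 3) 46 = 30) ∧
    (f4Img (f4mTailWord true 2) 37 = 33 ∧ f4Img (f4mTailWord true 2) 32 = 24) ∧
    (f4Img (f4mTailWord true 1) 27 = 27 ∧ f4Img (f4mTailWord true 1) 25 = 25 ∧
      f4Img (f4mTailWord true 1) 28 = 28 ∧ f4Img (f4mTailWord true 1) 30 = 30) := by
  decide +kernel

/-- the quadruple `(34, 26, 36, 42)` of `U_2`. -/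
noncomputable def f4mQ2 (K : Type*) [Field K] [CharP K 2] : B2Quad K :=
  f4mQuadOf K (f4mTailWord false 2) (f4mTailWord_lt false 2) 34 26 36 42
    f4m_tab_false.2.1.1 f4m_tab_false.2.1.2.1 f4m_tab_false.2.1.2.2.1 f4m_tab_false.2.1.2.2.2
    (by decide) (by decide) (by decide) (by decide) (by decide) (by decide) (by decide) (by decide)

/-- the quadruple `(29, 41, 44, 47)` of `U_4`. -/
noncomputable def f4mQ4 (K : Type*) [Field K] [CharP K 2] : B2Quad K :=
  f4mQuadOf K (f4mTailWord false 4) (f4mTailWord_lt false 4) 29 41 44 47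
    f4m_tab_false.2.2.2.1.1 f4m_tab_false.2.2.2.1.2.1 f4m_tab_false.2.2.2.1.2.2.1 f4m_tab_false.2.2.2.1.2.2.2
    (by decide) (by decide) (by decide) (by decide) (by decide) (by decide) (by decide) (by decide)

/-- the quadruple `(35, 31, 40, 46)` of `U_6`. -/
noncomputable def f4mQ6 (K : Type*) [Field K] [CharP K 2] : B2Quad K :=
  f4mQuadOf K (f4mTailWord false 6) (f4mTailWord_lt false 6) 35 31 40 46
    f4m_tab_false.2.2.2.2.2.1.1 f4m_tab_false.2.2.2.2.2.1.2.1 f4m_tab_false.2.2.2.2.2.1.2.2.1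
    f4m_tab_false.2.2.2.2.2.1.2.2.2
    (by decide) (by decide) (by decide) (by decide) (by decide) (by decide) (by decide) (by decide)

theorem f4mQ2_roots : (f4mQ2 K).a = 34 ∧ (f4mQ2 K).b = 26 ∧ (f4mQ2 K).ab = 36 ∧ (f4mQ2 K).aab = 42 :=
  ⟨rfl, rfl, rfl, rfl⟩

theorem f4mQ4_roots : (f4mQ4 K).a = 29 ∧ (f4mQ4 K).b = 41 ∧ (f4mQ4 K).ab = 44 ∧ (f4mQ4 K).aab = 47 :=
  ⟨rfl, rfl, rfl, rfl⟩

theorem f4mQ6_roots : (f4mQ6 K).a = 35 ∧ (f4mQ6 K).b = 31 ∧ (f4mQ6 K).ab = 40 ∧ (f4mQ6 K).aab = 46 :=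
  ⟨rfl, rfl, rfl, rfl⟩

variable {g : GL chevF4.Idx K}

/-- `U_1 = {x₃₃(t^θ) x₂₄(t)}`. -/
theorem mem_f4mUk_0 : g ∈ f4mUk hm 0 ↔ ∃ t : K, g = xP 33 24 m t :=
  f4m_mem_root_pair hm (b := false) (k := 0) (by decide) f4m_tab_false.1.1 f4m_tab_false.1.2

/-- `U_2`: the quadruple `(34, 26, 36, 42)`. -/
theorem mem_f4mUk_1 : g ∈ f4mUk hm 1 ↔ ∃ t u : K, g = (f4mQ2 K).xS m t u :=
  f4m_mem_root_quad hm (b := false) (k := 1) (by decide) (f4mQ2 K)
    f4m_tab_false.2.1.1 f4m_tab_false.2.1.2.1 f4m_tab_false.2.1.2.2.1 f4m_tab_false.2.1.2.2.2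

/-- `U_3 = {x₃₈(t^θ) x₄₃(t)}`. -/
theorem mem_f4mUk_2 : g ∈ f4mUk hm 2 ↔ ∃ t : K, g = xP 38 43 m t :=
  f4m_mem_root_pair hm (b := false) (k := 2) (by decide) f4m_tab_false.2.2.1.1 f4m_tab_false.2.2.1.2

/-- `U_4`: the quadruple `(29, 41, 44, 47)`. -/
theorem mem_f4mUk_3 : g ∈ f4mUk hm 3 ↔ ∃ t u : K, g = (f4mQ4 K).xS m t u :=
  f4m_mem_root_quad hm (b := false) (k := 3) (by decide) (f4mQ4 K)
    f4m_tab_false.2.2.2.1.1 f4m_tab_false.2.2.2.1.2.1 f4m_tab_false.2.2.2.1.2.2.1 f4m_tab_false.2.2.2.1.2.2.2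

/-- `U_5 = {x₃₉(t^θ) x₄₅(t)}`. -/
theorem mem_f4mUk_4 : g ∈ f4mUk hm 4 ↔ ∃ t : K, g = xP 39 45 m t :=
  f4m_mem_root_pair hm (b := false) (k := 4) (by decide) f4m_tab_false.2.2.2.2.1.1 f4m_tab_false.2.2.2.2.1.2

/-- `U_6`: the quadruple `(35, 31, 40, 46)`. -/
theorem mem_f4mUk_5 : g ∈ f4mUk hm 5 ↔ ∃ t u : K, g = (f4mQ6 K).xS m t u :=
  f4m_mem_root_quad hm (b := false) (k := 5) (by decide) (f4mQ6 K)
    f4m_tab_false.2.2.2.2.2.1.1 f4m_tab_false.2.2.2.2.2.1.2.1 f4m_tab_false.2.2.2.2.2.1.2.2.1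
    f4m_tab_false.2.2.2.2.2.1.2.2.2

/-- `U_7 = {x₃₇(t^θ) x₃₂(t)}`. -/
theorem mem_f4mUk_6 : g ∈ f4mUk hm 6 ↔ ∃ t : K, g = xP 37 32 m t :=
  f4m_mem_root_pair hm (b := false) (k := 6) (by decide) f4m_tab_false.2.2.2.2.2.2.1.1
    f4m_tab_false.2.2.2.2.2.2.1.2

/-- `U_8`: the fundamental quadruple `(27, 25, 28, 30)`. -/
theorem mem_f4mUk_7 : g ∈ f4mUk hm 7 ↔ ∃ t u : K, g = (quadPos K).xS m t u :=
  f4m_mem_root_quad hm (b := false) (k := 7) (by decide) (quadPos K)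
    f4m_tab_false.2.2.2.2.2.2.2.1 f4m_tab_false.2.2.2.2.2.2.2.2.1 f4m_tab_false.2.2.2.2.2.2.2.2.2.1
    f4m_tab_false.2.2.2.2.2.2.2.2.2.2

/-- **the second family is the first one in the reverse order.** -/
theorem f4mRoot_true (j : ℕ) (hj : j < 8) : f4mRoot hm true j = f4mUk hm (7 - j) := by
  ext g
  interval_cases j
  · rw [show 7 - 0 = 7 from rfl, mem_f4mUk_7]
    exact f4m_mem_root_quad hm (b := true) (k := 0) (by decide) (quadPos K)
      f4m_tab_true.2.2.2.2.2.2.2.1 f4m_tab_true.2.2.2.2.2.2.2.2.1 f4m_tab_true.2.2.2.2.2.2.2.2.2.1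
      f4m_tab_true.2.2.2.2.2.2.2.2.2.2
  · rw [show 7 - 1 = 6 from rfl, mem_f4mUk_6]
    exact f4m_mem_root_pair hm (b := true) (k := 1) (by decide) f4m_tab_true.2.2.2.2.2.2.1.1
      f4m_tab_true.2.2.2.2.2.2.1.2
  · rw [show 7 - 2 = 5 from rfl, mem_f4mUk_5]
    exact f4m_mem_root_quad hm (b := true) (k := 2) (by decide) (f4mQ6 K)
      f4m_tab_true.2.2.2.2.2.1.1 f4m_tab_true.2.2.2.2.2.1.2.1 f4m_tab_true.2.2.2.2.2.1.2.2.1
      f4m_tab_true.2.2.2.2.2.1.2.2.2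
  · rw [show 7 - 3 = 4 from rfl, mem_f4mUk_4]
    exact f4m_mem_root_pair hm (b := true) (k := 3) (by decide) f4m_tab_true.2.2.2.2.1.1
      f4m_tab_true.2.2.2.2.1.2
  · rw [show 7 - 4 = 3 from rfl, mem_f4mUk_3]
    exact f4m_mem_root_quad hm (b := true) (k := 4) (by decide) (f4mQ4 K)
      f4m_tab_true.2.2.2.1.1 f4m_tab_true.2.2.2.1.2.1 f4m_tab_true.2.2.2.1.2.2.1 f4m_tab_true.2.2.2.1.2.2.2
  · rw [show 7 - 5 = 2 from rfl, mem_f4mUk_2]
    exact f4m_mem_root_pair hm (b := true) (k := 5) (by decide) f4m_tab_true.2.2.1.1 f4m_tab_true.2.2.1.2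
  · rw [show 7 - 6 = 1 from rfl, mem_f4mUk_1]
    exact f4m_mem_root_quad hm (b := true) (k := 6) (by decide) (f4mQ2 K)
      f4m_tab_true.2.1.1 f4m_tab_true.2.1.2.1 f4m_tab_true.2.1.2.2.1 f4m_tab_true.2.1.2.2.2
  · rw [show 7 - 7 = 0 from rfl, mem_f4mUk_0]
    exact f4m_mem_root_pair hm (b := true) (k := 7) (by decide) f4m_tab_true.1.1 f4m_tab_true.1.2

/-! ### the root subgroups as subgroups of `²F₄(q)` -/

theorem f4m_subgroupOf_biSup {G : Type*} [Group G] (T : Subgroup G) (s : Finset ℕ) (H : ℕ → Subgroup G)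
    (h : ∀ k ∈ s, H k ≤ T) : (⨆ k ∈ s, H k).subgroupOf T = ⨆ k ∈ s, (H k).subgroupOf T := by
  apply Subgroup.map_injective T.subtype_injective
  rw [Subgroup.subgroupOf_map_subtype]
  simp_rw [Subgroup.map_iSup, Subgroup.subgroupOf_map_subtype]
  have h1 : (⨆ k ∈ s, H k) ≤ T := iSup₂_le h
  rw [inf_eq_left.mpr h1]
  refine iSup_congr fun k => iSup_congr fun hk => ?_
  exact (inf_eq_left.mpr (h k hk)).symm

section finite2

variable [Finite K]

/-- the root subgroup `U_{k+1}` as a subgroup of `²F₄(q)`. -/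
noncomputable def f4mUs (k : ℕ) : Subgroup ↥(twistedF4 K (2 ^ m)) :=
  (f4mUk hm k).subgroupOf (twistedF4 K (2 ^ m))

theorem mem_f4mUs {k : ℕ} {x : ↥(twistedF4 K (2 ^ m))} :
    x ∈ f4mUs hm k ↔ (x : GL chevF4.Idx K) ∈ f4mUk hm k := Subgroup.mem_subgroupOf

theorem f4m_U_le_twisted (k : ℕ) (hk : k < 8) : f4mUk hm k ≤ twistedF4 K (2 ^ m) :=
  (f4m_U_le hm k hk).trans inf_le_right

theorem f4m_card_Us (k : ℕ) (hk : k < 8) : Nat.card (f4mUs hm k) = Nat.card (f4mUk hm k) :=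
  Nat.card_congr (Subgroup.subgroupOfEquivOfLe (f4m_U_le_twisted hm k hk)).toEquiv

/-- the eight root subgroups generate `U ∩ ²F₄(q)`. -/
theorem f4m_iSup_Us :
    ⨆ k ∈ Finset.range 8, f4mUs hm k = (chevF4.posUnipotent K).subgroupOf (twistedF4 K (2 ^ m)) := by
  unfold f4mUs
  rw [← f4m_subgroupOf_biSup _ _ _ (fun k hk => f4m_U_le_twisted hm k (Finset.mem_range.mp hk)), f4m_iSup_U,
    Subgroup.inf_subgroupOf_right]

theorem f4m_card_iSup_Us :
    Nat.card ↥(⨆ k ∈ Finset.range 8, f4mUs hm k) = ∏ k ∈ Finset.range 8, Nat.card (f4mUs hm k) := by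
  have e : (⨆ k ∈ Finset.range 8, f4mUs hm k) =
      (⨆ k ∈ Finset.range 8, f4mUk hm k).subgroupOf (twistedF4 K (2 ^ m)) := by
    unfold f4mUs
    rw [f4m_subgroupOf_biSup _ _ _ (fun k hk => f4m_U_le_twisted hm k (Finset.mem_range.mp hk))]
  have hle : (⨆ k ∈ Finset.range 8, f4mUk hm k) ≤ twistedF4 K (2 ^ m) :=
    iSup₂_le fun k hk => f4m_U_le_twisted hm k (Finset.mem_range.mp hk)
  rw [e, Nat.card_congr (Subgroup.subgroupOfEquivOfLe hle).toEquiv, f4m_card_iSup]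
  exact Finset.prod_congr rfl fun k hk => (f4m_card_Us hm k (Finset.mem_range.mp hk)).symm

end finite2

end Cfsg.Agent.F4M
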