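import Mathlib
import Cfsg.Agent.F4M.Roots

set_option autoImplicit false
set_option linter.unusedSectionVars false
set_option linter.unusedVariables false

/-!
# S2114, package C3 (file `Cfsg/Agent/F4M/CommW.lean`): two commutator facts for the base root group of Suzuki type `U_2`

With `b = 0` in `OctRoots`: `U b = U_1 = {x₃₃(t^θ) x₂₄(t)}`, `U (b+1) = U_2` (the quadruple `(34, 26, 36, 42)`),
`U (b+2) = U_3 = {x₃₈(t^θ) x₄₃(t)}`, `U (b+3) = U_4` (the quadruple `(29, 41, 44, 47)`).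
* `f4m_commW_comm_b`: `U_1` and `U_3` commute elementwise (the only root sum is `33 + 38 = 42`, with structure constant `±2 = 0`).
* `f4m_commW_comm_elt`: `⁅y, x⁆ = x₃₆(θ(t t')) x₄₂(t t')` for `x = x₃₃(t^θ) x₂₄(t) ∈ U_1`, `y ∈ U_4` with first parameter `t'`
  (only `[x₃₃, x₂₉] = x₃₆` and `[x₂₄, x₄₁] = x₄₂` are non-trivial), so the centre `W = {x₃₆(w) x₄₂(θ' w)}` of `U_2` lies in `⁅U_4, U_1⁆`
  (`f4m_commW_W_mem`).
Prefix `f4m_commW_`.
-/

namespace Cfsg.Agent.F4M

open Cfsg Cfsg.Lie Matrix Cfsg.Agent.Helper7.Chev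
open scoped commutatorElement

variable {K : Type*} [Field K] [CharP K 2] {m : ℕ} (hm : ∀ t : K, t ^ 2 ^ (2 * m + 1) = t)

/-! ### an abstract commutator computation -/

theorem f4m_commW_abs {Γ : Type*} [Group Γ] {A B C D X Y E F : Γ}
    (hXB : Commute X B) (hXC : Commute X C) (hXD : Commute X D)
    (hYA : Commute Y A) (hYC : Commute Y C) (hYD : Commute Y D)
    (hAX : A * X = X * A * E) (hBY : B * Y = Y * B * F)
    (hEA : Commute E A) (hEX : Commute E X)
    (hFA : Commute F A) (hFB : Commute F B) (hFX : Commute F X) (hFY : Commute F Y) :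
    ⁅A * B * C * D, X * Y⁆ = E * F := by
  -- conjugation of `X`
  have hX1 : Commute (B * C * D) X := ((hXB.mul_right hXC).mul_right hXD).symm
  have hX2 : (A * B * C * D) * X * (A * B * C * D)⁻¹ = X * E := by
    calc (A * B * C * D) * X * (A * B * C * D)⁻¹
        = A * ((B * C * D) * X * (B * C * D)⁻¹) * A⁻¹ := by group
      _ = A * X * A⁻¹ := by rw [hX1.mul_inv_cancel]
      _ = X * (A * E * A⁻¹) := by rw [hAX]; group
      _ = X * E := by rw [hEA.symm.mul_inv_cancel]
  -- conjugation of `Y`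
  have hY1 : Commute (C * D) Y := (hYC.mul_right hYD).symm
  have hY2 : (A * B * C * D) * Y * (A * B * C * D)⁻¹ = Y * F := by
    calc (A * B * C * D) * Y * (A * B * C * D)⁻¹
        = A * (B * ((C * D) * Y * (C * D)⁻¹) * B⁻¹) * A⁻¹ := by group
      _ = A * (B * Y * B⁻¹) * A⁻¹ := by rw [hY1.mul_inv_cancel]
      _ = A * (Y * (B * F * B⁻¹)) * A⁻¹ := by rw [hBY]; group
      _ = A * (Y * F) * A⁻¹ := by rw [hFB.symm.mul_inv_cancel]
      _ = Y * F := (hYA.symm.mul_right hFA.symm).mul_inv_cancel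
  rw [commutatorElement_def]
  calc (A * B * C * D) * (X * Y) * (A * B * C * D)⁻¹ * (X * Y)⁻¹
      = ((A * B * C * D) * X * (A * B * C * D)⁻¹) * ((A * B * C * D) * Y * (A * B * C * D)⁻¹) * (X * Y)⁻¹ := by
        group
    _ = (X * E) * (Y * F) * (X * Y)⁻¹ := by rw [hX2, hY2]
    _ = X * (E * (Y * F * Y⁻¹)) * X⁻¹ := by group
    _ = X * (E * F) * X⁻¹ := by rw [hFY.symm.mul_inv_cancel]
    _ = E * F := (hEX.symm.mul_right hFX.symm).mul_inv_cancel

/-! ### the commutator tables -/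

set_option maxRecDepth 100000 in
theorem f4m_commW_terms_24_41 : chevF4.commTerms 24 41 = [(42, 1, 1, 1)] := by decide +kernel

set_option maxRecDepth 100000 in
theorem f4m_commW_terms_33_29 : chevF4.commTerms 33 29 = [(36, -1, 1, 1)] := by decide +kernel

set_option maxRecDepth 100000 in
theorem f4m_commW_terms_33_38 : chevF4.commTerms 33 38 = [(42, 2, 1, 1)] := by decide +kernel

set_option maxRecDepth 1000000 in
theorem f4m_commW_terms_nil : ∀ p ∈ [(33, 41), (33, 44), (33, 47), (24, 29), (24, 44), (24, 47), (36, 29), (36, 33),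
    (42, 29), (42, 41), (42, 33), (42, 24), (33, 43), (24, 38), (24, 43)],
    (tabOf chevF4).commTerms p.1 p.2 = [] := by
  rw [tab_F4]
  decide +kernel

set_option maxRecDepth 1000000 in
theorem f4m_commW_nil_ne : ∀ r s : Fin 48, (r.val, s.val) ∈ [(33, 41), (33, 44), (33, 47), (24, 29), (24, 44), (24, 47),
    (36, 29), (36, 33), (42, 29), (42, 41), (42, 33), (42, 24), (33, 43), (24, 38), (24, 43)] →
    s.val ≠ r.val ∧ s.val ≠ chevF4.neg r.val := by decide +kernel

/-- the commuting pairs of root elements used below. -/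
theorem f4m_commW_commute {r s : Fin 48}
    (h : (r.val, s.val) ∈ [(33, 41), (33, 44), (33, 47), (24, 29), (24, 44), (24, 47), (36, 29), (36, 33),
      (42, 29), (42, 41), (42, 33), (42, 24), (33, 43), (24, 38), (24, 43)]) (t u : K) :
    Commute (fx K r t) (fx K s u) := by
  have h1 := f4m_commW_terms_nil _ h
  have h2 := f4m_commW_nil_ne r s h
  exact fx_commute_of_nil h2.1 h2.2 h1 t u

/-- `[x₃₃, x₂₉] = x₃₆`. -/
theorem f4m_commW_comm_33_29 (t u : K) :
    fx K 29 u * fx K 33 t = fx K 33 t * fx K 29 u * fx K 36 (t * u) := by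
  have h := xGL_comm (K := K) good3_F4 (r := 33) (s := 29) (by decide) (by decide) (by decide)
    (by decide) t u
  unfold ChevalleyDatum.commWord at h
  rw [f4m_commW_terms_33_29] at h
  simp only [List.map_cons, List.map_nil, List.prod_cons, List.prod_nil, mul_one] at h
  have e36 : ∀ c : K, xGL' good3_F4.toGood1 (36, c) = fx K 36 c := fun c => xGL'_eq_fx 36 c
  have a36 : ((-1 : ℤ) : K) * (-t) ^ 1 * u ^ 1 = t * u := by push_cast; ring
  rw [e36, a36] at h
  exact h

/-- `[x₂₄, x₄₁] = x₄₂`. -/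
theorem f4m_commW_comm_24_41 (t u : K) :
    fx K 41 u * fx K 24 t = fx K 24 t * fx K 41 u * fx K 42 (t * u) := by
  have h := xGL_comm (K := K) good3_F4 (r := 24) (s := 41) (by decide) (by decide) (by decide)
    (by decide) t u
  unfold ChevalleyDatum.commWord at h
  rw [f4m_commW_terms_24_41] at h
  simp only [List.map_cons, List.map_nil, List.prod_cons, List.prod_nil, mul_one] at h
  have e42 : ∀ c : K, xGL' good3_F4.toGood1 (42, c) = fx K 42 c := fun c => xGL'_eq_fx 42 c
  have a42 : ((1 : ℤ) : K) * (-t) ^ 1 * u ^ 1 = t * u := by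
    push_cast
    rw [neg_eq_self_char2 t]
    ring
  rw [e42, a42] at h
  exact h

/-- `[x₃₃, x₃₈] = x₄₂(±2 t u) = 1` in characteristic `2`. -/
theorem f4m_commW_commute_33_38 (t u : K) : Commute (fx K 33 t) (fx K 38 u) := by
  have h := xGL_comm (K := K) good3_F4 (r := 33) (s := 38) (by decide) (by decide) (by decide)
    (by decide) t u
  unfold ChevalleyDatum.commWord at h
  rw [f4m_commW_terms_33_38] at h
  simp only [List.map_cons, List.map_nil, List.prod_cons, List.prod_nil, mul_one] at h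
  have e42 : ∀ c : K, xGL' good3_F4.toGood1 (42, c) = fx K 42 c := fun c => xGL'_eq_fx 42 c
  have a42 : ((2 : ℤ) : K) * (-t) ^ 1 * u ^ 1 = 0 := by
    push_cast
    rw [two_eq_zero']
    ring
  rw [e42, a42, fx_zero, mul_one] at h
  exact h.symm

/-! ### `U_1` and `U_3` commute -/

/-- `x₃₃(t^θ) x₂₄(t)` and `x₃₈(t'^θ) x₄₃(t')` commute. -/
theorem f4m_commW_xP_comm (t t' : K) : xP 33 24 m t * xP 38 43 m t' = xP 38 43 m t' * xP 33 24 m t := by
  unfold xP
  have h1 : Commute (fx K 33 (f4Th K m t)) (fx K 38 (f4Th K m t')) := f4m_commW_commute_33_38 _ _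
  have h2 : Commute (fx K 33 (f4Th K m t)) (fx K 43 t') := f4m_commW_commute (r := 33) (s := 43) (by decide) _ _
  have h3 : Commute (fx K 24 t) (fx K 38 (f4Th K m t')) := f4m_commW_commute (r := 24) (s := 38) (by decide) _ _
  have h4 : Commute (fx K 24 t) (fx K 43 t') := f4m_commW_commute (r := 24) (s := 43) (by decide) _ _
  exact ((h1.mul_right h2).mul_left (h3.mul_right h4)).eq

/-- `OctRoots.comm_b` for `b = 0`. -/
theorem f4m_commW_comm_b [Finite K] : ∀ x ∈ f4mUs hm 0, ∀ y ∈ f4mUs hm 2, x * y = y * x := by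
  intro x hx y hy
  rw [mem_f4mUs, mem_f4mUk_0] at hx
  rw [mem_f4mUs, mem_f4mUk_2] at hy
  obtain ⟨t, ht⟩ := hx
  obtain ⟨t', ht'⟩ := hy
  apply Subtype.ext
  rw [Subgroup.coe_mul, Subgroup.coe_mul, ht, ht']
  exact f4m_commW_xP_comm t t'

/-! ### the centre of `U_2` lies in `⁅U_4, U_1⁆` -/

include hm in
/-- the commutator of an element of `U_4` with an element of `U_1`. -/
theorem f4m_commW_comm_elt (t t' u' : K) :
    ⁅(f4mQ4 K).xS m t' u', xP 33 24 m t⁆ = (f4mQ2 K).xS m 0 (f4Th K m (t * t')) := by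
  change ⁅fx K 29 (f4Th K m t') * fx K 41 t' * fx K 44 (f4Th K m t' * t' + u') * fx K 47 (f4Th K (m + 1) u'),
      fx K 33 (f4Th K m t) * fx K 24 t⁆ =
    fx K 34 (f4Th K m 0) * fx K 26 0 * fx K 36 (f4Th K m 0 * 0 + f4Th K m (t * t')) *
      fx K 42 (f4Th K (m + 1) (f4Th K m (t * t')))
  rw [f4m_commW_abs (E := fx K 36 (f4Th K m t * f4Th K m t')) (F := fx K 42 (t * t'))
    (f4m_commW_commute (r := 33) (s := 41) (by decide) _ _)
    (f4m_commW_commute (r := 33) (s := 44) (by decide) _ _)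
    (f4m_commW_commute (r := 33) (s := 47) (by decide) _ _)
    (f4m_commW_commute (r := 24) (s := 29) (by decide) _ _)
    (f4m_commW_commute (r := 24) (s := 44) (by decide) _ _)
    (f4m_commW_commute (r := 24) (s := 47) (by decide) _ _)
    (f4m_commW_comm_33_29 _ _) (f4m_commW_comm_24_41 _ _)
    (f4m_commW_commute (r := 36) (s := 29) (by decide) _ _)
    (f4m_commW_commute (r := 36) (s := 33) (by decide) _ _)
    (f4m_commW_commute (r := 42) (s := 29) (by decide) _ _)
    (f4m_commW_commute (r := 42) (s := 41) (by decide) _ _)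
    (f4m_commW_commute (r := 42) (s := 33) (by decide) _ _)
    (f4m_commW_commute (r := 42) (s := 24) (by decide) _ _)]
  rw [map_zero, fx_zero, fx_zero, one_mul, one_mul, zero_mul, zero_add, f4Th_succ_f4Th hm, map_mul]

/-- every element `x₃₆(w) x₄₂(θ' w)` of the centre of `U_2` is a commutator of an element of `U_4` and an element of `U_1`
(this gives `OctRoots.W_le` for `b = 0`). -/
theorem f4m_commW_W_mem [Finite K] (w : K) (g : ↥(twistedF4 K (2 ^ m)))
    (hg : (g : GL chevF4.Idx K) = (f4mQ2 K).xS m 0 w) : g ∈ ⁅f4mUs hm 3, f4mUs hm 0⁆ := by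
  have hy : (f4mQ4 K).xS m 1 0 ∈ f4mUk hm 3 := (mem_f4mUk_3 hm).mpr ⟨1, 0, rfl⟩
  have hx : xP 33 24 m (f4Th K (m + 1) w) ∈ f4mUk hm 0 := (mem_f4mUk_0 hm).mpr ⟨_, rfl⟩
  have hy' := f4m_U_le_twisted hm 3 (by norm_num) hy
  have hx' := f4m_U_le_twisted hm 0 (by norm_num) hx
  have hg' : g = ⁅(⟨_, hy'⟩ : ↥(twistedF4 K (2 ^ m))), ⟨_, hx'⟩⁆ := by
    apply Subtype.ext
    rw [hg, commutatorElement_def]
    simp only [Subgroup.coe_mul, Subgroup.coe_inv]
    rw [← commutatorElement_def, f4m_commW_comm_elt hm, mul_one, f4Th_f4Th_succ hm]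
  rw [hg']
  exact Subgroup.commutator_mem_commutator ((mem_f4mUs hm).mpr hy) ((mem_f4mUs hm).mpr hx)

end Cfsg.Agent.F4M
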