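import Mathlib
import Cfsg.Agent.F4M.OctDefs
import Cfsg.Agent.CtRecT.TAmbA
import Cfsg.Agent.CtRecT.TPL
import Cfsg.Agent.Helper7.ChevF4q

set_option autoImplicit false
set_option linter.unusedSectionVars false
set_option linter.unusedVariables false

/-!
# S2114: the concrete data of `²F₄(q)` for Part II (architect helper9)

`F4G K m = ↥(twistedF4 K (2^m))`.  Class `a` (type `SL₂`, roots 33, 24): the rank-one system `f4mSa` = images of the unitriangular matrices
under helper7's `f4Phi : SL₂(K) →* GL`; `n_a = f4N1`.  Class `b` (Suzuki type, roots 27, 25, 28, 30): `X_b = {quadPos.xS t u}`,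
`Y_b = {quadNeg.xS t u}`, `n_b = f4N2 = xS⁺(1,0) · xS⁻(0,1) · xS⁺(1,1)` (helper7 `f4N2_eq`).  Torus `h(s,u) = gh4 (s,u)`; `T_a = {h(s,1)}`,
`T_c = {h(1,u)}` (cyclic), `T_b = H¹ ⊓ L_b` (`≤ T_c`).  `f4mD : OctDat (F4G K m)`.
-/

namespace Cfsg.Agent.F4M

open Cfsg Cfsg.Lie Cfsg.Agent.Helper7.Chev Cfsg.Agent.CtRecM Cfsg.Agent.CtRecT

variable {K : Type*} [Field K] [CharP K 2] {m : ℕ}

/-- the group `²F₄(q)`. -/
abbrev F4G (K : Type*) [Field K] (m : ℕ) : Type _ := ↥(twistedF4 K (2 ^ m))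

/-- the rank-one system of the class `a`. -/
noncomputable def f4mSa (K : Type*) [Field K] [CharP K 2] (m : ℕ) : Rk1 K (F4G K m) where
  xp t := ⟨f4Phi K m (upperSL t), f4Phi_mem _⟩
  xm t := ⟨f4Phi K m (lowerSL t), f4Phi_mem _⟩
  xp_add t u := by
    apply Subtype.ext
    change f4Phi K m (upperSL t) * f4Phi K m (upperSL u) = f4Phi K m (upperSL (t + u))
    rw [← map_mul, ta_upperSL_mul]
  xm_add t u := by
    apply Subtype.ext
    change f4Phi K m (lowerSL t) * f4Phi K m (lowerSL u) = f4Phi K m (lowerSL (t + u))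
    rw [← map_mul, ta_lowerSL_mul]
  conj_xp t ht u := by
    apply Subtype.ext
    change (f4Phi K m (upperSL t) * f4Phi K m (lowerSL (-t⁻¹)) * f4Phi K m (upperSL t)) *
      f4Phi K m (upperSL u) *
      (f4Phi K m (upperSL t) * f4Phi K m (lowerSL (-t⁻¹)) * f4Phi K m (upperSL t))⁻¹ =
      f4Phi K m (lowerSL (-(t ^ 2)⁻¹ * u))
    exact ta_hom_conj (f4Phi K m) ht u

theorem f4mSa_xp_coe (t : K) : (((f4mSa K m).xp t : F4G K m) : GL chevF4.Idx K) = xP 33 24 m t := f4Phi_upper t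

theorem f4mSa_xm_coe (t : K) : (((f4mSa K m).xm t : F4G K m) : GL chevF4.Idx K) = xP 14 23 m t := f4Phi_lower t

section tau

variable (hm : ∀ t : K, t ^ 2 ^ (2 * m + 1) = t)

/-- the torus `h(s,u)` as a homomorphism into `²F₄(q)`. -/
noncomputable def f4mH : Kˣ × Kˣ →* F4G K m :=
  (gh4 K m).codRestrict (twistedF4 K (2 ^ m)) (gh4_mem_twisted hm)

theorem f4mH_coe (p : Kˣ × Kˣ) : ((f4mH hm p : F4G K m) : GL chevF4.Idx K) = gh4 K m p := rfl

/-- the full torus `H¹`. -/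
noncomputable def f4mHs : Subgroup (F4G K m) := (f4mH hm).range

/-- the torus `{h(s,1)}` of the class `a`. -/
noncomputable def f4mTa : Subgroup (F4G K m) := (Subgroup.prod ⊤ ⊥).map (f4mH hm)

/-- the cyclic torus `{h(1,u)}`. -/
noncomputable def f4mTc : Subgroup (F4G K m) := (Subgroup.prod ⊥ ⊤).map (f4mH hm)

/-- the positive root group of the class `b`. -/
noncomputable def f4mXb : Subgroup (F4G K m) := ((f4Cls2 hm).X).subgroupOf (twistedF4 K (2 ^ m))

/-- the Weyl element `n_b` in `²F₄(q)`. -/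
noncomputable def f4mNb (K : Type*) [Field K] [CharP K 2] (m : ℕ) : F4G K m := ⟨f4N2 K, f4N2_mem_twisted⟩

/-- the Weyl element `n_a` in `²F₄(q)`. -/
noncomputable def f4mNa (K : Type*) [Field K] [CharP K 2] (m : ℕ) : F4G K m := ⟨f4N1 K, f4N1_mem_twisted⟩

/-- the negative root group of the class `b`: `n_b X_b n_b⁻¹` (`= {quadNeg.xS t u}`). -/
noncomputable def f4mYb : Subgroup (F4G K m) := (f4mXb hm).map (MulAut.conj (f4mNb K m)).toMonoidHom

/-- the rank-one group of the class `b`. -/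
noncomputable def f4mLb : Subgroup (F4G K m) := f4mXb hm ⊔ f4mYb hm

/-- the torus of the class `b`. -/
noncomputable def f4mTb : Subgroup (F4G K m) := f4mHs hm ⊓ f4mLb hm

/-- the unipotent group `U¹`. -/
noncomputable def f4mU (K : Type*) [Field K] (m : ℕ) : Subgroup (F4G K m) :=
  (chevF4.posUnipotent K).subgroupOf (twistedF4 K (2 ^ m))

/-- the complement of `X_a` in `U¹`. -/
noncomputable def f4mUa : Subgroup (F4G K m) :=
  (Subgroup.closure (upGenS chevF4 K (f4Cls1 hm).P)).subgroupOf (twistedF4 K (2 ^ m))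

/-- the complement of `X_b` in `U¹`. -/
noncomputable def f4mUb : Subgroup (F4G K m) :=
  (Subgroup.closure (upGenS chevF4 K (f4Cls2 hm).P)).subgroupOf (twistedF4 K (2 ^ m))

/-- the rank-one datum of the class `a`: `n = x_a(1) x_{-a}(-1) x_a(1)`. -/
noncomputable def f4mRa : R1 (F4G K m) where
  X := rk1Xp (f4mSa K m)
  Y := rk1Xm (f4mSa K m)
  T := f4mTa hm
  x₁ := (f4mSa K m).xp 1
  y₀ := (f4mSa K m).xm (-1)
  x₂ := (f4mSa K m).xp 1

/-- the rank-one datum of the class `b`: `n = xS⁺(1,0) xS⁻(0,1) xS⁺(1,1) = n_b`. -/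
noncomputable def f4mRb : R1 (F4G K m) where
  X := f4mXb hm
  Y := f4mYb hm
  T := f4mTb hm
  x₁ := ⟨(quadPos K).xS m 1 0, xS_pos_mem_twisted 1 0⟩
  y₀ := ⟨(quadNeg K).xS m 0 1, xS_neg_mem_twisted 0 1⟩
  x₂ := ⟨(quadPos K).xS m 1 1, xS_pos_mem_twisted 1 1⟩

/-- the data of the octagon `BN`-lifting for `²F₄(q)`. -/
noncomputable def f4mD : OctDat (F4G K m) where
  U := f4mU K m
  Ua := f4mUa hm
  Ub := f4mUb hm
  Ra := f4mRa hm
  Rb := f4mRb hm

theorem f4mRb_n : (f4mRb hm).n = f4mNb K m := by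
  apply Subtype.ext
  change (quadPos K).xS m 1 0 * (quadNeg K).xS m 0 1 * (quadPos K).xS m 1 1 = f4N2 K
  exact (f4N2_eq (m := m)).symm

theorem f4mRa_n : (f4mRa hm).n = (f4mSa K m).w 1 := by
  unfold R1.n Rk1.w f4mRa
  simp only [inv_one]

end tau

end Cfsg.Agent.F4M
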