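import Mathlib
import Cfsg.Agent.F4M.ConcDefs
import Cfsg.Agent.Helper7.F4AutD

set_option autoImplicit false
set_option linter.unusedSectionVars false
set_option linter.unusedVariables false

/-!
# S2114, package C4a: the class `a` (type `SL₂`) of `²F₄(q)`

The rank-one system `f4mSa` is the image of the unitriangular matrices of `SL₂(K)` under helper7's `f4Phi`.  All the
identities are the abstract `Rk1` identities of `CtRecM/OmR1.lean`; the two injectivity facts come from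
`xaS_injective` and `f4PhiS_upper_lower` (`F4AutD`).
-/

namespace Cfsg.Agent.F4M

open Cfsg Cfsg.Lie Cfsg.Agent.Helper7.Chev Cfsg.Agent.CtRecM Cfsg.Agent.CtRecT

variable {K : Type*} [Field K] [CharP K 2] {m : ℕ} (hm : ∀ t : K, t ^ 2 ^ (2 * m + 1) = t)

theorem f4m_concA_xp_eq (t : K) : (f4mSa K m).xp t = f4PhiS K m (upperSL t) := rfl

theorem f4m_concA_xm_eq (t : K) : (f4mSa K m).xm t = f4PhiS K m (lowerSL t) := rfl

theorem f4m_concA_xp_inj {t t' : K} (h : (f4mSa K m).xp t = (f4mSa K m).xp t') : t = t' := by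
  rw [f4m_concA_xp_eq, f4m_concA_xp_eq, f4PhiS_upper, f4PhiS_upper] at h
  exact xaS_injective h

theorem f4m_concA_xp_ne_xm {x y : K} (h : (f4mSa K m).xp x = (f4mSa K m).xm y) : x = 0 ∧ y = 0 :=
  f4PhiS_upper_lower x y h

theorem f4m_concA_w_eq (t : K) :
    (f4mSa K m).w t = f4PhiS K m (upperSL t * lowerSL (-t⁻¹) * upperSL t) := by
  unfold Rk1.w
  rw [map_mul, map_mul]
  rfl

/-- `w(t) w(-1) = diag(t, t⁻¹)` in `SL₂`. -/
theorem f4m_concA_sl2_h {t : K} (ht : t ≠ 0) :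
    (upperSL t * lowerSL (-t⁻¹) * upperSL t) * (upperSL (-1 : K) * lowerSL (-(-1 : K)⁻¹) * upperSL (-1 : K)) =
      diagSL t ht := by
  apply Subtype.ext
  rw [Matrix.SpecialLinearGroup.coe_mul, ta_w_val ht, ta_w_val (neg_ne_zero.mpr (one_ne_zero : (1 : K) ≠ 0))]
  change !![0, t; -t⁻¹, 0] * !![0, (-1 : K); -(-1 : K)⁻¹, 0] = !![t, 0; 0, t⁻¹]
  ext i j
  fin_cases i <;> fin_cases j <;> simp [Matrix.mul_apply, Fin.sum_univ_two]

/-- `w(1) = antiSL` in `SL₂`. -/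
theorem f4m_concA_sl2_anti :
    (upperSL (1 : K) * lowerSL (-(1 : K)⁻¹) * upperSL (1 : K)) = antiSL := by
  apply Subtype.ext
  rw [ta_w_val (one_ne_zero : (1 : K) ≠ 0)]
  change !![0, (1 : K); -(1 : K)⁻¹, 0] = !![0, 1; -1, 0]
  ext i j
  fin_cases i <;> fin_cases j <;> simp

theorem f4m_concA_h_eq {t : K} (ht : t ≠ 0) : (f4mSa K m).h t = f4PhiS K m (diagSL t ht) := by
  unfold Rk1.h
  rw [f4m_concA_w_eq, f4m_concA_w_eq, ← map_mul, f4m_concA_sl2_h ht]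

/-- the `B`-part of the image of `SL₂` meets `1` trivially (`f4Phi` is injective). -/
theorem f4m_concA_hB (u t : K) (ht : t ≠ 0) (h : (f4mSa K m).xp u * (f4mSa K m).h t = 1) : u = 0 ∧ t = 1 := by
  obtain ⟨S, hS⟩ : ∃ S : Rk1 K (F4G K m), S = f4mSa K m := ⟨_, rfl⟩
  rw [← hS] at h
  have hh : S.h t = S.xp (-u) := by
    rw [← S.xp_inv]
    exact eq_inv_of_mul_eq_one_right h
  have c := S.h_conj_xp ht 1
  rw [hh, S.xp_inv, S.xp_add, S.xp_add] at c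
  have e1 : -u + 1 + - -u = 1 := by ring
  rw [e1, hS] at c
  have ht2 : t ^ 2 * 1 = 1 := (f4m_concA_xp_inj c).symm
  have h2 : (2 : K) = 0 := by exact_mod_cast CharP.cast_eq_zero K 2
  have hsq : (t - 1) ^ 2 = 0 := by linear_combination ht2 + (1 - t) * h2
  have ht1 : t = 1 := by
    have := pow_eq_zero_iff (two_ne_zero) |>.mp hsq
    exact sub_eq_zero.mp this
  refine ⟨?_, ht1⟩
  rw [ht1, S.h_one, mul_one, ← S.xp_zero, hS] at h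
  exact f4m_concA_xp_inj h

/-- the big cell of the image of `SL₂` does not contain `1`. -/
theorem f4m_concA_hW (u t v : K) (ht : t ≠ 0) :
    (f4mSa K m).xp u * (f4mSa K m).h t * (f4mSa K m).w 1 * (f4mSa K m).xp v ≠ 1 := by
  intro e
  obtain ⟨S, hS⟩ : ∃ S : Rk1 K (F4G K m), S = f4mSa K m := ⟨_, rfl⟩
  rw [← hS] at e
  have hw : S.w 1 = (S.h t)⁻¹ * (S.xp (-u) * S.xp (-v)) := by
    rw [← S.xp_inv, ← S.xp_inv]
    calc S.w 1 = (S.h t)⁻¹ * ((S.xp u)⁻¹ * (S.xp u * S.h t * S.w 1 * S.xp v) * (S.xp v)⁻¹) := by group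
      _ = _ := by rw [e]; group
  have c1 := S.w_conj_xp (one_ne_zero : (1 : K) ≠ 0) 1
  have c2 := S.h_conj_xp ht ((t ^ 2)⁻¹)
  rw [mul_inv_cancel₀ (pow_ne_zero 2 ht)] at c2
  have c3 : S.xp (-u) * S.xp (-v) * S.xp 1 * (S.xp (-u) * S.xp (-v))⁻¹ = S.xp 1 := by
    rw [S.xp_add, S.xp_inv, S.xp_add, S.xp_add]
    congr 1
    ring
  have c4 : S.xm (-(1 ^ 2)⁻¹ * 1) = S.xp ((t ^ 2)⁻¹) := by
    rw [← c1, hw]
    calc (S.h t)⁻¹ * (S.xp (-u) * S.xp (-v)) * S.xp 1 * ((S.h t)⁻¹ * (S.xp (-u) * S.xp (-v)))⁻¹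
        = (S.h t)⁻¹ * (S.xp (-u) * S.xp (-v) * S.xp 1 * (S.xp (-u) * S.xp (-v))⁻¹) * S.h t := by group
      _ = (S.h t)⁻¹ * (S.h t * S.xp (t ^ 2)⁻¹ * (S.h t)⁻¹) * S.h t := by rw [c3, c2]
      _ = _ := by group
  rw [hS] at c4
  have := (f4m_concA_xp_ne_xm c4.symm).1
  exact inv_ne_zero (pow_ne_zero 2 ht) this

/-- `h_a(t) = h(t,1)`. -/
theorem f4m_concA_h (t : Kˣ) : (f4mSa K m).h (t : K) = f4mH hm (t, 1) := by
  rw [f4m_concA_h_eq t.ne_zero]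
  apply Subtype.ext
  rw [f4PhiS_diag_coe, f4mH_coe]

/-- `n_a = f4N1`. -/
theorem f4m_concA_n : (f4mRa hm).n = f4mNa K m := by
  rw [f4mRa_n, f4m_concA_w_eq, f4m_concA_sl2_anti]
  apply Subtype.ext
  rw [f4PhiS_coe, f4Phi_anti]
  rfl

theorem f4m_concA_mem_Ta (g : F4G K m) : g ∈ f4mTa hm ↔ ∃ s : Kˣ, g = (f4mSa K m).h (s : K) := by
  unfold f4mTa
  rw [Subgroup.mem_map]
  constructor
  · rintro ⟨⟨s, u⟩, hp, rfl⟩
    rw [Subgroup.mem_prod] at hp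
    have hu : u = 1 := Subgroup.mem_bot.mp hp.2
    refine ⟨s, ?_⟩
    rw [f4m_concA_h hm, hu]
  · rintro ⟨s, rfl⟩
    refine ⟨(s, 1), ?_, (f4m_concA_h hm s).symm⟩
    rw [Subgroup.mem_prod]
    exact ⟨Subgroup.mem_top _, Subgroup.mem_bot.mpr rfl⟩

/-- the rank-one axioms of the class `a`. -/
theorem f4m_concA_ok : (f4mRa hm).Ok := by
  obtain ⟨S, hS⟩ : ∃ S : Rk1 K (F4G K m), S = f4mSa K m := ⟨_, rfl⟩
  have hn : (f4mRa hm).n = S.w 1 := by rw [f4mRa_n, hS]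
  have hX : ∀ g, g ∈ (f4mRa hm).X ↔ ∃ t, g = S.xp t := by
    intro g
    rw [hS]
    constructor
    · rintro ⟨t, rfl⟩; exact ⟨t, rfl⟩
    · rintro ⟨t, rfl⟩; exact ⟨t, rfl⟩
  have hY : ∀ g, g ∈ (f4mRa hm).Y ↔ ∃ t, g = S.xm t := by
    intro g
    rw [hS]
    constructor
    · rintro ⟨t, rfl⟩; exact ⟨t, rfl⟩
    · rintro ⟨t, rfl⟩; exact ⟨t, rfl⟩
  have hT : ∀ g, g ∈ (f4mRa hm).T ↔ ∃ s : Kˣ, g = S.h (s : K) := by
    intro g
    rw [hS]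
    exact f4m_concA_mem_Ta hm g
  have hXL : ∀ t, S.xp t ∈ (f4mRa hm).L := fun t => Subgroup.mem_sup_left ((hX _).mpr ⟨t, rfl⟩)
  have hYL : ∀ t, S.xm t ∈ (f4mRa hm).L := fun t => Subgroup.mem_sup_right ((hY _).mpr ⟨t, rfl⟩)
  have hwL : ∀ t, S.w t ∈ (f4mRa hm).L := fun t => mul_mem (mul_mem (hXL _) (hYL _)) (hXL _)
  refine ⟨?_, ?_, ?_, ?_, ?_, ?_, ?_, ?_, ?_⟩
  · exact (hX _).mpr ⟨1, by rw [hS]; rfl⟩
  · exact (hY _).mpr ⟨-1, by rw [hS]; rfl⟩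
  · exact (hX _).mpr ⟨1, by rw [hS]; rfl⟩
  · intro x hx
    obtain ⟨u, rfl⟩ := (hX x).mp hx
    rw [hn, S.w_conj_xp one_ne_zero]
    exact (hY _).mpr ⟨_, rfl⟩
  · intro y hy
    obtain ⟨u, rfl⟩ := (hY y).mp hy
    rw [hn, S.w_conj_xm one_ne_zero]
    exact (hX _).mpr ⟨_, rfl⟩
  · rw [hn]
    have e : S.w 1 * S.w 1 = 1 := by
      have h1 := S.w_inv 1
      rw [CharTwo.neg_eq] at h1
      calc S.w 1 * S.w 1 = S.w 1 * (S.w 1)⁻¹ := by rw [h1]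
        _ = 1 := mul_inv_cancel _
    rw [e]
    exact one_mem _
  · intro g hg
    obtain ⟨s, rfl⟩ := (hT g).mp hg
    exact mul_mem (hwL _) (hwL _)
  · intro g hg
    obtain ⟨s, rfl⟩ := (hT g).mp hg
    rw [hn, S.w_one_conj_h s.ne_zero]
    exact (hT _).mpr ⟨s⁻¹, by rw [Units.val_inv_eq_inv_val]⟩
  · intro x hx hx1
    obtain ⟨c, rfl⟩ := (hX x).mp hx
    have hc : c ≠ 0 := by
      rintro rfl
      exact hx1 S.xp_zero
    have hc' : -(1 ^ 2)⁻¹ * c ≠ 0 := by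
      rw [one_pow, inv_one]
      exact mul_ne_zero (neg_ne_zero.mpr one_ne_zero) hc
    obtain ⟨d, hd⟩ : ∃ d : K, d = -(1 ^ 2)⁻¹ * c := ⟨_, rfl⟩
    rw [← hd] at hc'
    have hd' : -d⁻¹ ≠ 0 := neg_ne_zero.mpr (inv_ne_zero hc')
    refine ⟨S.xp d⁻¹, (hX _).mpr ⟨_, rfl⟩, S.h (-d⁻¹), (hT _).mpr ⟨Units.mk0 _ hd', rfl⟩,
      S.xp d⁻¹, (hX _).mpr ⟨_, rfl⟩, ?_⟩
    rw [hn, S.w_conj_xp one_ne_zero, ← hd, S.xm_eq hc', mul_assoc (S.xp d⁻¹) (S.h (-d⁻¹)), S.h_mul_w_one]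

end Cfsg.Agent.F4M
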