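import Mathlib
import Cfsg.Agent.F4M.ConcDefs
import Cfsg.Agent.Helper7.F4InvE

set_option autoImplicit false
set_option linter.unusedSectionVars false
set_option linter.unusedVariables false

/-!
# S2114, package C4c2: the "Weyl group" global conditions of the octagon datum of `²F₄(q)` (`braid_*`, `cox`, `dich_*`)

`n_a = f4N1`, `n_b = f4N2` are the elements of `N` of the words `[0, 3]`, `[2, 1, 2, 1]`; everything is a computation in the Weyl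
group of `F₄` (helper7's `fastF4`), plus helper7's `FCls.pos_of_word`, `FCls.pos_of_word_neg` for the dichotomy.
-/

namespace Cfsg.Agent.F4M

open Cfsg Cfsg.Lie Cfsg.Agent.Helper7.Chev Cfsg.Agent.CtRecM Cfsg.Agent.CtRecT

variable {K : Type*} [Field K] [CharP K 2] {m : ℕ} (hm : ∀ t : K, t ^ 2 ^ (2 * m + 1) = t)

/-! ### generalities -/

include hm in
/-- the field is finite. -/
theorem f4m_concO2_finite : Finite K := by
  classical
  have h1 : 1 < 2 ^ (2 * m + 1) := Nat.one_lt_two_pow (by omega)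
  have hp : (Polynomial.X ^ 2 ^ (2 * m + 1) - Polynomial.X : Polynomial K) ≠ 0 :=
    FiniteField.X_pow_card_sub_X_ne_zero K h1
  have hfin := Polynomial.finite_setOfPred_isRoot hp
  have huniv : (Set.univ : Set K) ⊆ {x | Polynomial.IsRoot (Polynomial.X ^ 2 ^ (2 * m + 1) - Polynomial.X : Polynomial K) x} := by
    intro x _
    simp only [Set.mem_ofPred_eq, Polynomial.IsRoot.def, Polynomial.eval_sub, Polynomial.eval_pow, Polynomial.eval_X]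
    rw [hm x, sub_self]
  exact Set.finite_univ_iff.mp (hfin.subset huniv)

/-- `n_a` as a matrix. -/
theorem f4m_concO2_na : (((f4mRa hm).n : F4G K m) : GL chevF4.Idx K) = f4N1 K := by
  change f4Phi K m (upperSL 1) * f4Phi K m (lowerSL (-1)) * f4Phi K m (upperSL 1) = f4N1 K
  rw [← map_mul, ← map_mul, ← antiSL_eq, f4Phi_anti]

/-- `n_b` as a matrix. -/
theorem f4m_concO2_nb : (((f4mRb hm).n : F4G K m) : GL chevF4.Idx K) = f4N2 K := by
  rw [f4mRb_n]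
  rfl

/-- the torus `H = T_a T_b` lies in `H¹`. -/
theorem f4m_concO2_H_le : (f4mD hm).H ≤ f4mHs hm := by
  change f4mTa hm ⊔ f4mTb hm ≤ f4mHs hm
  refine sup_le ?_ inf_le_left
  unfold f4mTa f4mHs
  exact Subgroup.map_le_range _ _

/-- the elements of `H` are diagonal. -/
theorem f4m_concO2_H_diag {h : F4G K m} (hh : h ∈ (f4mD hm).H) :
    ((h : F4G K m) : GL chevF4.Idx K) ∈ chevF4.diagonalSubgroup K := by
  obtain ⟨p, rfl⟩ := f4m_concO2_H_le hm hh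
  rw [f4mH_coe]
  exact gh4_mem_diagonal p

/-- the elements of `N` are monomial. -/
theorem f4m_concO2_N_mono {n : F4G K m} (hn : n ∈ (f4mD hm).N) :
    ((n : F4G K m) : GL chevF4.Idx K) ∈ chevF4.monomialSubgroup K ⊓ twistedF4 K (2 ^ m) := by
  refine Subgroup.mem_inf.mpr ⟨?_, n.2⟩
  have hle : (f4mD hm).N ≤ (chevF4.monomialSubgroup K).subgroupOf (twistedF4 K (2 ^ m)) := by
    unfold OctDat.N
    rw [Subgroup.closure_le]
    rintro x (hx | hx | hx)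
    · exact Subgroup.mem_subgroupOf.mpr (le_sup_left (a := chevF4.diagonalSubgroup K) (f4m_concO2_H_diag hm hx))
    · rw [hx]
      refine Subgroup.mem_subgroupOf.mpr ?_
      change (((f4mRa hm).n : F4G K m) : GL chevF4.Idx K) ∈ _
      rw [f4m_concO2_na]
      exact f4N1_mem_mono
    · rw [Set.mem_singleton_iff] at hx
      rw [hx]
      refine Subgroup.mem_subgroupOf.mpr ?_
      change (((f4mRb hm).n : F4G K m) : GL chevF4.Idx K) ∈ _
      rw [f4m_concO2_nb]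
      exact f4N2_mem_mono
  exact Subgroup.mem_subgroupOf.mp (hle hn)

/-! ### the Coxeter relations -/

theorem f4m_concO2_wA_lt : ∀ i ∈ [0, 3], i < chevF4.rank := by decide

set_option maxRecDepth 1000000 in
theorem f4m_concO2_cox1_fast : ∀ k < 8, k ≠ 0 → fastF4.reflWord (f4W12 k) 33 ≠ 33 := by decide +kernel

set_option maxRecDepth 1000000 in
theorem f4m_concO2_cox2_fast : ∀ k < 8, fastF4.reflWord ([0, 3] ++ f4W12 k) 33 ≠ 33 ∨
    fastF4.reflWord ([0, 3] ++ f4W12 k) 27 ≠ 27 := by decide +kernel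

theorem f4m_concO2_pow_coe (k : ℕ) :
    ((((f4mD hm).Ra.n * (f4mD hm).Rb.n) ^ k : F4G K m) : GL chevF4.Idx K) = nWordGL good3_F4.toGood2 (f4W12 k) := by
  rw [Subgroup.coe_pow, Subgroup.coe_mul]
  change ((((f4mRa hm).n : F4G K m) : GL chevF4.Idx K) * (((f4mRb hm).n : F4G K m) : GL chevF4.Idx K)) ^ k = _
  rw [f4m_concO2_na, f4m_concO2_nb, f4N12_pow]

theorem f4m_concO2_cox : ∀ k : ℕ, k < 8 →
    (((f4mD hm).Ra.n * (f4mD hm).Rb.n) ^ k ∈ (f4mD hm).H → k = 0) ∧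
      (f4mD hm).Ra.n * ((f4mD hm).Ra.n * (f4mD hm).Rb.n) ^ k ∉ (f4mD hm).H := by
  intro k hk
  constructor
  · intro h
    by_contra hk0
    have hd := f4m_concO2_H_diag hm h
    rw [f4m_concO2_pow_coe] at hd
    have h1 := (f4_mem_diag_iff (f4W12_lt k)).mp hd 33 (by decide)
    rw [tab_F4] at h1
    exact f4m_concO2_cox1_fast k hk hk0 h1
  · intro h
    have hd := f4m_concO2_H_diag hm h
    rw [Subgroup.coe_mul, f4m_concO2_pow_coe] at hd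
    change (((f4mRa hm).n : F4G K m) : GL chevF4.Idx K) * _ ∈ _ at hd
    rw [f4m_concO2_na] at hd
    unfold f4N1 at hd
    rw [← nWordGL_append] at hd
    have hlt : ∀ i ∈ [0, 3] ++ f4W12 k, i < chevF4.rank := by
      intro i hi
      rcases List.mem_append.mp hi with hi | hi
      · exact f4m_concO2_wA_lt i hi
      · exact f4W12_lt k i hi
    have h1 := (f4_mem_diag_iff hlt).mp hd
    rw [tab_F4] at h1
    rcases f4m_concO2_cox2_fast k hk with h2 | h2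
    · exact h2 (h1 33 (by decide))
    · exact h2 (h1 27 (by decide))

/-! ### the dichotomy -/

theorem f4m_concO2_dich_a : ∀ n ∈ (f4mD hm).N, (∀ x ∈ (f4mD hm).Ra.X, n⁻¹ * x * n ∈ (f4mD hm).U) ∨
    (∀ x ∈ (f4mD hm).Ra.X, ((f4mD hm).Ra.n⁻¹ * n)⁻¹ * x * ((f4mD hm).Ra.n⁻¹ * n) ∈ (f4mD hm).U) := by
  intro n hn
  have hfin := f4m_concO2_finite hm
  obtain ⟨w, hw, h, hh, e⟩ := (f4_fWList hm).rep _ (f4m_concO2_N_mono hm hn)
  have hwl := (f4_fWList hm).lt w hw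
  have hXa : ∀ x ∈ (f4mD hm).Ra.X,
      ((x : F4G K m) : GL chevF4.Idx K) ∈ Subgroup.closure (rootGen chevF4 K (f4Cls1 hm).P) := by
    rintro _ ⟨t, rfl⟩
    apply (f4Cls1 hm).X_le
    rw [f4Cls1_X]
    exact (mem_XJ1_fix_iff hm).mpr ⟨t, f4mSa_xp_coe t⟩
  rcases (f4_fbnData hm).dich (f4Cls1 hm) (by unfold f4ClsList; simp) w hw with hpos | hneg
  · left
    intro x hx
    have h1 := (f4Cls1 hm).pos_of_word good3_F4.toGood2 T0_F4 T8_F4 hwl hpos hh.1 _ (hXa x hx)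
    rw [← e] at h1
    exact Subgroup.mem_subgroupOf.mpr h1
  · right
    intro x hx
    have h1 := (f4Cls1 hm).pos_of_word_neg good3_F4.toGood2 T0_F4 T8_F4 hwl hneg hh.1 _ (hXa x hx)
    rw [← e, f4N1_eq_word, ← f4m_concO2_na hm] at h1
    exact Subgroup.mem_subgroupOf.mpr h1

theorem f4m_concO2_dich_b : ∀ n ∈ (f4mD hm).N, (∀ x ∈ (f4mD hm).Rb.X, n⁻¹ * x * n ∈ (f4mD hm).U) ∨
    (∀ x ∈ (f4mD hm).Rb.X, ((f4mD hm).Rb.n⁻¹ * n)⁻¹ * x * ((f4mD hm).Rb.n⁻¹ * n) ∈ (f4mD hm).U) := by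
  intro n hn
  have hfin := f4m_concO2_finite hm
  obtain ⟨w, hw, h, hh, e⟩ := (f4_fWList hm).rep _ (f4m_concO2_N_mono hm hn)
  have hwl := (f4_fWList hm).lt w hw
  have hXb : ∀ x ∈ (f4mD hm).Rb.X,
      ((x : F4G K m) : GL chevF4.Idx K) ∈ Subgroup.closure (rootGen chevF4 K (f4Cls2 hm).P) := by
    intro x hx
    exact (f4Cls2 hm).X_le (Subgroup.mem_subgroupOf.mp hx)
  rcases (f4_fbnData hm).dich (f4Cls2 hm) (by unfold f4ClsList; simp) w hw with hpos | hneg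
  · left
    intro x hx
    have h1 := (f4Cls2 hm).pos_of_word good3_F4.toGood2 T0_F4 T8_F4 hwl hpos hh.1 _ (hXb x hx)
    rw [← e] at h1
    exact Subgroup.mem_subgroupOf.mpr h1
  · right
    intro x hx
    have h1 := (f4Cls2 hm).pos_of_word_neg good3_F4.toGood2 T0_F4 T8_F4 hwl hneg hh.1 _ (hXb x hx)
    rw [← e, f4N2_eq_word, ← f4m_concO2_nb hm] at h1
    exact Subgroup.mem_subgroupOf.mpr h1

/-! ### the braid relations: `w = n_b n_a n_b n_a n_b n_a n_b` centralizes the root groups `X_{±a}` -/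

/-- the word of `w = n_b n_a n_b n_a n_b n_a n_b`. -/
def f4m_concO2_W7 : List ℕ := [2, 1, 2, 1, 0, 3, 2, 1, 2, 1, 0, 3, 2, 1, 2, 1, 0, 3, 2, 1, 2, 1]

theorem f4m_concO2_W7_lt : ∀ i ∈ f4m_concO2_W7, i < chevF4.rank := by decide

set_option maxRecDepth 1000000 in
theorem f4m_concO2_W7_fast : fastF4.reflWord f4m_concO2_W7 33 = 33 ∧ fastF4.reflWord f4m_concO2_W7 24 = 24 ∧
    fastF4.reflWord f4m_concO2_W7 14 = 14 ∧ fastF4.reflWord f4m_concO2_W7 23 = 23 := by decide +kernel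

theorem f4m_concO2_w_coe :
    (((f4mD hm).w : F4G K m) : GL chevF4.Idx K) = nWordGL good3_F4.toGood2 f4m_concO2_W7 := by
  have ha := f4m_concO2_na hm
  have hb := f4m_concO2_nb hm
  change (((f4mRb hm).n * (f4mRa hm).n * (f4mRb hm).n * (f4mRa hm).n * (f4mRb hm).n * (f4mRa hm).n *
    (f4mRb hm).n : F4G K m) : GL chevF4.Idx K) = _
  simp only [Subgroup.coe_mul, ha, hb]
  unfold f4N1 f4N2 f4m_concO2_W7
  simp only [← nWordGL_append]
  rfl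

theorem f4m_concO2_w_xP (r rb : Fin 48) (h1 : fastF4.reflWord f4m_concO2_W7 r.val = r.val)
    (h2 : fastF4.reflWord f4m_concO2_W7 rb.val = rb.val) (t : K) :
    nWordGL good3_F4.toGood2 f4m_concO2_W7 * xP r rb m t * (nWordGL good3_F4.toGood2 f4m_concO2_W7)⁻¹ =
      xP r rb m t := by
  unfold xP
  rw [conj_mul2, conj_fx f4m_concO2_W7_lt r r h1, conj_fx f4m_concO2_W7_lt rb rb h2]

theorem f4m_concO2_w_xp (t : K) :
    (f4mD hm).w * (f4mSa K m).xp t * ((f4mD hm).w)⁻¹ = (f4mSa K m).xp t := by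
  apply Subtype.ext
  rw [Subgroup.coe_mul, Subgroup.coe_mul, Subgroup.coe_inv, f4m_concO2_w_coe, f4mSa_xp_coe]
  exact f4m_concO2_w_xP 33 24 f4m_concO2_W7_fast.1 f4m_concO2_W7_fast.2.1 t

theorem f4m_concO2_w_xm (t : K) :
    (f4mD hm).w * (f4mSa K m).xm t * ((f4mD hm).w)⁻¹ = (f4mSa K m).xm t := by
  apply Subtype.ext
  rw [Subgroup.coe_mul, Subgroup.coe_mul, Subgroup.coe_inv, f4m_concO2_w_coe, f4mSa_xm_coe]
  exact f4m_concO2_w_xP 14 23 f4m_concO2_W7_fast.2.2.1 f4m_concO2_W7_fast.2.2.2 t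

theorem f4m_concO2_w_na : (f4mD hm).w * (f4mD hm).Ra.n * ((f4mD hm).w)⁻¹ = (f4mD hm).Ra.n := by
  change (f4mD hm).w * ((f4mSa K m).xp 1 * (f4mSa K m).xm (-1) * (f4mSa K m).xp 1) * ((f4mD hm).w)⁻¹ =
    (f4mSa K m).xp 1 * (f4mSa K m).xm (-1) * (f4mSa K m).xp 1
  have e : ∀ a b c : F4G K m, (f4mD hm).w * (a * b * c) * ((f4mD hm).w)⁻¹ =
      ((f4mD hm).w * a * ((f4mD hm).w)⁻¹) * ((f4mD hm).w * b * ((f4mD hm).w)⁻¹) *
        ((f4mD hm).w * c * ((f4mD hm).w)⁻¹) := by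
    intro a b c
    group
  rw [e, f4m_concO2_w_xp, f4m_concO2_w_xm]

/-! ### the assembly -/

/-- the "Weyl group" global conditions: `braid_X`, `braid_Y`, `braid_n`, `cox`, `dich_a`, `dich_b`. -/
theorem f4m_concO2 (oka : (f4mRa hm).Ok) (okb : (f4mRb hm).Ok) (hTb : f4mTb hm ≤ f4mTc hm) :
    let D := f4mD hm
    ((∀ x ∈ D.Ra.X, D.w * x * D.w⁻¹ ∈ D.Ra.X) ∧ (∀ y ∈ D.Ra.Y, D.w * y * D.w⁻¹ ∈ D.Ra.Y) ∧
      D.w * D.Ra.n * D.w⁻¹ * D.Ra.n⁻¹ ∈ D.Ra.T) ∧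
    (∀ k : ℕ, k < 8 → ((D.Ra.n * D.Rb.n) ^ k ∈ D.H → k = 0) ∧ D.Ra.n * (D.Ra.n * D.Rb.n) ^ k ∉ D.H) ∧
    ((∀ n ∈ D.N, (∀ x ∈ D.Ra.X, n⁻¹ * x * n ∈ D.U) ∨ (∀ x ∈ D.Ra.X, (D.Ra.n⁻¹ * n)⁻¹ * x * (D.Ra.n⁻¹ * n) ∈ D.U)) ∧
      (∀ n ∈ D.N, (∀ x ∈ D.Rb.X, n⁻¹ * x * n ∈ D.U) ∨ (∀ x ∈ D.Rb.X, (D.Rb.n⁻¹ * n)⁻¹ * x * (D.Rb.n⁻¹ * n) ∈ D.U))) := by
  intro D
  refine ⟨⟨?_, ?_, ?_⟩, f4m_concO2_cox hm, f4m_concO2_dich_a hm, f4m_concO2_dich_b hm⟩
  · rintro _ ⟨t, rfl⟩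
    exact ⟨t, (f4m_concO2_w_xp hm t).symm⟩
  · rintro _ ⟨t, rfl⟩
    exact ⟨t, (f4m_concO2_w_xm hm t).symm⟩
  · rw [f4m_concO2_w_na, mul_inv_cancel]
    exact one_mem _

end Cfsg.Agent.F4M
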