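import Mathlib
import Cfsg.Agent.F4M.ConcDefs
import Cfsg.Agent.Helper7.F4AutE

set_option autoImplicit false
set_option linter.unusedSectionVars false
set_option linter.unusedVariables false

/-!
# S2114, package B3 (third part): the rank-one group `L_b = ⟨X_b, Y_b⟩` contains the cyclic torus `T_c` and is perfect
-/

namespace Cfsg.Agent.F4M

open Cfsg Cfsg.Lie Cfsg.Agent.Helper7 Cfsg.Agent.Helper7.Chev Cfsg.Agent.CtRecM Cfsg.Agent.CtRecT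
open scoped commutatorElement

variable {K : Type*} [Field K] [CharP K 2] {m : ℕ} (hm : ∀ t : K, t ^ 2 ^ (2 * m + 1) = t)

include hm in
theorem f4m_rho_xb_mul (t u t' u' : K) :
    xbS m t u * xbS m t' u' = xbS m (t + t') (u + u' + f4Th K m t * t') :=
  Subtype.ext (xS_mul hm t u t' u')

include hm in
theorem f4m_rho_xb_inv (t u : K) : (xbS m t u)⁻¹ = xbS m t (u + f4Th K m t * t) :=
  Subtype.ext (xS_inv hm t u)

theorem f4m_rho_xb_mem (t u : K) : xbS m t u ∈ f4mXb hm := by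
  unfold f4mXb
  rw [Subgroup.mem_subgroupOf]
  exact (mem_f4X2 hm).mpr ⟨t, u, rfl⟩

theorem f4m_rho_mem_Xb {g : F4G K m} (hg : g ∈ f4mXb hm) : ∃ t u : K, g = xbS m t u := by
  unfold f4mXb at hg
  rw [Subgroup.mem_subgroupOf] at hg
  obtain ⟨t, u, e⟩ := (mem_f4X2 hm).mp hg
  exact ⟨t, u, Subtype.ext e⟩

theorem f4m_rho_mem_Yb {g : F4G K m} (hg : g ∈ f4mYb hm) :
    ∃ t u : K, g = f4mNb K m * xbS m t u * (f4mNb K m)⁻¹ := by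
  obtain ⟨x, hx, rfl⟩ := hg
  obtain ⟨t, u, rfl⟩ := f4m_rho_mem_Xb hm hx
  exact ⟨t, u, rfl⟩

theorem f4m_rho_conj_mem_Yb {x : F4G K m} (hx : x ∈ f4mXb hm) :
    f4mNb K m * x * (f4mNb K m)⁻¹ ∈ f4mYb hm :=
  ⟨x, hx, rfl⟩

theorem f4m_rho_yb_mem (t u : K) :
    (⟨(quadNeg K).xS m t u, xS_neg_mem_twisted t u⟩ : F4G K m) ∈ f4mYb hm := by
  obtain ⟨t', u', e⟩ := (mem_f4Y2 hm).mp (xS_neg_mem_Y2 hm t u)
  have e' : (⟨(quadNeg K).xS m t u, xS_neg_mem_twisted t u⟩ : F4G K m) =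
      f4mNb K m * xbS m t' u' * (f4mNb K m)⁻¹ := Subtype.ext e
  rw [e']
  exact f4m_rho_conj_mem_Yb hm (f4m_rho_xb_mem hm t' u')

theorem f4m_rho_Xb_le : f4mXb hm ≤ (f4mRb hm).L := le_sup_left

theorem f4m_rho_Yb_le : f4mYb hm ≤ (f4mRb hm).L := le_sup_right

theorem f4m_rho_n_mem : f4mNb K m ∈ (f4mRb hm).L := by
  rw [← f4mRb_n hm]
  unfold R1.n
  refine mul_mem (mul_mem ?_ ?_) ?_
  · exact f4m_rho_Xb_le hm (f4m_rho_xb_mem hm 1 0)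
  · exact f4m_rho_Yb_le hm (f4m_rho_yb_mem hm 0 1)
  · exact f4m_rho_Xb_le hm (f4m_rho_xb_mem hm 1 1)

theorem f4m_rho_H_conj_xb (s u : Kˣ) (t v : K) :
    f4mH hm (s, u) * xbS m t v * (f4mH hm (s, u))⁻¹ =
      xbS m ((f4Th K m (u : K) ^ 2)⁻¹ * (u : K) ^ 2 * (s : K)⁻¹ * t)
        ((s : K)⁻¹ * (f4Th K m (s : K))⁻¹ * (u : K) * v) :=
  ghS4_conj_xbS hm s u t v

theorem f4m_rho_H_conj_Xb (p : Kˣ × Kˣ) {x : F4G K m} (hx : x ∈ f4mXb hm) :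
    f4mH hm p * x * (f4mH hm p)⁻¹ ∈ f4mXb hm := by
  obtain ⟨t, v, rfl⟩ := f4m_rho_mem_Xb hm hx
  obtain ⟨s, u⟩ := p
  rw [f4m_rho_H_conj_xb]
  exact f4m_rho_xb_mem hm _ _

theorem f4m_rho_cr_neg : (cr chevF4 20 0 = 0 ∧ cr chevF4 20 1 = -1 ∧ cr chevF4 20 2 = 0 ∧ cr chevF4 20 3 = 0) ∧
    (cr chevF4 22 0 = 0 ∧ cr chevF4 22 1 = 0 ∧ cr chevF4 22 2 = -1 ∧ cr chevF4 22 3 = 0) := by
  decide

theorem f4m_rho_fh_20 (c : Kˣ) : fh K 20 c = tF4 1 c⁻¹ 1 1 := by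
  rw [fh_eq_tF4]
  obtain ⟨⟨h0, h1, h2, h3⟩, _⟩ := f4m_rho_cr_neg
  change tF4 (c ^ cr chevF4 20 0) (c ^ cr chevF4 20 1) (c ^ cr chevF4 20 2) (c ^ cr chevF4 20 3) = _
  rw [h0, h1, h2, h3, zpow_zero, zpow_neg_one]

theorem f4m_rho_fh_22 (c : Kˣ) : fh K 22 c = tF4 1 1 c⁻¹ 1 := by
  rw [fh_eq_tF4]
  obtain ⟨_, ⟨h0, h1, h2, h3⟩⟩ := f4m_rho_cr_neg
  change tF4 (c ^ cr chevF4 22 0) (c ^ cr chevF4 22 1) (c ^ cr chevF4 22 2) (c ^ cr chevF4 22 3) = _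
  rw [h0, h1, h2, h3, zpow_zero, zpow_neg_one]

/-- `n_b` inverts the cyclic torus. -/
theorem f4m_rho_n_conj_h (u : Kˣ) :
    f4mNb K m * f4mH hm (1, u) * (f4mNb K m)⁻¹ = f4mH hm (1, u⁻¹) := by
  apply Subtype.ext
  change f4N2 K * gh4 K m (1, u) * (f4N2 K)⁻¹ = gh4 K m (1, u⁻¹)
  have e1 : gh4 K m (1, u) = fh K 27 (f4ThU K m u) * fh K 25 u := by
    rw [gh4_apply, fh_27, fh_25, tF4_mul, map_one]
    simp only [mul_one, one_mul]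
  rw [e1, ← mul_assoc, f4N2_mul_fh 27 _ 20 (by decide), mul_assoc (fh K 20 _),
    f4N2_mul_fh 25 _ 22 (by decide), ← mul_assoc, mul_inv_cancel_right, f4m_rho_fh_20, f4m_rho_fh_22,
    tF4_mul, gh4_apply, map_one, map_inv]
  simp only [mul_one, one_mul]

theorem f4m_rho_H_inv (u : Kˣ) : (f4mH hm (1, u))⁻¹ = f4mH hm (1, u⁻¹) := by
  rw [← map_inv, Prod.inv_mk, inv_one]

/-- the cyclic torus lies in `L_b`. -/
theorem f4m_rho_h_mem (u : Kˣ) : f4mH hm (1, u) ∈ (f4mRb hm).L := by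
  obtain ⟨v, hv⟩ : ∃ v : Kˣ, v * v = u := by
    refine ⟨u ^ 2 ^ (2 * m), ?_⟩
    apply Units.ext
    rw [Units.val_mul, Units.val_pow_eq_pow_val, ← pow_two, ← pow_mul, ← pow_succ]
    exact hm u
  obtain ⟨h, hh⟩ : ∃ h : F4G K m, h = f4mH hm (1, v) := ⟨_, rfl⟩
  obtain ⟨n, hn⟩ : ∃ n : F4G K m, n = f4mNb K m := ⟨_, rfl⟩
  have hnL : n ∈ (f4mRb hm).L := hn ▸ f4m_rho_n_mem hm
  have hinv : n * h * n⁻¹ = h⁻¹ := by
    rw [hh, hn, f4m_rho_n_conj_h, f4m_rho_H_inv]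
  have e2 : n * h⁻¹ * n⁻¹ = h := by
    have : n * h⁻¹ * n⁻¹ = (n * h * n⁻¹)⁻¹ := by group
    rw [this, hinv, inv_inv]
  have e : f4mH hm (1, u) = h * n * h⁻¹ * n⁻¹ := by
    have e1 : f4mH hm (1, u) = h * h := by
      rw [hh, ← map_mul, Prod.mk_mul_mk, one_mul, hv]
    calc f4mH hm (1, u) = h * (n * h⁻¹ * n⁻¹) := by rw [e2, e1]
      _ = h * n * h⁻¹ * n⁻¹ := by group
  rw [e]
  refine mul_mem ?_ (inv_mem hnL)
  -- `h n h⁻¹ ∈ L_b`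
  obtain ⟨t', u', ey⟩ := f4m_rho_mem_Yb hm (f4m_rho_yb_mem hm 0 1)
  have en : n = xbS m 1 0 * (n * xbS m t' u' * n⁻¹) * xbS m 1 1 := by
    rw [hn, ← ey, ← f4mRb_n hm]
    rfl
  have e3 : h * n * h⁻¹ = (h * xbS m 1 0 * h⁻¹) * (n * (h⁻¹ * xbS m t' u' * h⁻¹⁻¹) * n⁻¹) *
      (h * xbS m 1 1 * h⁻¹) := by
    have e4 : h * n = n * h⁻¹ := by
      calc h * n = (n * h⁻¹ * n⁻¹) * n := by rw [e2]
        _ = n * h⁻¹ := by group
    have e5 : n⁻¹ * h⁻¹ = h * n⁻¹ := by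
      have : n⁻¹ * h⁻¹ = (h * n)⁻¹ := by group
      rw [this, e4]
      group
    calc h * n * h⁻¹ = h * (xbS m 1 0 * (n * xbS m t' u' * n⁻¹) * xbS m 1 1) * h⁻¹ := by rw [← en]
      _ = (h * xbS m 1 0 * h⁻¹) * ((h * n) * xbS m t' u' * (n⁻¹ * h⁻¹)) * (h * xbS m 1 1 * h⁻¹) := by group
      _ = (h * xbS m 1 0 * h⁻¹) * ((n * h⁻¹) * xbS m t' u' * (h * n⁻¹)) * (h * xbS m 1 1 * h⁻¹) := by
        rw [e4, e5]
      _ = _ := by group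
  rw [e3]
  have hX : ∀ x ∈ f4mXb hm, h * x * h⁻¹ ∈ f4mXb hm := fun x hx => hh ▸ f4m_rho_H_conj_Xb hm _ hx
  have hX' : ∀ x ∈ f4mXb hm, h⁻¹ * x * h⁻¹⁻¹ ∈ f4mXb hm := by
    intro x hx
    rw [hh, f4m_rho_H_inv]
    exact f4m_rho_H_conj_Xb hm _ hx
  refine mul_mem (mul_mem ?_ ?_) ?_
  · exact f4m_rho_Xb_le hm (hX _ (f4m_rho_xb_mem hm 1 0))
  · rw [hn]
    exact f4m_rho_Yb_le hm (f4m_rho_conj_mem_Yb hm (hX' _ (f4m_rho_xb_mem hm t' u')))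
  · exact f4m_rho_Xb_le hm (hX _ (f4m_rho_xb_mem hm 1 1))

theorem f4m_rho_Tc_le : f4mTc hm ≤ (f4mRb hm).L := by
  rintro _ ⟨⟨s, u⟩, hp, rfl⟩
  have hs : s = 1 := by
    have := (Subgroup.mem_prod.mp hp).1
    exact Subgroup.mem_bot.mp this
  subst hs
  exact f4m_rho_h_mem hm u

/-- conjugation by an element of `L` preserves the commutator subgroup of `L`. -/
theorem f4m_rho_conj_comm {G : Type*} [Group G] (L : Subgroup G) {n c : G} (hn : n ∈ L) (hc : c ∈ ⁅L, L⁆) :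
    n * c * n⁻¹ ∈ ⁅L, L⁆ := by
  have hle : ⁅L, L⁆ ≤ L := by
    rw [Subgroup.commutator_le]
    intro a ha b hb
    rw [commutatorElement_def]
    exact mul_mem (mul_mem (mul_mem ha hb) (inv_mem ha)) (inv_mem hb)
  have e : n * c * n⁻¹ = ⁅n, c⁆ * c := by
    rw [commutatorElement_def]
    group
  rw [e]
  exact mul_mem (Subgroup.commutator_mem_commutator hn (hle hc)) hc

include hm in
theorem f4m_rho_th_ne {u : K} (h0 : u ≠ 0) (h1 : u ≠ 1) : f4Th K m u ≠ u := by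
  intro h
  have e1 : f4Th K (m + 1) (f4Th K m u) = u := f4Th_succ_f4Th hm u
  rw [h, f4Th_succ, h] at e1
  have : u * (u - 1) = 0 := by linear_combination e1
  rcases mul_eq_zero.mp this with h' | h'
  · exact h0 h'
  · exact h1 (sub_eq_zero.mp h')

/-- `X_b` lies in the commutator subgroup of `L_b`. -/
theorem f4m_rho_Xb_le_comm (hu : ∃ u : Kˣ, u ≠ 1) : f4mXb hm ≤ ⁅(f4mRb hm).L, (f4mRb hm).L⁆ := by
  obtain ⟨u, hu1⟩ := hu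
  have hne1 : (u : K) + 1 ≠ 0 := unit_add_one_ne_zero hu1
  have hth : f4Th K m (u : K) ≠ (u : K) :=
    f4m_rho_th_ne hm u.ne_zero (fun h => hu1 (Units.ext h))
  have hth0 : f4Th K m (u : K) ≠ 0 := fun h => u.ne_zero ((map_eq_zero _).mp h)
  have hne2 : (f4Th K m (u : K) ^ 2)⁻¹ * (u : K) ^ 2 + 1 ≠ 0 := by
    intro h
    apply hth
    have h2 : (u : K) ^ 2 + f4Th K m (u : K) ^ 2 = 0 := by
      have : f4Th K m (u : K) ^ 2 * ((f4Th K m (u : K) ^ 2)⁻¹ * (u : K) ^ 2 + 1) = 0 := by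
        rw [h, mul_zero]
      rw [mul_add, ← mul_assoc, mul_inv_cancel₀ (pow_ne_zero 2 hth0), one_mul, mul_one] at this
      exact this
    have h3 : ((u : K) + f4Th K m (u : K)) ^ 2 = 0 := by
      have := add_self_char2 ((u : K) * f4Th K m (u : K))
      linear_combination h2 + this
    have h4 : (u : K) + f4Th K m (u : K) = 0 := pow_eq_zero_iff (two_ne_zero) |>.mp h3
    have := add_self_char2 (f4Th K m (u : K))
    linear_combination this - h4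
  have hh : f4mH hm (1, u) ∈ (f4mRb hm).L := f4m_rho_h_mem hm u
  have hxL : ∀ t v : K, xbS m t v ∈ (f4mRb hm).L := fun t v => f4m_rho_Xb_le hm (f4m_rho_xb_mem hm t v)
  -- the centre
  have key1 : ∀ v₀ : K, xbS m 0 (((u : K) + 1) * v₀) ∈ ⁅(f4mRb hm).L, (f4mRb hm).L⁆ := by
    intro v₀
    have h := Subgroup.commutator_mem_commutator hh (hxL 0 v₀)
    rw [commutatorElement_def, f4m_rho_H_conj_xb, f4m_rho_xb_inv hm, f4m_rho_xb_mul hm] at h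
    convert h using 2
    · rw [mul_zero, add_zero]
    · simp only [mul_zero, add_zero, Units.val_one, map_one, inv_one]
      ring
  have cen : ∀ w : K, xbS m 0 w ∈ ⁅(f4mRb hm).L, (f4mRb hm).L⁆ := by
    intro w
    have := key1 (w / ((u : K) + 1))
    rwa [mul_div_cancel₀ _ hne1] at this
  have key2 : ∀ t₀ : K, ∃ v₁ : K,
      xbS m (((f4Th K m (u : K) ^ 2)⁻¹ * (u : K) ^ 2 + 1) * t₀) v₁ ∈ ⁅(f4mRb hm).L, (f4mRb hm).L⁆ := by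
    intro t₀
    have h := Subgroup.commutator_mem_commutator hh (hxL t₀ 0)
    rw [commutatorElement_def, f4m_rho_H_conj_xb, f4m_rho_xb_inv hm, f4m_rho_xb_mul hm] at h
    have e : (f4Th K m (u : K) ^ 2)⁻¹ * (u : K) ^ 2 * ((1 : Kˣ) : K)⁻¹ * t₀ + t₀ =
        ((f4Th K m (u : K) ^ 2)⁻¹ * (u : K) ^ 2 + 1) * t₀ := by
      rw [Units.val_one]
      ring
    rw [e] at h
    exact ⟨_, h⟩
  intro x hx
  obtain ⟨t, v, rfl⟩ := f4m_rho_mem_Xb hm hx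
  obtain ⟨v₁, h1⟩ := key2 (t / ((f4Th K m (u : K) ^ 2)⁻¹ * (u : K) ^ 2 + 1))
  rw [mul_div_cancel₀ _ hne2] at h1
  have h2 := mul_mem h1 (cen (v - v₁))
  rw [f4m_rho_xb_mul hm] at h2
  convert h2 using 2
  · rw [add_zero]
  · ring

/-- `L_b` is perfect. -/
theorem f4m_rho_L_le_comm (hu : ∃ u : Kˣ, u ≠ 1) : (f4mRb hm).L ≤ ⁅(f4mRb hm).L, (f4mRb hm).L⁆ := by
  have hX := f4m_rho_Xb_le_comm hm hu
  refine sup_le hX ?_
  intro y hy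
  obtain ⟨t, u, rfl⟩ := f4m_rho_mem_Yb hm hy
  exact f4m_rho_conj_comm _ (f4m_rho_n_mem hm) (hX (f4m_rho_xb_mem hm t u))

end Cfsg.Agent.F4M
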