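import Mathlib
import Cfsg.Agent.F4M.ConcDefs
import Cfsg.Agent.F4M.RhoPerf
import Cfsg.Agent.F4M.ConcOk2
import Cfsg.Agent.Helper7.ChevF4m

set_option autoImplicit false
set_option linter.unusedSectionVars false
set_option linter.unusedVariables false

/-!
# S2114, package C4b, the field `bruhat` of `(f4mRb hm).Ok` (backup by helper7)

`n_b x n_b⁻¹ = x' t n_b x''` with `x', x'' ∈ X_b`, `t ∈ T_b = H¹ ⊓ L_b` for `1 ≠ x ∈ X_b`: the rank one step `FCls.rank_one` of the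
`(B, N)`-pair gives `u h n_b u'` with `u, u' ∈ U¹`; the parts of `u` and `u'` in the unipotent radical `U_P` are collected to the left,
and `U_P` meets the Levi subgroup trivially.  Prefix `f4m_concBBr_`.
-/

namespace Cfsg.Agent.F4M

open Cfsg Cfsg.Lie Matrix Cfsg.Agent.Helper7.Chev

variable {K : Type*} [Field K] [CharP K 2] {m : ℕ} (hm : ∀ t : K, t ^ 2 ^ (2 * m + 1) = t)

theorem f4m_concBBr_fx_mem (r : Fin 48) (hr : r.val ∈ [17, 19, 20, 22, 25, 27, 28, 30]) (t : K) :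
    fx K r t ∈ chevF4.leviSubgroup K f4J2 := by
  unfold ChevalleyDatum.leviSubgroup
  apply Subgroup.mem_sup_right
  apply Subgroup.subset_closure
  exact ⟨r.val, t, (f4_inJ2_iff r.val).mpr hr, fx_coe r t⟩

theorem f4m_concBBr_xQ_pos (s t c d : K) : (quadPos K).xQ s t c d ∈ chevF4.leviSubgroup K f4J2 := by
  unfold B2Quad.xQ
  refine mul_mem (mul_mem (mul_mem ?_ ?_) ?_) ?_
  · exact f4m_concBBr_fx_mem 27 (by decide) _
  · exact f4m_concBBr_fx_mem 25 (by decide) _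
  · exact f4m_concBBr_fx_mem 28 (by decide) _
  · exact f4m_concBBr_fx_mem 30 (by decide) _

theorem f4m_concBBr_xQ_neg (s t c d : K) : (quadNeg K).xQ s t c d ∈ chevF4.leviSubgroup K f4J2 := by
  unfold B2Quad.xQ
  refine mul_mem (mul_mem (mul_mem ?_ ?_) ?_) ?_
  · exact f4m_concBBr_fx_mem 20 (by decide) _
  · exact f4m_concBBr_fx_mem 22 (by decide) _
  · exact f4m_concBBr_fx_mem 19 (by decide) _
  · exact f4m_concBBr_fx_mem 17 (by decide) _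

theorem f4m_concBBr_n_mem : f4N2 K ∈ chevF4.leviSubgroup K f4J2 := by
  rw [f4N2_eq (m := 0)]
  exact mul_mem (mul_mem (f4m_concBBr_xQ_pos _ _ _ _) (f4m_concBBr_xQ_neg _ _ _ _)) (f4m_concBBr_xQ_pos _ _ _ _)

include hm in
theorem f4m_concBBr_X_le : (f4Cls2 hm).X ≤ chevF4.leviSubgroup K f4J2 := by
  intro x hx
  rw [f4Cls2_X] at hx
  obtain ⟨t, u, rfl⟩ := (mem_XJ2_fix_iff hm).mp hx
  exact f4m_concBBr_xQ_pos _ _ _ _

include hm in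
/-- the rank one step of the class `b`, with the unipotent parts in `X_b`. -/
theorem f4m_concBBr_gl {x : GL chevF4.Idx K} (hx : x ∈ (f4Cls2 hm).X) (hx1 : x ≠ 1) :
    ∃ x₁ ∈ (f4Cls2 hm).X, ∃ h ∈ chevF4.diagonalSubgroup K ⊓ twistedF4 K (2 ^ m), ∃ x₂ ∈ (f4Cls2 hm).X,
      f4N2 K * x * (f4N2 K)⁻¹ = x₁ * h * f4N2 K * x₂ := by
  have : Finite K := f4m_concO2_finite hm
  have hc : f4Cls2 hm ∈ f4ClsList hm := by
    unfold f4ClsList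
    simp
  obtain ⟨u, hu, h, hh, u', hu', e⟩ := (f4Cls2 hm).rank_one good3_F4.toGood2 T0_F4 good3_F4.t3 good3_F4.t4
    T5_F4 T6_F4 T8_F4 T9_F4 (f4Tau_rootAut hm) (twistedF4_le_fixSub hm) (f4_posFix_le hm) (f4_fWList hm)
    (f4_fbnData hm) hc hx hx1
  rw [f4N2_eq_word] at e
  obtain ⟨v₁, hv₁, x₁, hx₁, rfl⟩ := (f4Cls2 hm).decomp u ⟨hu.1, (twistedF4_le_fixSub hm) hu.2⟩
  obtain ⟨a, ha, x₂, hx₂, rfl⟩ := (f4Cls2 hm).decomp u' ⟨hu'.1, (twistedF4_le_fixSub hm) hu'.2⟩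
  set UP : Subgroup (GL chevF4.Idx K) := Subgroup.closure (upGenS chevF4 K (f4Cls2 hm).P) with hUP
  -- normalizers of `U_P`
  have hnN : ∀ z ∈ UP, f4N2 K * z * (f4N2 K)⁻¹ ∈ UP := by
    intro z hz
    have := (f4Cls2 hm).n_norm
    rw [f4N2_eq_word] at this
    exact (Subgroup.mem_set_normalizer_iff.mp this z).mp hz
  have hnH : ∀ z ∈ UP, h * z * h⁻¹ ∈ UP := by
    intro z hz
    have key : chevF4.diagonalSubgroup K ≤ Subgroup.normalizer (UP : Set (GL chevF4.Idx K)) := by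
      rw [hUP, upGenS_eq_rootGen]
      exact diagonalSubgroup_le_normalizer good3_F4.toGood2 (fun r hr => hr.1.1)
    exact (Subgroup.mem_set_normalizer_iff.mp (key hh.1) z).mp hz
  have hnU : ∀ y ∈ chevF4.posUnipotent K, ∀ z ∈ UP, y * z * y⁻¹ ∈ UP := by
    intro y hy z hz
    have key : chevF4.posUnipotent K ≤ Subgroup.normalizer (UP : Set (GL chevF4.Idx K)) := by
      rw [hUP, f4Cls2_P, upGenS_InJPos]
      exact posUnipotent_le_normalizer_rad good3_F4.toGood2 T0_F4 good3_F4.t3 good3_F4.t4 T14_F4 f4J2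
    exact (Subgroup.mem_set_normalizer_iff.mp (key hy) z).mp hz
  have hx₁U : x₁ ∈ chevF4.posUnipotent K := (f4Cls2 hm).XP_le_pos good3_F4.toGood2 ((f4Cls2 hm).X_le hx₁)
  -- the element of `U_P`
  set v' : GL chevF4.Idx K := v₁ * (x₁ * (h * (f4N2 K * a * (f4N2 K)⁻¹) * h⁻¹) * x₁⁻¹) with hv'
  have hv'UP : v' ∈ UP := mul_mem hv₁ (hnU x₁ hx₁U _ (hnH _ (hnN a ha)))
  have e2 : f4N2 K * x * (f4N2 K)⁻¹ = v' * (x₁ * h * f4N2 K * x₂) := by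
    rw [e, hv']
    group
  -- the Levi subgroup
  have hXL := f4m_concBBr_X_le hm
  have hNL : f4N2 K ∈ chevF4.leviSubgroup K f4J2 := f4m_concBBr_n_mem
  have hhL : h ∈ chevF4.leviSubgroup K f4J2 := by
    unfold ChevalleyDatum.leviSubgroup
    exact Subgroup.mem_sup_left hh.1
  have hgL : f4N2 K * x * (f4N2 K)⁻¹ ∈ chevF4.leviSubgroup K f4J2 :=
    mul_mem (mul_mem hNL (hXL hx)) (inv_mem hNL)
  have hlL : x₁ * h * f4N2 K * x₂ ∈ chevF4.leviSubgroup K f4J2 :=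
    mul_mem (mul_mem (mul_mem (hXL hx₁) hhL) hNL) (hXL hx₂)
  have hv'L : v' ∈ chevF4.leviSubgroup K f4J2 := by
    have : v' = f4N2 K * x * (f4N2 K)⁻¹ * (x₁ * h * f4N2 K * x₂)⁻¹ := by rw [e2]; group
    rw [this]
    exact mul_mem hgL (inv_mem hlL)
  have hv'1 : v' = 1 := by
    have hmem : v' ∈ chevF4.unipotentRadical K f4J2 ⊓ chevF4.leviSubgroup K f4J2 := by
      refine Subgroup.mem_inf.mpr ⟨?_, hv'L⟩
      rw [unipotentRadical_eq, ← upGenS_InJPos, ← f4Cls2_P hm]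
      exact hv'UP
    rw [rad_inf_levi good3_F4.toGood2 T0_F4 T16_F4 f4J2, Subgroup.mem_bot] at hmem
    exact hmem
  refine ⟨x₁, hx₁, h, hh, x₂, hx₂, ?_⟩
  rw [e2, hv'1, one_mul]

include hm in
/-- **the field `bruhat` of `(f4mRb hm).Ok`.** -/
theorem f4m_concBBr_bruhat : ∀ x ∈ (f4mRb hm).X, x ≠ 1 → ∃ x' ∈ (f4mRb hm).X, ∃ t ∈ (f4mRb hm).T,
    ∃ x'' ∈ (f4mRb hm).X, (f4mRb hm).n * x * (f4mRb hm).n⁻¹ = x' * t * (f4mRb hm).n * x'' := by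
  intro x hx hx1
  rw [f4mRb_n hm]
  have hxX : (x : GL chevF4.Idx K) ∈ (f4Cls2 hm).X := Subgroup.mem_subgroupOf.mp hx
  have hx1' : (x : GL chevF4.Idx K) ≠ 1 := by
    intro h
    exact hx1 (Subtype.ext h)
  obtain ⟨x₁, hx₁, h, hh, x₂, hx₂, e⟩ := f4m_concBBr_gl hm hxX hx1'
  have hx₁G : x₁ ∈ twistedF4 K (2 ^ m) := (f4Cls2 hm).X_G1 hx₁
  have hx₂G : x₂ ∈ twistedF4 K (2 ^ m) := (f4Cls2 hm).X_G1 hx₂
  have hX₁ : (⟨x₁, hx₁G⟩ : F4G K m) ∈ (f4mRb hm).X := Subgroup.mem_subgroupOf.mpr hx₁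
  have hX₂ : (⟨x₂, hx₂G⟩ : F4G K m) ∈ (f4mRb hm).X := Subgroup.mem_subgroupOf.mpr hx₂
  have e' : f4mNb K m * x * (f4mNb K m)⁻¹ =
      (⟨x₁, hx₁G⟩ : F4G K m) * ⟨h, hh.2⟩ * f4mNb K m * ⟨x₂, hx₂G⟩ := Subtype.ext e
  refine ⟨⟨x₁, hx₁G⟩, hX₁, ⟨h, hh.2⟩, ?_, ⟨x₂, hx₂G⟩, hX₂, e'⟩
  -- `t ∈ T_b = H¹ ⊓ L_b`
  change (⟨h, hh.2⟩ : F4G K m) ∈ f4mHs hm ⊓ f4mLb hm
  refine Subgroup.mem_inf.mpr ⟨?_, ?_⟩
  · have hr : h ∈ (gh4 K m).range := by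
      rw [← f4H_eq_range hm]
      exact hh
    obtain ⟨p, hp⟩ := hr
    exact ⟨p, Subtype.ext hp⟩
  · have hn := f4m_rho_n_mem hm
    have hy : f4mNb K m * x * (f4mNb K m)⁻¹ ∈ (f4mRb hm).L :=
      f4m_rho_Yb_le hm (f4m_rho_conj_mem_Yb hm hx)
    have e3 : (⟨h, hh.2⟩ : F4G K m) = (⟨x₁, hx₁G⟩ : F4G K m)⁻¹ * (f4mNb K m * x * (f4mNb K m)⁻¹) *
        (⟨x₂, hx₂G⟩ : F4G K m)⁻¹ * (f4mNb K m)⁻¹ := by
      rw [e']
      group
    rw [e3]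
    exact mul_mem (mul_mem (mul_mem (inv_mem (f4m_rho_Xb_le hm hX₁)) hy) (inv_mem (f4m_rho_Xb_le hm hX₂)))
      (inv_mem hn)

end Cfsg.Agent.F4M
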