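import Mathlib
import Cfsg.Agent.F4M.ConcDefs

set_option autoImplicit false
set_option linter.unusedSectionVars false
set_option linter.unusedVariables false

/-!
# S2114 package C4c1: the "local" global axioms of `OctDat.Ok` for `²F₄(q)` (`f4m_concO1`)

Everything in `OctDat.Ok` for `f4mD hm` except `braid_*`, `cox`, `dich_*`: inclusions, `U = U_c X_c`, `n_c U_c n_c⁻¹ ≤ U`, the torus
normalizes `U`, `X_a`, `Y_a`, `X_b`, `Y_b`, the tori commute and meet trivially, `n_a T_b n_a⁻¹ ≤ T_a T_b`, `n_b T_a n_b⁻¹ ≤ T_b T_a`,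
`U ∩ H = 1`, `B ∩ N ≤ H`, generation.  Prefix `f4m_concO1_`.
-/

namespace Cfsg.Agent.F4M

open Cfsg Cfsg.Lie Cfsg.Agent.Helper7.Chev Cfsg.Agent.CtRecM Cfsg.Agent.CtRecT

variable {K : Type*} [Field K] [CharP K 2] {m : ℕ} (hm : ∀ t : K, t ^ 2 ^ (2 * m + 1) = t)

/-! ### membership lemmas -/

theorem f4m_concO1_mem_Hs (h : F4G K m) : h ∈ f4mHs hm ↔ ∃ p : Kˣ × Kˣ, (h : GL chevF4.Idx K) = gh4 K m p := by
  unfold f4mHs
  rw [MonoidHom.mem_range]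
  constructor
  · rintro ⟨p, rfl⟩
    exact ⟨p, rfl⟩
  · rintro ⟨p, hp⟩
    exact ⟨p, Subtype.ext hp.symm⟩

theorem f4m_concO1_Ta_le : f4mTa hm ≤ f4mHs hm := by
  unfold f4mTa f4mHs
  exact Subgroup.map_le_range _ _

theorem f4m_concO1_Tc_le : f4mTc hm ≤ f4mHs hm := by
  unfold f4mTc f4mHs
  exact Subgroup.map_le_range _ _

theorem f4m_concO1_H_le : (f4mD hm).H ≤ f4mHs hm := by
  unfold OctDat.H
  apply sup_le
  · exact f4m_concO1_Ta_le hm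
  · change f4mTb hm ≤ f4mHs hm
    unfold f4mTb
    exact inf_le_left

theorem f4m_concO1_mem_Ta (h : F4G K m) : h ∈ f4mTa hm ↔ ∃ s : Kˣ, (h : GL chevF4.Idx K) = gh4 K m (s, 1) := by
  unfold f4mTa
  rw [Subgroup.mem_map]
  constructor
  · rintro ⟨⟨s, u⟩, hp, rfl⟩
    rw [Subgroup.mem_prod] at hp
    have hu : u = 1 := Subgroup.mem_bot.mp hp.2
    subst hu
    exact ⟨s, rfl⟩
  · rintro ⟨s, hs⟩
    refine ⟨(s, 1), ?_, Subtype.ext hs.symm⟩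
    rw [Subgroup.mem_prod]
    exact ⟨Subgroup.mem_top _, Subgroup.mem_bot.mpr rfl⟩

theorem f4m_concO1_mem_Tc (h : F4G K m) : h ∈ f4mTc hm ↔ ∃ u : Kˣ, (h : GL chevF4.Idx K) = gh4 K m (1, u) := by
  unfold f4mTc
  rw [Subgroup.mem_map]
  constructor
  · rintro ⟨⟨s, u⟩, hp, rfl⟩
    rw [Subgroup.mem_prod] at hp
    have hs : s = 1 := Subgroup.mem_bot.mp hp.1
    subst hs
    exact ⟨u, rfl⟩
  · rintro ⟨u, hu⟩
    refine ⟨(1, u), ?_, Subtype.ext hu.symm⟩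
    rw [Subgroup.mem_prod]
    exact ⟨Subgroup.mem_bot.mpr rfl, Subgroup.mem_top _⟩

theorem f4m_concO1_mem_Xa (g : F4G K m) : g ∈ (f4mRa hm).X ↔ ∃ t : K, (g : GL chevF4.Idx K) = xP 33 24 m t := by
  change g ∈ rk1Xp (f4mSa K m) ↔ _
  constructor
  · rintro ⟨t, rfl⟩
    exact ⟨t, f4mSa_xp_coe t⟩
  · rintro ⟨t, ht⟩
    exact ⟨t, Subtype.ext ((f4mSa_xp_coe t).trans ht.symm)⟩

theorem f4m_concO1_mem_Ya (g : F4G K m) : g ∈ (f4mRa hm).Y ↔ ∃ t : K, (g : GL chevF4.Idx K) = xP 14 23 m t := by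
  change g ∈ rk1Xm (f4mSa K m) ↔ _
  constructor
  · rintro ⟨t, rfl⟩
    exact ⟨t, f4mSa_xm_coe t⟩
  · rintro ⟨t, ht⟩
    exact ⟨t, Subtype.ext ((f4mSa_xm_coe t).trans ht.symm)⟩

theorem f4m_concO1_mem_Xb (g : F4G K m) :
    g ∈ f4mXb hm ↔ ∃ t u : K, (g : GL chevF4.Idx K) = (quadPos K).xS m t u := by
  unfold f4mXb
  rw [Subgroup.mem_subgroupOf, f4Cls2_X, mem_XJ2_fix_iff hm]


/-! ### the torus `H¹` normalizes the root groups -/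

theorem f4m_concO1_Hs_Xa (h : F4G K m) (hh : h ∈ f4mHs hm) (x : F4G K m) (hx : x ∈ (f4mRa hm).X) :
    h * x * h⁻¹ ∈ (f4mRa hm).X := by
  obtain ⟨⟨s, u⟩, hp⟩ := (f4m_concO1_mem_Hs hm h).mp hh
  obtain ⟨t, ht⟩ := (f4m_concO1_mem_Xa hm x).mp hx
  rw [f4m_concO1_mem_Xa]
  refine ⟨(u : K)⁻¹ * (s : K) ^ 2 * t, ?_⟩
  rw [Subgroup.coe_mul, Subgroup.coe_mul, Subgroup.coe_inv, hp, ht]
  exact gh4_conj_xP hm s u t

theorem f4m_concO1_Hs_Xb (h : F4G K m) (hh : h ∈ f4mHs hm) (x : F4G K m) (hx : x ∈ f4mXb hm) :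
    h * x * h⁻¹ ∈ f4mXb hm := by
  obtain ⟨⟨s, u⟩, hp⟩ := (f4m_concO1_mem_Hs hm h).mp hh
  obtain ⟨t, v, ht⟩ := (f4m_concO1_mem_Xb hm x).mp hx
  rw [f4m_concO1_mem_Xb]
  refine ⟨(f4Th K m (u : K) ^ 2)⁻¹ * (u : K) ^ 2 * (s : K)⁻¹ * t,
    (s : K)⁻¹ * (f4Th K m (s : K))⁻¹ * (u : K) * v, ?_⟩
  rw [Subgroup.coe_mul, Subgroup.coe_mul, Subgroup.coe_inv, hp, ht]
  exact gh4_conj_xS hm s u t v

/-- an element of `N¹` normalizes `H¹`. -/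
theorem f4m_concO1_mono_Hs (n : F4G K m) (hn : (n : GL chevF4.Idx K) ∈ chevF4.monomialSubgroup K)
    (h : F4G K m) (hh : h ∈ f4mHs hm) : n * h * n⁻¹ ∈ f4mHs hm := by
  obtain ⟨p, hp⟩ := (f4m_concO1_mem_Hs hm h).mp hh
  have hN := monomialSubgroup_le_normalizer (F := K) good3_F4.toGood2 hn
  have hd : (h : GL chevF4.Idx K) ∈ chevF4.diagonalSubgroup K := by
    rw [hp]
    exact gh4_mem_diagonal p
  have h1 : ((n * h * n⁻¹ : F4G K m) : GL chevF4.Idx K) ∈ chevF4.diagonalSubgroup K ⊓ twistedF4 K (2 ^ m) := by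
    refine ⟨?_, (n * h * n⁻¹).2⟩
    rw [Subgroup.coe_mul, Subgroup.coe_mul, Subgroup.coe_inv]
    exact conj_mem_diagonal hN hd
  rw [f4H_eq_range hm] at h1
  obtain ⟨q, hq⟩ := h1
  exact (f4m_concO1_mem_Hs hm _).mpr ⟨q, hq.symm⟩

theorem f4m_concO1_Na_mono : ((f4mNa K m : F4G K m) : GL chevF4.Idx K) ∈ chevF4.monomialSubgroup K :=
  f4N1_mem_mono

theorem f4m_concO1_Nb_mono : ((f4mNb K m : F4G K m) : GL chevF4.Idx K) ∈ chevF4.monomialSubgroup K :=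
  f4N2_mem_mono

/-- `n_a = f4N1`. -/
theorem f4m_concO1_na : (f4mRa hm).n = f4mNa K m := by
  rw [f4mRa_n]
  apply Subtype.ext
  change ((f4mSa K m).xp 1 * (f4mSa K m).xm (-(1 : K)⁻¹) * (f4mSa K m).xp 1 : F4G K m).1 = f4N1 K
  rw [Subgroup.coe_mul, Subgroup.coe_mul]
  change f4Phi K m (upperSL 1) * f4Phi K m (lowerSL (-(1 : K)⁻¹)) * f4Phi K m (upperSL 1) = f4N1 K
  rw [inv_one, ← map_mul, ← map_mul, ← antiSL_eq, f4Phi_anti]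


/-! ### inclusions and decompositions -/

theorem f4m_concO1_mem_U (g : F4G K m) : g ∈ f4mU K m ↔ (g : GL chevF4.Idx K) ∈ chevF4.posUnipotent K := by
  unfold f4mU
  rw [Subgroup.mem_subgroupOf]

theorem f4m_concO1_Xa_le : (f4mRa hm).X ≤ f4mU K m := by
  intro g hg
  obtain ⟨t, ht⟩ := (f4m_concO1_mem_Xa hm g).mp hg
  rw [f4m_concO1_mem_U, ht]
  exact XJ_le_pos f4J1 ((mem_XJ1_fix_iff hm).mpr ⟨t, rfl⟩).1

theorem f4m_concO1_Xb_le : f4mXb hm ≤ f4mU K m := by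
  intro g hg
  obtain ⟨t, u, ht⟩ := (f4m_concO1_mem_Xb hm g).mp hg
  rw [f4m_concO1_mem_U, ht]
  exact XJ_le_pos f4J2 ((mem_XJ2_fix_iff hm).mpr ⟨t, u, rfl⟩).1

theorem f4m_concO1_Ua_le : f4mUa hm ≤ f4mU K m := by
  intro g hg
  unfold f4mUa at hg
  rw [Subgroup.mem_subgroupOf] at hg
  rw [f4m_concO1_mem_U]
  exact upS_le_pos _ hg

theorem f4m_concO1_Ub_le : f4mUb hm ≤ f4mU K m := by
  intro g hg
  unfold f4mUb at hg
  rw [Subgroup.mem_subgroupOf] at hg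
  rw [f4m_concO1_mem_U]
  exact upS_le_pos _ hg

theorem f4m_concO1_dec_a (u : F4G K m) (hu : u ∈ f4mU K m) :
    ∃ v ∈ f4mUa hm, ∃ x ∈ (f4mRa hm).X, u = v * x := by
  rw [f4m_concO1_mem_U] at hu
  obtain ⟨u', hu', x, hx, e⟩ := (f4Cls1 hm).decomp (u : GL chevF4.Idx K) ⟨hu, twistedF4_le_fixSub hm u.2⟩
  have hxT : x ∈ twistedF4 K (2 ^ m) := (f4Cls1 hm).X_G1 hx
  have hu'T : u' ∈ twistedF4 K (2 ^ m) := by
    have : u' = (u : GL chevF4.Idx K) * x⁻¹ := by rw [e, mul_inv_cancel_right]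
    rw [this]
    exact mul_mem u.2 (inv_mem hxT)
  refine ⟨⟨u', hu'T⟩, ?_, ⟨x, hxT⟩, ?_, Subtype.ext e⟩
  · unfold f4mUa
    rw [Subgroup.mem_subgroupOf]
    exact hu'
  · rw [f4Cls1_X, mem_XJ1_fix_iff hm] at hx
    obtain ⟨t, ht⟩ := hx
    exact (f4m_concO1_mem_Xa hm _).mpr ⟨t, ht⟩

theorem f4m_concO1_dec_b (u : F4G K m) (hu : u ∈ f4mU K m) :
    ∃ v ∈ f4mUb hm, ∃ x ∈ f4mXb hm, u = v * x := by
  rw [f4m_concO1_mem_U] at hu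
  obtain ⟨u', hu', x, hx, e⟩ := (f4Cls2 hm).decomp (u : GL chevF4.Idx K) ⟨hu, twistedF4_le_fixSub hm u.2⟩
  have hxT : x ∈ twistedF4 K (2 ^ m) := (f4Cls2 hm).X_G1 hx
  have hu'T : u' ∈ twistedF4 K (2 ^ m) := by
    have : u' = (u : GL chevF4.Idx K) * x⁻¹ := by rw [e, mul_inv_cancel_right]
    rw [this]
    exact mul_mem u.2 (inv_mem hxT)
  refine ⟨⟨u', hu'T⟩, ?_, ⟨x, hxT⟩, ?_, Subtype.ext e⟩
  · unfold f4mUb
    rw [Subgroup.mem_subgroupOf]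
    exact hu'
  · unfold f4mXb
    rw [Subgroup.mem_subgroupOf]
    exact hx

theorem f4m_concO1_na_Ua (v : F4G K m) (hv : v ∈ f4mUa hm) : f4mNa K m * v * (f4mNa K m)⁻¹ ∈ f4mU K m := by
  unfold f4mUa at hv
  rw [Subgroup.mem_subgroupOf] at hv
  rw [f4m_concO1_mem_U, Subgroup.coe_mul, Subgroup.coe_mul, Subgroup.coe_inv]
  have hn := (f4Cls1 hm).n_norm
  rw [f4N1_eq_word hm, Subgroup.mem_set_normalizer_iff] at hn
  exact upS_le_pos _ ((hn _).mp hv)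

theorem f4m_concO1_nb_Ub (v : F4G K m) (hv : v ∈ f4mUb hm) : f4mNb K m * v * (f4mNb K m)⁻¹ ∈ f4mU K m := by
  unfold f4mUb at hv
  rw [Subgroup.mem_subgroupOf] at hv
  rw [f4m_concO1_mem_U, Subgroup.coe_mul, Subgroup.coe_mul, Subgroup.coe_inv]
  have hn := (f4Cls2 hm).n_norm
  rw [f4N2_eq_word hm, Subgroup.mem_set_normalizer_iff] at hn
  exact upS_le_pos _ ((hn _).mp hv)

theorem f4m_concO1_Hs_diag (h : F4G K m) (hh : h ∈ f4mHs hm) : (h : GL chevF4.Idx K) ∈ chevF4.diagonalSubgroup K := by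
  obtain ⟨p, hp⟩ := (f4m_concO1_mem_Hs hm h).mp hh
  rw [hp]
  exact gh4_mem_diagonal p

theorem f4m_concO1_Hs_U (h : F4G K m) (hh : h ∈ f4mHs hm) (u : F4G K m) (hu : u ∈ f4mU K m) :
    h * u * h⁻¹ ∈ f4mU K m := by
  rw [f4m_concO1_mem_U] at hu ⊢
  rw [Subgroup.coe_mul, Subgroup.coe_mul, Subgroup.coe_inv]
  have hn := diagonalSubgroup_le_normalizer_pos (F := K) good3_F4.toGood2 (f4m_concO1_Hs_diag hm h hh)
  rw [Subgroup.mem_set_normalizer_iff] at hn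
  exact (hn _).mp hu


/-! ### the negative root groups -/

theorem f4m_concO1_Hs_Ya (oka : (f4mRa hm).Ok) (h : F4G K m) (hh : h ∈ f4mHs hm) (y : F4G K m)
    (hy : y ∈ (f4mRa hm).Y) : h * y * h⁻¹ ∈ (f4mRa hm).Y := by
  obtain ⟨n, hn⟩ : ∃ n : F4G K m, n = (f4mRa hm).n := ⟨_, rfl⟩
  have hnm : (n : GL chevF4.Idx K) ∈ chevF4.monomialSubgroup K := by
    rw [hn, f4m_concO1_na]
    exact f4m_concO1_Na_mono
  have hx : n * y * n⁻¹ ∈ (f4mRa hm).X := by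
    rw [hn]
    exact oka.conj_Y y hy
  have hh' : n * h * n⁻¹ ∈ f4mHs hm := f4m_concO1_mono_Hs hm n hnm h hh
  have hx' := f4m_concO1_Hs_Xa hm _ hh' _ hx
  have hsq : (n * n)⁻¹ ∈ f4mHs hm := by
    apply inv_mem
    rw [hn]
    exact f4m_concO1_Ta_le hm oka.sq
  have hx'' := f4m_concO1_Hs_Xa hm _ hsq _ hx'
  have hY := oka.conj_X _ hx''
  rw [← hn] at hY
  have e : n * ((n * n)⁻¹ * (n * h * n⁻¹ * (n * y * n⁻¹) * (n * h * n⁻¹)⁻¹) * (n * n)⁻¹⁻¹) * n⁻¹ = h * y * h⁻¹ := by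
    group
  rwa [e] at hY

theorem f4m_concO1_Hs_Yb (h : F4G K m) (hh : h ∈ f4mHs hm) (y : F4G K m) (hy : y ∈ f4mYb hm) :
    h * y * h⁻¹ ∈ f4mYb hm := by
  unfold f4mYb at hy ⊢
  rw [Subgroup.mem_map] at hy ⊢
  obtain ⟨x, hx, rfl⟩ := hy
  have hnm : (((f4mNb K m)⁻¹ : F4G K m) : GL chevF4.Idx K) ∈ chevF4.monomialSubgroup K := by
    rw [Subgroup.coe_inv]
    exact inv_mem f4m_concO1_Nb_mono
  have hh' := f4m_concO1_mono_Hs hm _ hnm h hh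
  refine ⟨_, f4m_concO1_Hs_Xb hm _ hh' x hx, ?_⟩
  simp only [MulEquiv.coe_toMonoidHom, MulAut.conj_apply]
  group

theorem f4m_concO1_Hs_Lb (h : F4G K m) (hh : h ∈ f4mHs hm) (g : F4G K m) (hg : g ∈ f4mLb hm) :
    h * g * h⁻¹ ∈ f4mLb hm := by
  have hle : f4mLb hm ≤ (f4mLb hm).comap (MulAut.conj h).toMonoidHom := by
    unfold f4mLb
    apply sup_le
    · intro x hx
      rw [Subgroup.mem_comap]
      simp only [MulEquiv.coe_toMonoidHom, MulAut.conj_apply]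
      exact Subgroup.mem_sup_left (f4m_concO1_Hs_Xb hm h hh x hx)
    · intro x hx
      rw [Subgroup.mem_comap]
      simp only [MulEquiv.coe_toMonoidHom, MulAut.conj_apply]
      exact Subgroup.mem_sup_right (f4m_concO1_Hs_Yb hm h hh x hx)
  have := hle hg
  rw [Subgroup.mem_comap] at this
  simpa [MulAut.conj_apply] using this

/-! ### the tori -/

theorem f4m_concO1_Hs_comm (s : F4G K m) (hs : s ∈ f4mHs hm) (t : F4G K m) (ht : t ∈ f4mHs hm) : s * t = t * s := by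
  obtain ⟨p, rfl⟩ := hs
  obtain ⟨q, rfl⟩ := ht
  rw [← map_mul, ← map_mul, mul_comm]

theorem f4m_concO1_T_inf (hTb : f4mTb hm ≤ f4mTc hm) : f4mTa hm ⊓ f4mTb hm = ⊥ := by
  rw [eq_bot_iff]
  rintro g ⟨hga, hgb⟩
  obtain ⟨s, hs⟩ := (f4m_concO1_mem_Ta hm g).mp hga
  obtain ⟨u, hu⟩ := (f4m_concO1_mem_Tc hm g).mp (hTb hgb)
  have := gh4_injective (hs.symm.trans hu)
  rw [Prod.mk.injEq] at this
  rw [Subgroup.mem_bot]
  apply Subtype.ext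
  rw [hs, this.1, ← Prod.one_eq_mk, map_one]
  rfl

omit [CharP K 2] in
theorem f4m_concO1_N1_mul_fh (r : Fin 48) (c : Kˣ) (r' : Fin 48)
    (hr' : (tabOf chevF4).reflWord [0, 3] r.val = r'.val) :
    f4N1 K * fh K r c = fh K r' c * f4N1 K := by
  unfold f4N1
  rw [fh_def, fh_def, nWordGL_mul_hGL good3_F4.toGood2 (by decide) (lt_nroots_F4 r)]
  congr 1
  exact hGL_congr' good3_F4.toGood1 hr' _ _ rfl _ _

theorem f4m_concO1_refl_fast : fastF4.reflWord [0, 3] 27 = 34 ∧ fastF4.reflWord [0, 3] 25 = 26 := by decide +kernel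

theorem f4m_concO1_refl : (tabOf chevF4).reflWord [0, 3] 27 = 34 ∧ (tabOf chevF4).reflWord [0, 3] 25 = 26 :=
  tab_F4 ▸ f4m_concO1_refl_fast

theorem f4m_concO1_cr :
    (cr chevF4 34 0 = 1 ∧ cr chevF4 34 1 = 1 ∧ cr chevF4 34 2 = 0 ∧ cr chevF4 34 3 = 0) ∧
    (cr chevF4 26 0 = 0 ∧ cr chevF4 26 1 = 0 ∧ cr chevF4 26 2 = 1 ∧ cr chevF4 26 3 = 1) := by
  decide

omit [CharP K 2] in
theorem f4m_concO1_fh_34 (c : Kˣ) : fh K 34 c = tF4 c c 1 1 := by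
  rw [fh_eq_tF4]
  obtain ⟨⟨h0, h1, h2, h3⟩, _⟩ := f4m_concO1_cr
  change tF4 (c ^ cr chevF4 34 0) (c ^ cr chevF4 34 1) (c ^ cr chevF4 34 2) (c ^ cr chevF4 34 3) = _
  rw [h0, h1, h2, h3, zpow_one, zpow_zero]

omit [CharP K 2] in
theorem f4m_concO1_fh_26 (c : Kˣ) : fh K 26 c = tF4 1 1 c c := by
  rw [fh_eq_tF4]
  obtain ⟨_, ⟨h0, h1, h2, h3⟩⟩ := f4m_concO1_cr
  change tF4 (c ^ cr chevF4 26 0) (c ^ cr chevF4 26 1) (c ^ cr chevF4 26 2) (c ^ cr chevF4 26 3) = _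
  rw [h0, h1, h2, h3, zpow_one, zpow_zero]

/-- `n_a h(1,u) n_a⁻¹ h(1,u)⁻¹ = h(u,1)`. -/
theorem f4m_concO1_na_conj (u : Kˣ) :
    f4N1 K * gh4 K m (1, u) * (f4N1 K)⁻¹ * (gh4 K m (1, u))⁻¹ = gh4 K m (u, 1) := by
  have e1 : gh4 K m (1, u) = fh K 27 (f4ThU K m u) * fh K 25 u := by
    rw [gh4_apply, fh_27, fh_25, tF4_mul, map_one]
    simp only [mul_one, one_mul]
  have e2 : f4N1 K * gh4 K m (1, u) * (f4N1 K)⁻¹ = fh K 34 (f4ThU K m u) * fh K 26 u := by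
    rw [e1, ← mul_assoc, f4m_concO1_N1_mul_fh 27 _ 34 f4m_concO1_refl.1, mul_assoc (fh K 34 _),
      f4m_concO1_N1_mul_fh 25 _ 26 f4m_concO1_refl.2, ← mul_assoc, mul_inv_cancel_right]
  rw [e2, f4m_concO1_fh_34, f4m_concO1_fh_26, tF4_mul, gh4_apply, tF4_inv, tF4_mul, gh4_apply, map_one]
  simp only [mul_one, one_mul, inv_one, mul_inv_cancel]


theorem f4m_concO1_na_Tb (hTb : f4mTb hm ≤ f4mTc hm) (t : F4G K m) (ht : t ∈ f4mTb hm) :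
    f4mNa K m * t * (f4mNa K m)⁻¹ * t⁻¹ ∈ f4mTa hm := by
  obtain ⟨u, hu⟩ := (f4m_concO1_mem_Tc hm t).mp (hTb ht)
  rw [f4m_concO1_mem_Ta]
  refine ⟨u, ?_⟩
  rw [Subgroup.coe_mul, Subgroup.coe_mul, Subgroup.coe_mul, Subgroup.coe_inv, Subgroup.coe_inv, hu]
  exact f4m_concO1_na_conj u

theorem f4m_concO1_nb_mem_Lb (okb : (f4mRb hm).Ok) : f4mNb K m ∈ f4mLb hm := by
  rw [← f4mRb_n hm]
  unfold R1.n
  exact mul_mem (mul_mem (Subgroup.mem_sup_left okb.hx₁) (Subgroup.mem_sup_right okb.hy₀))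
    (Subgroup.mem_sup_left okb.hx₂)

theorem f4m_concO1_nb_Ta (okb : (f4mRb hm).Ok) (t : F4G K m) (ht : t ∈ f4mTa hm) :
    f4mNb K m * t * (f4mNb K m)⁻¹ * t⁻¹ ∈ f4mTb hm := by
  have htH := f4m_concO1_Ta_le hm ht
  unfold f4mTb
  rw [Subgroup.mem_inf]
  refine ⟨?_, ?_⟩
  · exact mul_mem (f4m_concO1_mono_Hs hm _ f4m_concO1_Nb_mono t htH) (inv_mem htH)
  · have hn := f4m_concO1_nb_mem_Lb hm okb
    have h1 := f4m_concO1_Hs_Lb hm t htH _ (inv_mem hn)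
    have e : f4mNb K m * t * (f4mNb K m)⁻¹ * t⁻¹ = f4mNb K m * (t * (f4mNb K m)⁻¹ * t⁻¹) := by group
    rw [e]
    exact mul_mem hn h1

/-! ### `U ∩ H`, `B ∩ N`, generation -/

theorem f4m_concO1_U_inf_Hs (u : F4G K m) (hu : u ∈ f4mU K m) (hh : u ∈ f4mHs hm) : u = 1 := by
  rw [f4m_concO1_mem_U] at hu
  have hd := f4m_concO1_Hs_diag hm u hh
  have : (u : GL chevF4.Idx K) ∈ chevF4.posUnipotent K ⊓ chevF4.diagonalSubgroup K := ⟨hu, hd⟩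
  rw [posUnipotent_inf_diagonal good3_F4.toGood2 T0_F4, Subgroup.mem_bot] at this
  exact Subtype.ext this

theorem f4m_concO1_N_mono (n : F4G K m) (hn : n ∈ (f4mD hm).N) :
    (n : GL chevF4.Idx K) ∈ chevF4.monomialSubgroup K := by
  have hle : (f4mD hm).N ≤ (chevF4.monomialSubgroup K).subgroupOf (twistedF4 K (2 ^ m)) := by
    unfold OctDat.N
    rw [Subgroup.closure_le]
    rintro g (hg | hg)
    · rw [SetLike.mem_coe, Subgroup.mem_subgroupOf]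
      exact (le_sup_left : chevF4.diagonalSubgroup K ≤ chevF4.monomialSubgroup K)
        (f4m_concO1_Hs_diag hm g (f4m_concO1_H_le hm hg))
    · rw [SetLike.mem_coe, Subgroup.mem_subgroupOf]
      rcases hg with hg | hg
      · rw [hg]
        change (((f4mRa hm).n : F4G K m) : GL chevF4.Idx K) ∈ _
        rw [f4m_concO1_na]
        exact f4m_concO1_Na_mono
      · rw [Set.mem_singleton_iff] at hg
        rw [hg]
        change (((f4mRb hm).n : F4G K m) : GL chevF4.Idx K) ∈ _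
        rw [f4mRb_n]
        exact f4m_concO1_Nb_mono
  have := hle hn
  rwa [Subgroup.mem_subgroupOf] at this

theorem f4m_concO1_B_inf_N (u : F4G K m) (hu : u ∈ f4mU K m) (h : F4G K m) (hh : h ∈ f4mHs hm)
    (hn : u * h ∈ (f4mD hm).N) : u = 1 := by
  have hu' := (f4m_concO1_mem_U u).mp hu
  have hd := f4m_concO1_Hs_diag hm h hh
  have hmono := f4m_concO1_N_mono hm _ hn
  rw [Subgroup.coe_mul] at hmono
  have hB : (u : GL chevF4.Idx K) * (h : GL chevF4.Idx K) ∈ chevF4.borelSubgroup K :=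
    mul_mem (Subgroup.mem_sup_left hu') (Subgroup.mem_sup_right hd)
  have hD : (u : GL chevF4.Idx K) * (h : GL chevF4.Idx K) ∈ chevF4.diagonalSubgroup K := by
    rw [← borel_inf_monomial (F := K) good3_F4.toGood2 T0_F4 T6_F4 T8_F4 T9_F4]
    exact ⟨hB, hmono⟩
  have hud : (u : GL chevF4.Idx K) ∈ chevF4.diagonalSubgroup K := by
    have e : (u : GL chevF4.Idx K) = (u : GL chevF4.Idx K) * (h : GL chevF4.Idx K) * (h : GL chevF4.Idx K)⁻¹ := by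
      rw [mul_inv_cancel_right]
    rw [e]
    exact mul_mem hD (inv_mem hd)
  have : (u : GL chevF4.Idx K) ∈ chevF4.posUnipotent K ⊓ chevF4.diagonalSubgroup K := ⟨hu', hud⟩
  rw [posUnipotent_inf_diagonal good3_F4.toGood2 T0_F4, Subgroup.mem_bot] at this
  exact Subtype.ext this

theorem f4m_concO1_top (okb : (f4mRb hm).Ok) : (f4mD hm).gen = ⊤ := by
  rw [eq_top_iff]
  rintro g -
  have hle : twistedF4 K (2 ^ m) ≤ ((f4mD hm).gen).map (twistedF4 K (2 ^ m)).subtype := by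
    conv_lhs => rw [twistedF4_eq]
    rw [Subgroup.closure_le]
    rintro x ((⟨t, rfl⟩ | ⟨t, rfl⟩) | (⟨t, u, rfl⟩ | ⟨t, u, rfl⟩))
    · refine ⟨⟨_, xP_pos_mem_twisted t⟩, ?_, rfl⟩
      exact Subgroup.mem_sup_left (Subgroup.mem_sup_left ((f4m_concO1_mem_Xa hm _).mpr ⟨t, rfl⟩))
    · refine ⟨⟨_, xP_neg_mem_twisted t⟩, ?_, rfl⟩
      exact Subgroup.mem_sup_left (Subgroup.mem_sup_right ((f4m_concO1_mem_Ya hm _).mpr ⟨t, rfl⟩))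
    · refine ⟨⟨_, xS_pos_mem_twisted t u⟩, ?_, rfl⟩
      exact Subgroup.mem_sup_right (Subgroup.mem_sup_left ((f4m_concO1_mem_Xb hm _).mpr ⟨t, u, rfl⟩))
    · refine ⟨⟨_, xS_neg_mem_twisted t u⟩, ?_, rfl⟩
      apply Subgroup.mem_sup_right
      change _ ∈ f4mLb hm
      -- `n_b y n_b⁻¹ ∈ X_b`, and `n_b ∈ L_b`
      obtain ⟨s', t', c', d', e⟩ := f4N2_conj_xQ_neg (f4Th K m t) t (f4Th K m t * t + u) (f4Th K (m + 1) u)
      have e' : f4N2 K * (quadNeg K).xS m t u * (f4N2 K)⁻¹ = (quadPos K).xQ s' t' c' d' := e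
      have hmem : f4N2 K * (quadNeg K).xS m t u * (f4N2 K)⁻¹ ∈ twistedF4 K (2 ^ m) :=
        mul_mem (mul_mem f4N2_mem_twisted (xS_neg_mem_twisted t u)) (inv_mem f4N2_mem_twisted)
      obtain ⟨_, hfix⟩ := twistedF4_le_fixSub hm hmem
      rw [e'] at hfix
      have e3 := xQ_fixed hm hfix
      have hn := f4m_concO1_nb_mem_Lb hm okb
      have hx : f4mNb K m * ⟨(quadNeg K).xS m t u, xS_neg_mem_twisted t u⟩ * (f4mNb K m)⁻¹ ∈ f4mLb hm := by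
        apply Subgroup.mem_sup_left
        rw [f4m_concO1_mem_Xb]
        refine ⟨t', f4Th K m d', ?_⟩
        rw [Subgroup.coe_mul, Subgroup.coe_mul, Subgroup.coe_inv]
        change f4N2 K * (quadNeg K).xS m t u * (f4N2 K)⁻¹ = _
        rw [e', e3]
      have e4 : (⟨(quadNeg K).xS m t u, xS_neg_mem_twisted t u⟩ : F4G K m) =
          (f4mNb K m)⁻¹ * (f4mNb K m * ⟨(quadNeg K).xS m t u, xS_neg_mem_twisted t u⟩ * (f4mNb K m)⁻¹) *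
            f4mNb K m := by group
      rw [e4]
      exact mul_mem (mul_mem (inv_mem hn) hx) hn
  obtain ⟨g', hg', e⟩ := hle g.2
  have : g' = g := Subtype.ext e
  rwa [this] at hg'


/-! ### the package -/

/-- the "local" global axioms: everything in `OctDat.Ok` except `braid_*`, `cox`, `dich_*` (as a structure-free conjunction). -/
theorem f4m_concO1 (oka : (f4mRa hm).Ok) (okb : (f4mRb hm).Ok) (hTb : f4mTb hm ≤ f4mTc hm) :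
    let D := f4mD hm
    (D.Ra.X ≤ D.U ∧ D.Rb.X ≤ D.U ∧ D.Ua ≤ D.U ∧ D.Ub ≤ D.U) ∧
    ((∀ u ∈ D.U, ∃ v ∈ D.Ua, ∃ x ∈ D.Ra.X, u = v * x) ∧ (∀ u ∈ D.U, ∃ v ∈ D.Ub, ∃ x ∈ D.Rb.X, u = v * x)) ∧
    ((∀ v ∈ D.Ua, D.Ra.n * v * D.Ra.n⁻¹ ∈ D.U) ∧ (∀ v ∈ D.Ub, D.Rb.n * v * D.Rb.n⁻¹ ∈ D.U)) ∧
    ((∀ h ∈ D.H, ∀ u ∈ D.U, h * u * h⁻¹ ∈ D.U) ∧ (∀ h ∈ D.H, ∀ x ∈ D.Ra.X, h * x * h⁻¹ ∈ D.Ra.X) ∧
      (∀ h ∈ D.H, ∀ x ∈ D.Ra.Y, h * x * h⁻¹ ∈ D.Ra.Y) ∧ (∀ h ∈ D.H, ∀ x ∈ D.Rb.X, h * x * h⁻¹ ∈ D.Rb.X) ∧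
      (∀ h ∈ D.H, ∀ x ∈ D.Rb.Y, h * x * h⁻¹ ∈ D.Rb.Y)) ∧
    ((∀ s ∈ D.Ra.T, ∀ t ∈ D.Rb.T, s * t = t * s) ∧ D.Ra.T ⊓ D.Rb.T = ⊥ ∧
      (∀ t ∈ D.Rb.T, D.Ra.n * t * D.Ra.n⁻¹ * t⁻¹ ∈ D.Ra.T) ∧ (∀ t ∈ D.Ra.T, D.Rb.n * t * D.Rb.n⁻¹ * t⁻¹ ∈ D.Rb.T)) ∧
    ((∀ u ∈ D.U, u ∈ D.H → u = 1) ∧ (∀ u ∈ D.U, ∀ h ∈ D.H, u * h ∈ D.N → u = 1) ∧ D.gen = ⊤) := by
  intro D
  have hH : D.H ≤ f4mHs hm := f4m_concO1_H_le hm
  have hna : D.Ra.n = f4mNa K m := f4m_concO1_na hm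
  have hnb : D.Rb.n = f4mNb K m := f4mRb_n hm
  have hTbH : f4mTb hm ≤ f4mHs hm := by
    unfold f4mTb
    exact inf_le_left
  refine ⟨⟨f4m_concO1_Xa_le hm, f4m_concO1_Xb_le hm, f4m_concO1_Ua_le hm, f4m_concO1_Ub_le hm⟩,
    ⟨f4m_concO1_dec_a hm, f4m_concO1_dec_b hm⟩, ⟨?_, ?_⟩, ⟨?_, ?_, ?_, ?_, ?_⟩, ⟨?_, ?_, ?_, ?_⟩, ⟨?_, ?_, ?_⟩⟩
  · intro v hv
    rw [hna]
    exact f4m_concO1_na_Ua hm v hv
  · intro v hv
    rw [hnb]
    exact f4m_concO1_nb_Ub hm v hv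
  · intro h hh u hu
    exact f4m_concO1_Hs_U hm h (hH hh) u hu
  · intro h hh x hx
    exact f4m_concO1_Hs_Xa hm h (hH hh) x hx
  · intro h hh x hx
    exact f4m_concO1_Hs_Ya hm oka h (hH hh) x hx
  · intro h hh x hx
    exact f4m_concO1_Hs_Xb hm h (hH hh) x hx
  · intro h hh x hx
    exact f4m_concO1_Hs_Yb hm h (hH hh) x hx
  · intro s hs t ht
    exact f4m_concO1_Hs_comm hm s (f4m_concO1_Ta_le hm hs) t (hTbH ht)
  · exact f4m_concO1_T_inf hm hTb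
  · intro t ht
    rw [hna]
    exact f4m_concO1_na_Tb hm hTb t ht
  · intro t ht
    rw [hnb]
    exact f4m_concO1_nb_Ta hm okb t ht
  · intro u hu hh
    exact f4m_concO1_U_inf_Hs hm u hu (hH hh)
  · intro u hu h hh hn
    exact f4m_concO1_B_inf_N hm u hu h (hH hh) hn
  · exact f4m_concO1_top hm okb

end Cfsg.Agent.F4M
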