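import Mathlib
import Cfsg.Agent.F4M.ConcDefs
import Cfsg.Agent.F4M.ConcOk1
import Cfsg.Agent.F4M.RhoPerf
import Cfsg.Agent.F4M.ConcBBr

set_option autoImplicit false
set_option linter.unusedSectionVars false
set_option linter.unusedVariables false

/-! S2114, backup piece of package C4b (file `Cfsg/Agent/F4M/ConcBOk.lean`, prefix `f4m_concBOk_`): all the rank-one axioms of the class `b`
except `bruhat`: `(f4mRb hm).Ok` follows from the rank-one Bruhat statement. -/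

namespace Cfsg.Agent.F4M

open Cfsg Cfsg.Lie Cfsg.Agent.Helper7 Cfsg.Agent.Helper7.Chev Cfsg.Agent.CtRecM Cfsg.Agent.CtRecT

variable {K : Type*} [Field K] [CharP K 2] {m : ℕ} (hm : ∀ t : K, t ^ 2 ^ (2 * m + 1) = t)

/-- `n_b² ∈ H¹`. -/
theorem f4m_concBOk_sq_Hs : f4mNb K m * f4mNb K m ∈ f4mHs hm := by
  have h1 : ((f4mNb K m * f4mNb K m : F4G K m) : GL chevF4.Idx K) ∈
      chevF4.diagonalSubgroup K ⊓ twistedF4 K (2 ^ m) := by
    refine ⟨?_, (f4mNb K m * f4mNb K m).2⟩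
    rw [Subgroup.coe_mul]
    exact f4N2_sq_mem
  rw [f4H_eq_range hm] at h1
  obtain ⟨q, hq⟩ := h1
  exact (f4m_concO1_mem_Hs hm _).mpr ⟨q, hq.symm⟩

/-- the rank-one axioms of the class `b` from the rank-one Bruhat statement. -/
theorem f4m_concBOk_of_bruhat
    (hbr : ∀ x ∈ (f4mRb hm).X, x ≠ 1 → ∃ x' ∈ (f4mRb hm).X, ∃ t ∈ (f4mRb hm).T, ∃ x'' ∈ (f4mRb hm).X,
      (f4mRb hm).n * x * (f4mRb hm).n⁻¹ = x' * t * (f4mRb hm).n * x'') : (f4mRb hm).Ok := by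
  have hnL : f4mNb K m ∈ f4mLb hm := f4m_rho_n_mem hm
  refine ⟨?_, ?_, ?_, ?_, ?_, ?_, ?_, ?_, hbr⟩
  · exact f4m_rho_xb_mem hm 1 0
  · exact f4m_rho_yb_mem hm 0 1
  · exact f4m_rho_xb_mem hm 1 1
  · intro x hx
    rw [f4mRb_n hm]
    exact f4m_rho_conj_mem_Yb hm hx
  · intro y hy
    rw [f4mRb_n hm]
    obtain ⟨x, hx, rfl⟩ := Subgroup.mem_map.mp hy
    simp only [MulEquiv.coe_toMonoidHom, MulAut.conj_apply]
    have e : f4mNb K m * (f4mNb K m * x * (f4mNb K m)⁻¹) * (f4mNb K m)⁻¹ =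
        (f4mNb K m * f4mNb K m) * x * (f4mNb K m * f4mNb K m)⁻¹ := by group
    rw [e]
    exact f4m_concO1_Hs_Xb hm _ (f4m_concBOk_sq_Hs hm) x hx
  · rw [f4mRb_n hm]
    exact Subgroup.mem_inf.mpr ⟨f4m_concBOk_sq_Hs hm, mul_mem hnL hnL⟩
  · exact inf_le_right
  · intro t ht
    rw [f4mRb_n hm]
    obtain ⟨htH, htL⟩ := Subgroup.mem_inf.mp ht
    exact Subgroup.mem_inf.mpr ⟨f4m_concO1_mono_Hs hm _ f4m_concO1_Nb_mono t htH,
      mul_mem (mul_mem hnL htL) (inv_mem hnL)⟩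

/-- the rank-one axioms of the class `b` (with helper7's `f4m_concBBr_bruhat`). -/
theorem f4m_concBOk_ok : (f4mRb hm).Ok :=
  f4m_concBOk_of_bruhat hm (f4m_concBBr_bruhat hm)

end Cfsg.Agent.F4M
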