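import Mathlib
import Cfsg.Agent.F4M.ConcDefs
import Cfsg.Agent.F4M.ConcOk1
import Cfsg.Agent.Helper7.ChevSub2

set_option autoImplicit false
set_option linter.unusedSectionVars false
set_option linter.unusedVariables false

/-! S2114, backup piece of package C4b (file `Cfsg/Agent/F4M/ConcBTb.lean`, prefix `f4m_concBTb_`): `T_b = H¹ ⊓ L_b ≤ T_c = {h(1,u)}`.
Every element of `L_b = ⟨X_b, Y_b⟩` centralizes the root element `x₄₇(1)` (the eight roots 27, 25, 28, 30, 20, 22, 19, 17 of the class `b`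
have no commutator terms with the root 47), while `h(s,u)` acts on `x₄₇(t)` through `s`. -/

namespace Cfsg.Agent.F4M

open Cfsg Cfsg.Lie Cfsg.Agent.Helper7.Chev Cfsg.Agent.CtRecM Cfsg.Agent.CtRecT

variable {K : Type*} [Field K] [CharP K 2] {m : ℕ} (hm : ∀ t : K, t ^ 2 ^ (2 * m + 1) = t)

theorem f4m_concBTb_terms_fast :
    ∀ s ∈ [27, 25, 28, 30, 20, 22, 19, 17], fastF4.commTerms 47 s = [] := by decide +kernel

theorem f4m_concBTb_terms : ∀ s ∈ [27, 25, 28, 30, 20, 22, 19, 17], (tabOf chevF4).commTerms 47 s = [] :=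
  tab_F4 ▸ f4m_concBTb_terms_fast

theorem f4m_concBTb_neg : chevF4.neg 47 = 0 := by decide +kernel

/-- the eight root elements of the class `b` commute with `x₄₇(1)`. -/
theorem f4m_concBTb_fx (r : Fin 48) (hr : r.val ∈ [27, 25, 28, 30, 20, 22, 19, 17]) (t : K) :
    fx K r t * fx K 47 1 = fx K 47 1 * fx K r t := by
  have h1 : r.val ≠ (47 : Fin 48).val := by
    intro h
    rw [h] at hr
    revert hr
    decide
  have h2 : r.val ≠ chevF4.neg (47 : Fin 48).val := by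
    have e : ((47 : Fin 48).val) = 47 := rfl
    rw [e, f4m_concBTb_neg]
    intro h
    rw [h] at hr
    revert hr
    decide
  exact ((fx_commute_of_nil (K := K) (r := 47) (s := r) h1 h2 (f4m_concBTb_terms r.val hr) 1 t).eq).symm

/-- a product of four elements commuting with `z` commutes with `z`. -/
theorem f4m_concBTb_four {G : Type*} [Group G] {a b c d z : G} (ha : a * z = z * a) (hb : b * z = z * b) (hc : c * z = z * c)
    (hd : d * z = z * d) : a * b * c * d * z = z * (a * b * c * d) := by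
  calc a * b * c * d * z = a * b * c * (d * z) := by group
    _ = a * b * (c * z) * d := by rw [hd]; group
    _ = a * (b * z) * c * d := by rw [hc]; group
    _ = (a * z) * b * c * d := by rw [hb]; group
    _ = z * (a * b * c * d) := by rw [ha]; group

/-- the elements `xQ` of the two quadruples commute with `x₄₇(1)`. -/
theorem f4m_concBTb_xQ_pos (s t c d : K) :
    (quadPos K).xQ s t c d * fx K 47 1 = fx K 47 1 * (quadPos K).xQ s t c d := by
  change fx K 27 s * fx K 25 t * fx K 28 c * fx K 30 d * fx K 47 1 =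
    fx K 47 1 * (fx K 27 s * fx K 25 t * fx K 28 c * fx K 30 d)
  exact f4m_concBTb_four (f4m_concBTb_fx (K := K) 27 (by decide) s) (f4m_concBTb_fx (K := K) 25 (by decide) t)
    (f4m_concBTb_fx (K := K) 28 (by decide) c) (f4m_concBTb_fx (K := K) 30 (by decide) d)

theorem f4m_concBTb_xQ_neg (s t c d : K) :
    (quadNeg K).xQ s t c d * fx K 47 1 = fx K 47 1 * (quadNeg K).xQ s t c d := by
  change fx K 20 s * fx K 22 t * fx K 19 c * fx K 17 d * fx K 47 1 =
    fx K 47 1 * (fx K 20 s * fx K 22 t * fx K 19 c * fx K 17 d)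
  exact f4m_concBTb_four (f4m_concBTb_fx (K := K) 20 (by decide) s) (f4m_concBTb_fx (K := K) 22 (by decide) t)
    (f4m_concBTb_fx (K := K) 19 (by decide) c) (f4m_concBTb_fx (K := K) 17 (by decide) d)

/-- the centralizer of `x₄₇(1)`. -/
noncomputable def f4m_concBTb_C (K : Type*) [Field K] [CharP K 2] (m : ℕ) : Subgroup (F4G K m) :=
  (Subgroup.centralizer ({fx K 47 1} : Set (GL chevF4.Idx K))).comap (twistedF4 K (2 ^ m)).subtype

theorem f4m_concBTb_mem_C {g : F4G K m} :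
    g ∈ f4m_concBTb_C K m ↔ (g : GL chevF4.Idx K) * fx K 47 1 = fx K 47 1 * (g : GL chevF4.Idx K) := by
  unfold f4m_concBTb_C
  rw [Subgroup.mem_comap, Subgroup.mem_centralizer_iff]
  constructor
  · intro h
    exact (h _ rfl).symm
  · intro h x hx
    rw [Set.mem_singleton_iff] at hx
    rw [hx]
    exact h.symm

theorem f4m_concBTb_Xb_le : f4mXb hm ≤ f4m_concBTb_C K m := by
  intro g hg
  obtain ⟨t, u, e⟩ := (f4m_concO1_mem_Xb hm g).mp hg
  rw [f4m_concBTb_mem_C, e]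
  unfold B2Quad.xS
  exact f4m_concBTb_xQ_pos _ _ _ _

theorem f4m_concBTb_Nb_mem : f4mNb K m ∈ f4m_concBTb_C K m := by
  rw [f4m_concBTb_mem_C]
  change f4N2 K * fx K 47 1 = fx K 47 1 * f4N2 K
  rw [f4N2_eq (m := m)]
  unfold B2Quad.xS
  have h1 := f4m_concBTb_xQ_pos (K := K) (f4Th K m 1) 1 (f4Th K m 1 * 1 + 0) (f4Th K (m + 1) 0)
  have h2 := f4m_concBTb_xQ_neg (K := K) (f4Th K m 0) 0 (f4Th K m 0 * 0 + 1) (f4Th K (m + 1) 1)
  have h3 := f4m_concBTb_xQ_pos (K := K) (f4Th K m 1) 1 (f4Th K m 1 * 1 + 1) (f4Th K (m + 1) 1)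
  rw [mul_assoc, h3, ← mul_assoc, mul_assoc ((quadPos K).xQ _ _ _ _), h2, ← mul_assoc, h1]
  simp only [mul_assoc]

theorem f4m_concBTb_Yb_le : f4mYb hm ≤ f4m_concBTb_C K m := by
  intro g hg
  unfold f4mYb at hg
  obtain ⟨x, hx, rfl⟩ := Subgroup.mem_map.mp hg
  simp only [MulEquiv.coe_toMonoidHom, MulAut.conj_apply]
  exact mul_mem (mul_mem f4m_concBTb_Nb_mem (f4m_concBTb_Xb_le hm hx)) (inv_mem f4m_concBTb_Nb_mem)

theorem f4m_concBTb_Lb_le : f4mLb hm ≤ f4m_concBTb_C K m :=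
  sup_le (f4m_concBTb_Xb_le hm) (f4m_concBTb_Yb_le hm)

theorem f4m_concBTb_cartan : chevF4.cartan 0 47 = 0 ∧ chevF4.cartan 1 47 = 0 ∧ chevF4.cartan 2 47 = 0 ∧ chevF4.cartan 3 47 = 1 := by
  decide +kernel

theorem f4m_concBTb_chi (c₀ c₁ c₂ c₃ : Kˣ) : f4chi c₀ c₁ c₂ c₃ 47 = c₃ := by
  obtain ⟨h0, h1, h2, h3⟩ := f4m_concBTb_cartan
  unfold f4chi
  change c₀ ^ chevF4.cartan 0 47 * c₁ ^ chevF4.cartan 1 47 * c₂ ^ chevF4.cartan 2 47 * c₃ ^ chevF4.cartan 3 47 = _
  rw [h0, h1, h2, h3, zpow_zero, zpow_zero, zpow_zero, one_mul, one_mul, one_mul, zpow_one]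

/-- `T_b = H¹ ⊓ L_b` lies in the cyclic torus `{h(1,u)}`. -/
theorem f4m_concBTb_le : f4mTb hm ≤ f4mTc hm := by
  intro h hh
  obtain ⟨hH, hL⟩ := Subgroup.mem_inf.mp hh
  obtain ⟨⟨s, u⟩, hp⟩ := (f4m_concO1_mem_Hs hm h).mp hH
  have hc := f4m_concBTb_mem_C.mp (f4m_concBTb_Lb_le hm hL)
  rw [hp, gh4_apply] at hc
  have h1 := tF4_conj_fx (K := K) (f4ThU K m s) (f4ThU K m u) u s 47 1
  rw [f4m_concBTb_chi, mul_one] at h1
  have h2 : tF4 (f4ThU K m s) (f4ThU K m u) u s * fx K 47 1 * (tF4 (f4ThU K m s) (f4ThU K m u) u s)⁻¹ = fx K 47 1 := by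
    rw [hc, mul_inv_cancel_right]
  rw [h1] at h2
  have hs : (s : K) = 1 := xGL_injective good3_F4.toGood2 T0_F4 T8_F4 (47 : Fin 48).2 h2
  have hs' : s = 1 := Units.ext hs
  rw [f4m_concO1_mem_Tc]
  exact ⟨u, by rw [hp, hs']⟩

end Cfsg.Agent.F4M
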