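import Mathlib
import Cfsg.Agent.F4M.PartI
import Cfsg.Agent.F4M.Rk1Lift
import Cfsg.Agent.F4M.OctEnd
import Cfsg.Agent.CtRecT.TLiftP
import Cfsg.Agent.CtRecT.TMain

set_option autoImplicit false

/-! S2114, final abstract assembly (file `Cfsg/Agent/F4M/Final.lean`, helper9): `OctFull K G` = everything the concrete side delivers for
`G = ²F₄(q)`; `f4m_final`: a finite group with such data has trivial Schur multiplier.
Part I (`f4m_partI`) makes the kernel of every finite stem extension odd; then unique `2`-lifts exist (`CtRecT.exists_PLift`), the rank-one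
groups lift isomorphically (`f4m_rk1_inj` for type `SL₂`, `f4m_perfect_inj` for the Suzuki type), and the octagon `BN`-lifting
(`f4m_oct_ker_eq_bot`) kills the kernel. -/

namespace Cfsg.Agent.F4M

open Cfsg.Agent.CtRecT Cfsg.Agent.CtRecM

universe u

/-- everything the concrete side delivers. -/
structure OctFull (K : Type*) [Field K] (G : Type*) [Group G] where
  /-- the data of Part I -/
  roots : OctRoots K G 2
  /-- the data of Part II -/
  D : OctDat G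
  ok : D.Ok
  hU : IsPGroup 2 D.U
  /-- the rank-one system of type `SL₂` of the class `a` -/
  S : Rk1 K G
  hB : ∀ u t : K, t ≠ 0 → S.xp u * S.h t = 1 → u = 0 ∧ t = 1
  hW : ∀ u t v : K, t ≠ 0 → S.xp u * S.h t * S.w 1 * S.xp v ≠ 1
  hXa : D.Ra.X = rk1Xp S
  hYa : D.Ra.Y = rk1Xm S
  perf_b : ∀ g ∈ D.Rb.L, g ∈ ⁅D.Rb.L, D.Rb.L⁆
  /-- a cyclic torus of the rank-one group of Suzuki type -/
  Tc : Subgroup G
  Tc_cyc : IsCyclic Tc
  sylow_b : ∀ r : ℕ, r.Prime → r ≠ 2 → ∀ Q : Subgroup G, Q ≤ D.Rb.L → IsPGroup r Q →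
    IsCyclic Q ∨ ∃ g : G, ∀ x ∈ Q, g⁻¹ * x * g ∈ Tc

variable {K : Type*} [Field K] [Finite K] {G : Type u} [Group G] [Finite G]

/-- the final assembly. -/
theorem f4m_final (F : OctFull K G) (hK : ∃ s : Finset K, 4 < s.card) (h2 : ((2 : ℕ) : K) = 0) :
    Cfsg.HasCyclicSchurMultiplier G 1 := by
  haveI : Fact (Nat.Prime 2) := ⟨Nat.prime_two⟩
  apply hasCyclicSchurMultiplier_one_of
  intro Γ _ _ σ hσ
  have hodd : (Nat.card σ.ker).Coprime 2 := f4m_partI F.roots hK Γ σ hσ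
  obtain ⟨hs, hc, hk⟩ := hσ
  obtain ⟨L⟩ := exists_PLift σ hs hc 2 hodd
  have hXb : IsPGroup 2 F.D.Rb.X := fun x => by
    obtain ⟨k, hk⟩ := F.hU ⟨x.1, F.ok.Xb_le x.2⟩
    exact ⟨k, Subtype.ext (by simpa using congrArg Subtype.val hk)⟩
  have inj_a : ∀ e ∈ F.D.Ra.Lt L, σ e = 1 → e = 1 :=
    f4m_rk1_inj L h2 F.S F.hB F.hW F.D.Ra F.hXa F.hYa
  have inj_b : ∀ e ∈ F.D.Rb.Lt L, σ e = 1 → e = 1 := by
    refine f4m_perfect_inj L hc hodd F.D.Rb F.ok.okb hXb F.perf_b ?_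
    intro r hr hr2 Q hQ hQr
    rcases F.sylow_b r hr hr2 Q hQ hQr with hcyc | ⟨g, hg⟩
    · haveI := hcyc
      exact f4m_comap_comm_of_cyclic hs hc Q
    · haveI := F.Tc_cyc
      exact f4m_comap_comm_of_le_conj hs F.Tc (f4m_comap_comm_of_cyclic hs hc F.Tc) Q g hg
  exact f4m_oct_ker_eq_bot F.D L ⟨F.ok, F.hU, inj_a, inj_b⟩ hs hc hk

end Cfsg.Agent.F4M
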