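import Mathlib
import Cfsg.Agent.F4M.OctDefs

set_option autoImplicit false

/-!
# S2114, package B4: the rank-one Bruhat decomposition downstairs, `L = X T ∪ X T n X`

For an abstract rank-one datum `R : R1 G` with `R.Ok` whose torus normalizes `X`, the set `C = X T ∪ X T n X` contains `1` and is stable under
left multiplication by `X`, by `T`, by `n` and by `n⁻¹`, hence by `Y = n⁻¹ X n`; so it contains `L = ⟨X, Y⟩`.
-/

namespace Cfsg.Agent.F4M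

variable {G : Type*} [Group G]

/-- the union of the two cells `X T` and `X T n X`. -/
def f4m_r1_C (R : R1 G) : Set G :=
  {g | (∃ x ∈ R.X, ∃ t ∈ R.T, g = x * t) ∨ (∃ x ∈ R.X, ∃ t ∈ R.T, ∃ x' ∈ R.X, g = x * t * R.n * x')}

section cells

variable (R : R1 G) (hR : R.Ok) (hTX : ∀ t ∈ R.T, ∀ x ∈ R.X, t * x * t⁻¹ ∈ R.X)

theorem f4m_r1_one_mem : (1 : G) ∈ f4m_r1_C R :=
  Or.inl ⟨1, one_mem _, 1, one_mem _, (mul_one 1).symm⟩

include hTX in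
theorem f4m_r1_TX' {t x : G} (ht : t ∈ R.T) (hx : x ∈ R.X) : t⁻¹ * x * t ∈ R.X := by
  have := hTX t⁻¹ (inv_mem ht) x hx
  rwa [inv_inv] at this

theorem f4m_r1_X_mul {x₀ g : G} (hx₀ : x₀ ∈ R.X) (hg : g ∈ f4m_r1_C R) : x₀ * g ∈ f4m_r1_C R := by
  rcases hg with ⟨x, hx, t, ht, rfl⟩ | ⟨x, hx, t, ht, x', hx', rfl⟩
  · exact Or.inl ⟨x₀ * x, mul_mem hx₀ hx, t, ht, by group⟩
  · exact Or.inr ⟨x₀ * x, mul_mem hx₀ hx, t, ht, x', hx', by group⟩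

include hTX in
theorem f4m_r1_T_mul {t₀ g : G} (ht₀ : t₀ ∈ R.T) (hg : g ∈ f4m_r1_C R) : t₀ * g ∈ f4m_r1_C R := by
  rcases hg with ⟨x, hx, t, ht, rfl⟩ | ⟨x, hx, t, ht, x', hx', rfl⟩
  · exact Or.inl ⟨t₀ * x * t₀⁻¹, hTX t₀ ht₀ x hx, t₀ * t, mul_mem ht₀ ht, by group⟩
  · exact Or.inr ⟨t₀ * x * t₀⁻¹, hTX t₀ ht₀ x hx, t₀ * t, mul_mem ht₀ ht, x', hx', by group⟩

include hTX in
theorem f4m_r1_mul_X {g x₁ : G} (hg : g ∈ f4m_r1_C R) (hx₁ : x₁ ∈ R.X) : g * x₁ ∈ f4m_r1_C R := by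
  rcases hg with ⟨x, hx, t, ht, rfl⟩ | ⟨x, hx, t, ht, x', hx', rfl⟩
  · exact Or.inl ⟨x * (t * x₁ * t⁻¹), mul_mem hx (hTX t ht x₁ hx₁), t, ht, by group⟩
  · exact Or.inr ⟨x, hx, t, ht, x' * x₁, mul_mem hx' hx₁, by group⟩

include hR hTX in
/-- `n x n ∈ C`. -/
theorem f4m_r1_nxn {x : G} (hx : x ∈ R.X) : R.n * x * R.n ∈ f4m_r1_C R := by
  by_cases h1 : x = 1
  · subst h1
    exact Or.inl ⟨1, one_mem _, R.n * R.n, hR.sq, by group⟩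
  · obtain ⟨x', hx', t', ht', x'', hx'', e⟩ := hR.bruhat x hx h1
    have e2 : R.n * x * R.n = x' * (t' * (R.n * (R.n * R.n) * R.n⁻¹)) * R.n * ((R.n * R.n)⁻¹ * x'' * (R.n * R.n)) := by
      have : R.n * x * R.n = (R.n * x * R.n⁻¹) * (R.n * R.n) := by group
      rw [this, e]
      group
    rw [e2]
    exact Or.inr ⟨x', hx', _, mul_mem ht' (hR.n_T _ hR.sq), _, f4m_r1_TX' R hTX hR.sq hx'', rfl⟩

include hR hTX in
theorem f4m_r1_n_mul {g : G} (hg : g ∈ f4m_r1_C R) : R.n * g ∈ f4m_r1_C R := by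
  rcases hg with ⟨x, hx, t, ht, rfl⟩ | ⟨x, hx, t, ht, x', hx', rfl⟩
  · exact Or.inr ⟨1, one_mem _, R.n * t * R.n⁻¹, hR.n_T t ht, t⁻¹ * x * t, f4m_r1_TX' R hTX ht hx, by group⟩
  · have e : R.n * (x * t * R.n * x') = (R.n * t * R.n⁻¹) * (R.n * (t⁻¹ * x * t) * R.n) * x' := by group
    rw [e]
    exact f4m_r1_mul_X R hTX (f4m_r1_T_mul R hTX (hR.n_T t ht) (f4m_r1_nxn R hR hTX (f4m_r1_TX' R hTX ht hx))) hx'

include hR hTX in
theorem f4m_r1_ninv_mul {g : G} (hg : g ∈ f4m_r1_C R) : R.n⁻¹ * g ∈ f4m_r1_C R := by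
  have e : R.n⁻¹ * g = (R.n * R.n)⁻¹ * (R.n * g) := by group
  rw [e]
  exact f4m_r1_T_mul R hTX (inv_mem hR.sq) (f4m_r1_n_mul R hR hTX hg)

include hR hTX in
theorem f4m_r1_Y_mul {y g : G} (hy : y ∈ R.Y) (hg : g ∈ f4m_r1_C R) : y * g ∈ f4m_r1_C R := by
  have e : y * g = R.n⁻¹ * ((R.n * y * R.n⁻¹) * (R.n * g)) := by group
  rw [e]
  exact f4m_r1_ninv_mul R hR hTX (f4m_r1_X_mul R (hR.conj_Y y hy) (f4m_r1_n_mul R hR hTX hg))

end cells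

/-- `L = X T ∪ X T n X`. -/
theorem f4m_r1_cells (R : R1 G) (hR : R.Ok) (hTX : ∀ t ∈ R.T, ∀ x ∈ R.X, t * x * t⁻¹ ∈ R.X) :
    ∀ g ∈ R.L, (∃ x ∈ R.X, ∃ t ∈ R.T, g = x * t) ∨ (∃ x ∈ R.X, ∃ t ∈ R.T, ∃ x' ∈ R.X, g = x * t * R.n * x') := by
  have hL : R.L = Subgroup.closure ((R.X : Set G) ∪ R.Y) := by
    rw [Subgroup.closure_union, Subgroup.closure_eq, Subgroup.closure_eq]
    rfl
  have hgen : ∀ s ∈ (R.X : Set G) ∪ R.Y, ∀ c ∈ f4m_r1_C R, s * c ∈ f4m_r1_C R := by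
    rintro s (hs | hs) c hc
    · exact f4m_r1_X_mul R hs hc
    · exact f4m_r1_Y_mul R hR hTX hs hc
  have key : ∀ g ∈ Subgroup.closure ((R.X : Set G) ∪ R.Y), ∀ c ∈ f4m_r1_C R, g * c ∈ f4m_r1_C R := by
    intro g hg
    induction hg using Subgroup.closure_induction'' with
    | mem s hs => exact hgen s hs
    | inv_mem s hs =>
      refine hgen s⁻¹ ?_
      rcases hs with hs | hs
      · exact Or.inl (inv_mem hs)
      · exact Or.inr (inv_mem hs)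
    | one => intro c hc; rwa [one_mul]
    | mul a b _ _ ha hb => intro c hc; rw [mul_assoc]; exact ha _ (hb c hc)
  intro g hg
  rw [hL] at hg
  have := key g hg 1 (f4m_r1_one_mem R)
  rwa [mul_one] at this

end Cfsg.Agent.F4M
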