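import Mathlib
import Cfsg.Agent.Helper7.ChevF4q
import Cfsg.Agent.Helper7.ChevIso2
import Cfsg.Agent.Helper7.ChevTabF4

set_option autoImplicit false
set_option linter.unusedSectionVars false
set_option linter.unusedVariables false

/-!
# S2114, package B3 (first part): the `4`-dimensional block of the root elements of the class `b`

The four root vectors `e_33, e_34, e_35, e_37` of the adjoint module of `F₄` span a subspace stable under the root elements
`x_r(t)`, `r ∈ {25, 27, 28, 30, 22, 20, 19, 17}`.  `f4m_rho_Stab g`: the columns of `g` at these four coordinates are supported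
on the four coordinates; `f4m_rho_blk g`: the `4 × 4` block.  The block is multiplicative on the stable matrices.
-/

namespace Cfsg.Agent.F4M

open Cfsg Cfsg.Lie Cfsg.Agent.Helper7 Cfsg.Agent.Helper7.Chev Matrix

variable {K : Type*} [Field K]

/-- the four weights. -/
def f4m_rho_idx : Fin 4 → Fin chevF4.nroots :=
  ![⟨33, by decide⟩, ⟨34, by decide⟩, ⟨35, by decide⟩, ⟨37, by decide⟩]

/-- the four coordinates. -/
def f4m_rho_i (i : Fin 4) : chevF4.Idx := Sum.inr (f4m_rho_idx i)

theorem f4m_rho_i_injective : Function.Injective f4m_rho_i := by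
  intro i j h
  have h1 : f4m_rho_idx i = f4m_rho_idx j := Sum.inr.inj h
  revert h1
  fin_cases i <;> fin_cases j <;> decide

/-- the columns at the four coordinates are supported on the four coordinates. -/
def f4m_rho_Stab (g : Matrix chevF4.Idx chevF4.Idx K) : Prop :=
  ∀ a : chevF4.Idx, (∀ i, a ≠ f4m_rho_i i) → ∀ j, g a (f4m_rho_i j) = 0

/-- the `4 × 4` block. -/
def f4m_rho_blk (g : Matrix chevF4.Idx chevF4.Idx K) : Matrix (Fin 4) (Fin 4) K :=
  g.submatrix f4m_rho_i f4m_rho_i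

theorem f4m_rho_blk_apply (g : Matrix chevF4.Idx chevF4.Idx K) (i j : Fin 4) :
    f4m_rho_blk g i j = g (f4m_rho_i i) (f4m_rho_i j) := rfl

theorem f4m_rho_Stab_one : f4m_rho_Stab (1 : Matrix chevF4.Idx chevF4.Idx K) := by
  intro a ha j
  rw [Matrix.one_apply_ne (ha j)]

theorem f4m_rho_blk_one : f4m_rho_blk (1 : Matrix chevF4.Idx chevF4.Idx K) = 1 := by
  ext i j
  rw [f4m_rho_blk_apply, Matrix.one_apply, Matrix.one_apply]
  by_cases h : i = j
  · rw [if_pos h, if_pos (congrArg _ h)]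
  · rw [if_neg h, if_neg (fun h' => h (f4m_rho_i_injective h'))]

theorem f4m_rho_Stab_mul {g g' : Matrix chevF4.Idx chevF4.Idx K} (h : f4m_rho_Stab g) (h' : f4m_rho_Stab g') :
    f4m_rho_Stab (g * g') := by
  intro a ha j
  rw [Matrix.mul_apply]
  apply Finset.sum_eq_zero
  intro b _
  by_cases hb : ∃ k, b = f4m_rho_i k
  · obtain ⟨k, rfl⟩ := hb
    rw [h a ha k, zero_mul]
  · push Not at hb
    rw [h' b hb j, mul_zero]

theorem f4m_rho_blk_mul (g : Matrix chevF4.Idx chevF4.Idx K) {g' : Matrix chevF4.Idx chevF4.Idx K}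
    (h' : f4m_rho_Stab g') : f4m_rho_blk (g * g') = f4m_rho_blk g * f4m_rho_blk g' := by
  ext i j
  rw [f4m_rho_blk_apply, Matrix.mul_apply, Matrix.mul_apply]
  symm
  apply Finset.sum_of_injOn f4m_rho_i
  · exact f4m_rho_i_injective.injOn
  · intro k _
    exact Finset.mem_coe.mpr (Finset.mem_univ _)
  · intro a _ ha
    rw [h' a (fun k hk => ha ⟨k, Finset.mem_coe.mpr (Finset.mem_univ _), hk.symm⟩) j, mul_zero]
  · intro k _
    rfl

/-- the eight roots of the class `b`. -/
def f4m_rho_R8 : List ℕ := [25, 27, 28, 30, 22, 20, 19, 17]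

/-- the four weights. -/
def f4m_rho_W4 : List ℕ := [33, 34, 35, 37]

/-- the four weights, as a test on the coordinates of the fast table. -/
def f4m_rho_inI4 : ℕ ⊕ ℕ → Bool
  | Sum.inl _ => false
  | Sum.inr s => s == 33 || s == 34 || s == 35 || s == 37

set_option maxRecDepth 100000 in
theorem f4m_rho_stab_dec : ∀ r ∈ f4m_rho_R8, ∀ x ∈ fastF4.idxList, f4m_rho_inI4 x = false → ∀ s ∈ f4m_rho_W4,
    fastF4.entry r x (Sum.inr s) = [] := by decide +kernel

theorem f4m_rho_x_apply (r : Fin 48) (t : K) (a b : chevF4.Idx) :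
    ((fx K r t : GL chevF4.Idx K) : Matrix chevF4.Idx chevF4.Idx K) a b =
      evalL (fastF4.entry r.val (raw chevF4 a) (raw chevF4 b)) t := by
  have hr : r.val < chevF4.nroots := r.2
  rw [fx_coe, x_of_lt chevF4 K hr, xMat_apply_eq_evalL ⟨r.val, hr⟩ (good3_F4.toGood1.keysNodup hr), tab_F4]

theorem f4m_rho_raw_i (j : Fin 4) : ∃ s ∈ f4m_rho_W4, raw chevF4 (f4m_rho_i j) = Sum.inr s := by
  fin_cases j
  · exact ⟨33, by decide, rfl⟩
  · exact ⟨34, by decide, rfl⟩
  · exact ⟨35, by decide, rfl⟩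
  · exact ⟨37, by decide, rfl⟩

theorem f4m_rho_raw_not_mem {a : chevF4.Idx} (ha : ∀ i, a ≠ f4m_rho_i i) : f4m_rho_inI4 (raw chevF4 a) = false := by
  rcases a with i | s
  · rfl
  · by_contra h
    have h' : s.val = 33 ∨ s.val = 34 ∨ s.val = 35 ∨ s.val = 37 := by
      by_contra hc
      push Not at hc
      apply h
      simp [raw, f4m_rho_inI4, hc.1, hc.2.1, hc.2.2.1, hc.2.2.2]
    rcases h' with h' | h' | h' | h'
    · exact ha 0 (congrArg Sum.inr (Fin.ext h'))
    · exact ha 1 (congrArg Sum.inr (Fin.ext h'))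
    · exact ha 2 (congrArg Sum.inr (Fin.ext h'))
    · exact ha 3 (congrArg Sum.inr (Fin.ext h'))

theorem f4m_rho_Stab_fx {r : Fin 48} (hr : r.val ∈ f4m_rho_R8) (t : K) :
    f4m_rho_Stab ((fx K r t : GL chevF4.Idx K) : Matrix chevF4.Idx chevF4.Idx K) := by
  intro a ha j
  rw [f4m_rho_x_apply]
  have hmem : raw chevF4 a ∈ fastF4.idxList := by
    have := raw_mem_idxList (D := chevF4) a
    rwa [tab_F4] at this
  obtain ⟨s, hs, e⟩ := f4m_rho_raw_i j
  rw [e, f4m_rho_stab_dec r.val hr _ hmem (f4m_rho_raw_not_mem ha) s hs]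
  rfl

end Cfsg.Agent.F4M
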