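import Mathlib
import Cfsg.Agent.F4M.RhoBlk

set_option autoImplicit false
set_option linter.unusedSectionVars false
set_option linter.unusedVariables false

/-!
# S2114, package B3 (second part): the blocks of the eight root elements and the representation `ρ`
-/

namespace Cfsg.Agent.F4M

open Cfsg Cfsg.Lie Cfsg.Agent.Helper7 Cfsg.Agent.Helper7.Chev Matrix

variable {K : Type*} [Field K]

/-- the block of `x_r(t)` as lists of monomials. -/
def f4m_rho_ent (r : ℕ) (i j : Fin 4) : List (ℕ × ℤ) :=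
  fastF4.entry r (Sum.inr (f4m_rho_idx i).val) (Sum.inr (f4m_rho_idx j).val)

theorem f4m_rho_blk_fx (r : Fin 48) (t : K) (i j : Fin 4) :
    f4m_rho_blk ((fx K r t : GL chevF4.Idx K) : Matrix chevF4.Idx chevF4.Idx K) i j =
      evalL (f4m_rho_ent r.val i j) t := by
  rw [f4m_rho_blk_apply, f4m_rho_x_apply]
  rfl

/-- the tables of the eight blocks. -/
def f4m_rho_T (r : ℕ) : Fin 4 → Fin 4 → List (ℕ × ℤ) :=
  if r = 25 then ![![[(0, 1)], [], [], []], ![[], [(0, 1)], [], []], ![[], [(1, 1)], [(0, 1)], []], ![[], [], [], [(0, 1)]]]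
  else if r = 27 then ![![[(0, 1)], [], [], []], ![[(1, 1)], [(0, 1)], [], []], ![[], [], [(0, 1)], []], ![[], [], [(1, 1)], [(0, 1)]]]
  else if r = 28 then ![![[(0, 1)], [], [], []], ![[], [(0, 1)], [], []], ![[(1, 1)], [], [(0, 1)], []], ![[], [(1, -1)], [], [(0, 1)]]]
  else if r = 30 then ![![[(0, 1)], [], [], []], ![[], [(0, 1)], [], []], ![[], [], [(0, 1)], []], ![[(1, 1)], [], [], [(0, 1)]]]
  else if r = 22 then ![![[(0, 1)], [], [], []], ![[], [(0, 1)], [(1, 1)], []], ![[], [], [(0, 1)], []], ![[], [], [], [(0, 1)]]]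
  else if r = 20 then ![![[(0, 1)], [(1, 1)], [], []], ![[], [(0, 1)], [], []], ![[], [], [(0, 1)], [(1, 1)]], ![[], [], [], [(0, 1)]]]
  else if r = 19 then ![![[(0, 1)], [], [(1, 1)], []], ![[], [(0, 1)], [], [(1, -1)]], ![[], [], [(0, 1)], []], ![[], [], [], [(0, 1)]]]
  else ![![[(0, 1)], [], [], [(1, 1)]], ![[], [(0, 1)], [], []], ![[], [], [(0, 1)], []], ![[], [], [], [(0, 1)]]]

set_option maxRecDepth 100000 in
theorem f4m_rho_ent_eq : ∀ r ∈ f4m_rho_R8, ∀ i j : Fin 4, f4m_rho_ent r i j = f4m_rho_T r i j := by decide +kernel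

theorem f4m_rho_blk_25 (t : K) : f4m_rho_blk ((fx K 25 t : GL chevF4.Idx K) : Matrix chevF4.Idx chevF4.Idx K) =
    !![1, 0, 0, 0; 0, 1, 0, 0; 0, t, 1, 0; 0, 0, 0, 1] := by
  ext i j
  rw [f4m_rho_blk_fx, f4m_rho_ent_eq _ (by decide)]
  fin_cases i <;> fin_cases j <;> simp [evalL, f4m_rho_T]

theorem f4m_rho_blk_27 (t : K) : f4m_rho_blk ((fx K 27 t : GL chevF4.Idx K) : Matrix chevF4.Idx chevF4.Idx K) =
    !![1, 0, 0, 0; t, 1, 0, 0; 0, 0, 1, 0; 0, 0, t, 1] := by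
  ext i j
  rw [f4m_rho_blk_fx, f4m_rho_ent_eq _ (by decide)]
  fin_cases i <;> fin_cases j <;> simp [evalL, f4m_rho_T]

theorem f4m_rho_blk_28 (t : K) : f4m_rho_blk ((fx K 28 t : GL chevF4.Idx K) : Matrix chevF4.Idx chevF4.Idx K) =
    !![1, 0, 0, 0; 0, 1, 0, 0; t, 0, 1, 0; 0, -t, 0, 1] := by
  ext i j
  rw [f4m_rho_blk_fx, f4m_rho_ent_eq _ (by decide)]
  fin_cases i <;> fin_cases j <;> simp [evalL, f4m_rho_T]

theorem f4m_rho_blk_30 (t : K) : f4m_rho_blk ((fx K 30 t : GL chevF4.Idx K) : Matrix chevF4.Idx chevF4.Idx K) =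
    !![1, 0, 0, 0; 0, 1, 0, 0; 0, 0, 1, 0; t, 0, 0, 1] := by
  ext i j
  rw [f4m_rho_blk_fx, f4m_rho_ent_eq _ (by decide)]
  fin_cases i <;> fin_cases j <;> simp [evalL, f4m_rho_T]

theorem f4m_rho_blk_22 (t : K) : f4m_rho_blk ((fx K 22 t : GL chevF4.Idx K) : Matrix chevF4.Idx chevF4.Idx K) =
    !![1, 0, 0, 0; 0, 1, t, 0; 0, 0, 1, 0; 0, 0, 0, 1] := by
  ext i j
  rw [f4m_rho_blk_fx, f4m_rho_ent_eq _ (by decide)]
  fin_cases i <;> fin_cases j <;> simp [evalL, f4m_rho_T]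

theorem f4m_rho_blk_20 (t : K) : f4m_rho_blk ((fx K 20 t : GL chevF4.Idx K) : Matrix chevF4.Idx chevF4.Idx K) =
    !![1, t, 0, 0; 0, 1, 0, 0; 0, 0, 1, t; 0, 0, 0, 1] := by
  ext i j
  rw [f4m_rho_blk_fx, f4m_rho_ent_eq _ (by decide)]
  fin_cases i <;> fin_cases j <;> simp [evalL, f4m_rho_T]

theorem f4m_rho_blk_19 (t : K) : f4m_rho_blk ((fx K 19 t : GL chevF4.Idx K) : Matrix chevF4.Idx chevF4.Idx K) =
    !![1, 0, t, 0; 0, 1, 0, -t; 0, 0, 1, 0; 0, 0, 0, 1] := by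
  ext i j
  rw [f4m_rho_blk_fx, f4m_rho_ent_eq _ (by decide)]
  fin_cases i <;> fin_cases j <;> simp [evalL, f4m_rho_T]

theorem f4m_rho_blk_17 (t : K) : f4m_rho_blk ((fx K 17 t : GL chevF4.Idx K) : Matrix chevF4.Idx chevF4.Idx K) =
    !![1, 0, 0, t; 0, 1, 0, 0; 0, 0, 1, 0; 0, 0, 0, 1] := by
  ext i j
  rw [f4m_rho_blk_fx, f4m_rho_ent_eq _ (by decide)]
  fin_cases i <;> fin_cases j <;> simp [evalL, f4m_rho_T]

/-- the subgroup of the invertible matrices stabilising the four coordinates, together with their inverses. -/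
def f4m_rho_S (K : Type*) [Field K] : Subgroup (GL chevF4.Idx K) where
  carrier := {g | f4m_rho_Stab ((g : GL chevF4.Idx K) : Matrix chevF4.Idx chevF4.Idx K) ∧
    f4m_rho_Stab ((g⁻¹ : GL chevF4.Idx K) : Matrix chevF4.Idx chevF4.Idx K)}
  mul_mem' := by
    rintro a b ⟨ha, ha'⟩ ⟨hb, hb'⟩
    refine ⟨?_, ?_⟩
    · rw [Units.val_mul]
      exact f4m_rho_Stab_mul ha hb
    · rw [_root_.mul_inv_rev, Units.val_mul]
      exact f4m_rho_Stab_mul hb' ha'
  one_mem' := by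
    refine ⟨?_, ?_⟩
    · rw [Units.val_one]
      exact f4m_rho_Stab_one
    · rw [inv_one, Units.val_one]
      exact f4m_rho_Stab_one
  inv_mem' := by
    rintro a ⟨ha, ha'⟩
    refine ⟨ha', ?_⟩
    rw [inv_inv]
    exact ha

theorem f4m_rho_mem_S {g : GL chevF4.Idx K} : g ∈ f4m_rho_S K ↔
    f4m_rho_Stab ((g : GL chevF4.Idx K) : Matrix chevF4.Idx chevF4.Idx K) ∧
    f4m_rho_Stab ((g⁻¹ : GL chevF4.Idx K) : Matrix chevF4.Idx chevF4.Idx K) := Iff.rfl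

/-- the representation `ρ` on the stabiliser. -/
def f4m_rho_hom (K : Type*) [Field K] : ↥(f4m_rho_S K) →* Matrix (Fin 4) (Fin 4) K where
  toFun g := f4m_rho_blk ((g : GL chevF4.Idx K) : Matrix chevF4.Idx chevF4.Idx K)
  map_one' := f4m_rho_blk_one
  map_mul' a b := by
    change f4m_rho_blk (((a : GL chevF4.Idx K) * (b : GL chevF4.Idx K) : GL chevF4.Idx K) :
      Matrix chevF4.Idx chevF4.Idx K) = _
    rw [Units.val_mul]
    exact f4m_rho_blk_mul _ b.2.1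

theorem f4m_rho_hom_apply (g : ↥(f4m_rho_S K)) :
    f4m_rho_hom K g = f4m_rho_blk ((g : GL chevF4.Idx K) : Matrix chevF4.Idx chevF4.Idx K) := rfl

theorem f4m_rho_fx_mem {r : Fin 48} (hr : r.val ∈ f4m_rho_R8) (t : K) : fx K r t ∈ f4m_rho_S K := by
  refine ⟨f4m_rho_Stab_fx hr t, ?_⟩
  rw [fx_inv]
  exact f4m_rho_Stab_fx hr (-t)

section quad

variable [CharP K 2] {m : ℕ}

theorem f4m_rho_xQ_pos_mem (s t c d : K) : (quadPos K).xQ s t c d ∈ f4m_rho_S K := by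
  unfold B2Quad.xQ
  refine mul_mem (mul_mem (mul_mem ?_ ?_) ?_) ?_
  · exact f4m_rho_fx_mem (r := 27) (by decide) _
  · exact f4m_rho_fx_mem (r := 25) (by decide) _
  · exact f4m_rho_fx_mem (r := 28) (by decide) _
  · exact f4m_rho_fx_mem (r := 30) (by decide) _

theorem f4m_rho_xQ_neg_mem (s t c d : K) : (quadNeg K).xQ s t c d ∈ f4m_rho_S K := by
  unfold B2Quad.xQ
  refine mul_mem (mul_mem (mul_mem ?_ ?_) ?_) ?_
  · exact f4m_rho_fx_mem (r := 20) (by decide) _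
  · exact f4m_rho_fx_mem (r := 22) (by decide) _
  · exact f4m_rho_fx_mem (r := 19) (by decide) _
  · exact f4m_rho_fx_mem (r := 17) (by decide) _

theorem f4m_rho_xS_pos_mem (t u : K) : (quadPos K).xS m t u ∈ f4m_rho_S K := f4m_rho_xQ_pos_mem _ _ _ _

theorem f4m_rho_xS_neg_mem (t u : K) : (quadNeg K).xS m t u ∈ f4m_rho_S K := f4m_rho_xQ_neg_mem _ _ _ _

theorem f4m_rho_N2_mem : f4N2 K ∈ f4m_rho_S K := by
  rw [f4N2_eq (m := 0)]
  exact mul_mem (mul_mem (f4m_rho_xS_pos_mem _ _) (f4m_rho_xS_neg_mem _ _)) (f4m_rho_xS_pos_mem _ _)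

end quad

end Cfsg.Agent.F4M
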