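import Mathlib
import Cfsg.Agent.F4M.RhoHom
import Cfsg.Agent.F4M.RhoPerf
import Cfsg.Agent.F4M.R1Cells

set_option autoImplicit false
set_option linter.unusedSectionVars false
set_option linter.unusedVariables false

/-!
# S2114, package B3 (fourth part): the representation `ρ` is injective on `L_b`
-/

namespace Cfsg.Agent.F4M

open Cfsg Cfsg.Lie Cfsg.Agent.Helper7 Cfsg.Agent.Helper7.Chev Cfsg.Agent.CtRecM Cfsg.Agent.CtRecT Matrix

variable {K : Type*} [Field K] [CharP K 2] {m : ℕ} (hm : ∀ t : K, t ^ 2 ^ (2 * m + 1) = t)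

theorem f4m_rho_blk_xQ_pos (s t c d : K) :
    f4m_rho_blk (((quadPos K).xQ s t c d : GL chevF4.Idx K) : Matrix chevF4.Idx chevF4.Idx K) =
      !![1, 0, 0, 0; s, 1, 0, 0; c, t, 1, 0; s * c + d, s * t + c, s, 1] := by
  change f4m_rho_blk ((fx K 27 s * fx K 25 t * fx K 28 c * fx K 30 d : GL chevF4.Idx K) :
    Matrix chevF4.Idx chevF4.Idx K) = _
  rw [Units.val_mul, Units.val_mul, Units.val_mul,
    f4m_rho_blk_mul _ (f4m_rho_Stab_fx (r := 30) (by decide) d),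
    f4m_rho_blk_mul _ (f4m_rho_Stab_fx (r := 28) (by decide) c),
    f4m_rho_blk_mul _ (f4m_rho_Stab_fx (r := 25) (by decide) t),
    f4m_rho_blk_27, f4m_rho_blk_25, f4m_rho_blk_28, f4m_rho_blk_30]
  ext i j
  fin_cases i <;> fin_cases j <;> simp [Matrix.mul_apply, Fin.sum_univ_four, neg_eq_self_char2]

theorem f4m_rho_blk_xQ_neg (s t c d : K) :
    f4m_rho_blk (((quadNeg K).xQ s t c d : GL chevF4.Idx K) : Matrix chevF4.Idx chevF4.Idx K) =
      !![1, s, c + s * t, d + s * c; 0, 1, t, c; 0, 0, 1, s; 0, 0, 0, 1] := by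
  change f4m_rho_blk ((fx K 20 s * fx K 22 t * fx K 19 c * fx K 17 d : GL chevF4.Idx K) :
    Matrix chevF4.Idx chevF4.Idx K) = _
  rw [Units.val_mul, Units.val_mul, Units.val_mul,
    f4m_rho_blk_mul _ (f4m_rho_Stab_fx (r := 17) (by decide) d),
    f4m_rho_blk_mul _ (f4m_rho_Stab_fx (r := 19) (by decide) c),
    f4m_rho_blk_mul _ (f4m_rho_Stab_fx (r := 22) (by decide) t),
    f4m_rho_blk_20, f4m_rho_blk_22, f4m_rho_blk_19, f4m_rho_blk_17]
  ext i j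
  fin_cases i <;> fin_cases j <;> simp [Matrix.mul_apply, Fin.sum_univ_four, neg_eq_self_char2]

theorem f4m_rho_blk_xS_pos (t u : K) :
    f4m_rho_blk (((quadPos K).xS m t u : GL chevF4.Idx K) : Matrix chevF4.Idx chevF4.Idx K) =
      !![1, 0, 0, 0; f4Th K m t, 1, 0, 0; f4Th K m t * t + u, t, 1, 0;
        f4Th K m t * (f4Th K m t * t + u) + f4Th K (m + 1) u, f4Th K m t * t + (f4Th K m t * t + u),
        f4Th K m t, 1] :=
  f4m_rho_blk_xQ_pos _ _ _ _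

/-- the block of `n_b`. -/
theorem f4m_rho_blk_N2 :
    f4m_rho_blk ((f4N2 K : GL chevF4.Idx K) : Matrix chevF4.Idx chevF4.Idx K) =
      !![0, 0, 0, 1; 0, 0, 1, 0; 0, 1, 0, 0; 1, 0, 0, 0] := by
  have e1 : (quadPos K).xS 0 1 0 = (quadPos K).xQ 1 1 1 0 := by
    unfold B2Quad.xS
    simp only [map_one, map_zero, mul_one, add_zero]
  have e2 : (quadNeg K).xS 0 0 1 = (quadNeg K).xQ 0 0 1 1 := by
    unfold B2Quad.xS
    simp only [map_one, map_zero, mul_zero, zero_add]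
  have e3 : (quadPos K).xS 0 1 1 = (quadPos K).xQ 1 1 0 1 := by
    unfold B2Quad.xS
    simp only [map_one, mul_one]
    rw [add_self_char2]
  rw [f4N2_eq (m := 0), e1, e2, e3, Units.val_mul, Units.val_mul,
    f4m_rho_blk_mul _ (f4m_rho_xQ_pos_mem 1 1 0 1).1,
    f4m_rho_blk_mul _ (f4m_rho_xQ_neg_mem 0 0 1 1).1,
    f4m_rho_blk_xQ_pos, f4m_rho_blk_xQ_neg, f4m_rho_blk_xQ_pos]
  have h2 : (1 : K) + 1 = 0 := add_self_char2 1
  ext i j
  fin_cases i <;> fin_cases j <;> simp [Matrix.mul_apply, Fin.sum_univ_four, h2]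

theorem f4m_rho_Stab_diagonal (d : chevF4.Idx → K) : f4m_rho_Stab (Matrix.diagonal d) := by
  intro a ha j
  exact Matrix.diagonal_apply_ne _ (ha j)

theorem f4m_rho_blk_diagonal (d : chevF4.Idx → K) :
    f4m_rho_blk (Matrix.diagonal d) = Matrix.diagonal (fun i => d (f4m_rho_i i)) := by
  ext i j
  rw [f4m_rho_blk_apply, Matrix.diagonal_apply, Matrix.diagonal_apply]
  by_cases h : i = j
  · rw [if_pos h, if_pos (congrArg _ h)]
  · rw [if_neg h, if_neg (fun h' => h (f4m_rho_i_injective h'))]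

/-- the diagonal of a torus element. -/
noncomputable def f4m_rho_dd (c₀ c₁ c₂ c₃ : Kˣ) : chevF4.Idx → K :=
  tEntry chevF4 (List.range chevF4.rank) (extc chevF4.rank (f4c c₀ c₁ c₂ c₃))

theorem f4m_rho_tF4_coe (c₀ c₁ c₂ c₃ : Kˣ) :
    ((tF4 c₀ c₁ c₂ c₃ : GL chevF4.Idx K) : Matrix chevF4.Idx chevF4.Idx K) =
      Matrix.diagonal (f4m_rho_dd c₀ c₁ c₂ c₃) := rfl

theorem f4m_rho_dd_zero (c₀ c₁ c₂ c₃ : Kˣ) :
    f4m_rho_dd c₀ c₁ c₂ c₃ (f4m_rho_i 0) = (c₀ : K) ^ 2 * (c₁ : K)⁻¹ := by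
  obtain ⟨⟨h0, h1, h2, h3⟩, _⟩ := f4_cartan_simple
  have hr : List.range chevF4.rank = [0, 1, 2, 3] := by decide
  unfold f4m_rho_dd tEntry
  rw [hr]
  change ([0, 1, 2, 3].map (fun i => extc chevF4.rank (f4c c₀ c₁ c₂ c₃) i ^ chevF4.cartan i 33)).prod = _
  simp only [List.map_cons, List.map_nil, List.prod_cons, List.prod_nil, h0, h1, h2, h3]
  have e0 : extc chevF4.rank (f4c c₀ c₁ c₂ c₃) 0 = (c₀ : K) := by
    unfold extc; rw [dif_pos (by decide)]; rfl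
  have e1 : extc chevF4.rank (f4c c₀ c₁ c₂ c₃) 1 = (c₁ : K) := by
    unfold extc; rw [dif_pos (by decide)]; rfl
  rw [e0, e1, zpow_zero, zpow_zero, _root_.zpow_neg_one, mul_one, mul_one, mul_one,
    show (2 : ℤ) = ((2 : ℕ) : ℤ) from rfl, zpow_natCast]

/-- the first diagonal entry of `ρ(h(1,u))`. -/
noncomputable def f4m_rho_d0 (m : ℕ) (u : Kˣ) : K :=
  f4m_rho_dd (f4ThU K m 1) (f4ThU K m u) u 1 (f4m_rho_i 0)

theorem f4m_rho_d0_eq (u : Kˣ) : f4m_rho_d0 m u = (f4Th K m (u : K))⁻¹ := by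
  unfold f4m_rho_d0
  rw [f4m_rho_dd_zero, f4ThU_coe, f4ThU_coe, Units.val_one, map_one, one_pow, one_mul]

theorem f4m_rho_d0_ne (u : Kˣ) : f4m_rho_d0 m u ≠ 0 := by
  rw [f4m_rho_d0_eq]
  exact inv_ne_zero (fun h => u.ne_zero ((map_eq_zero _).mp h))

include hm in
theorem f4m_rho_d0_one {u : Kˣ} (h : f4m_rho_d0 m u = 1) : u = 1 := by
  rw [f4m_rho_d0_eq, inv_eq_one] at h
  apply Units.ext
  apply (f4Th_bijective hm).1
  rw [h, Units.val_one, map_one]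

/-- the block of `h(1,u)`. -/
theorem f4m_rho_blk_h (u : Kˣ) :
    f4m_rho_blk ((gh4 K m (1, u) : GL chevF4.Idx K) : Matrix chevF4.Idx chevF4.Idx K) =
      Matrix.diagonal (fun i => f4m_rho_dd (f4ThU K m 1) (f4ThU K m u) u 1 (f4m_rho_i i)) := by
  rw [gh4_apply, f4m_rho_tF4_coe, f4m_rho_blk_diagonal]

theorem f4m_rho_Stab_h (u : Kˣ) :
    f4m_rho_Stab ((gh4 K m (1, u) : GL chevF4.Idx K) : Matrix chevF4.Idx chevF4.Idx K) := by
  rw [gh4_apply, f4m_rho_tF4_coe]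
  exact f4m_rho_Stab_diagonal _

/-- the elements of `L_b` stabilise the four coordinates. -/
theorem f4m_rho_L_mem {g : F4G K m} (hg : g ∈ (f4mRb hm).L) :
    ((g : F4G K m) : GL chevF4.Idx K) ∈ f4m_rho_S K := by
  have hle : (f4mRb hm).L ≤ (f4m_rho_S K).comap (twistedF4 K (2 ^ m)).subtype := by
    refine sup_le ?_ ?_
    · intro x hx
      obtain ⟨t, u, rfl⟩ := f4m_rho_mem_Xb hm hx
      exact f4m_rho_xS_pos_mem t u
    · intro y hy
      obtain ⟨t, u, rfl⟩ := f4m_rho_mem_Yb hm hy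
      change f4N2 K * (quadPos K).xS m t u * (f4N2 K)⁻¹ ∈ f4m_rho_S K
      exact mul_mem (mul_mem f4m_rho_N2_mem (f4m_rho_xS_pos_mem t u)) (inv_mem f4m_rho_N2_mem)
  exact hle hg

/-- the representation `ρ` on `L_b`. -/
noncomputable def f4m_rho_L : ↥((f4mRb hm).L) →* Matrix (Fin 4) (Fin 4) K :=
  (f4m_rho_hom K).comp
    (((twistedF4 K (2 ^ m)).subtype.comp (f4mRb hm).L.subtype).codRestrict (f4m_rho_S K)
      (fun g => f4m_rho_L_mem hm g.2))

theorem f4m_rho_L_apply (g : ↥((f4mRb hm).L)) :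
    f4m_rho_L hm g = f4m_rho_blk ((((g : F4G K m) : GL chevF4.Idx K)) : Matrix chevF4.Idx chevF4.Idx K) := rfl

/-- `T_b` normalizes `X_b`. -/
theorem f4m_rho_hTX : ∀ t ∈ (f4mRb hm).T, ∀ x ∈ (f4mRb hm).X, t * x * t⁻¹ ∈ (f4mRb hm).X := by
  intro t ht x hx
  obtain ⟨p, rfl⟩ : ∃ p, f4mH hm p = t := (Subgroup.mem_inf.mp ht).1
  exact f4m_rho_H_conj_Xb hm p hx

/-- `ρ` is injective on `L_b`. -/
theorem f4m_rho_L_injective (okb : (f4mRb hm).Ok) (hTb : f4mTb hm ≤ f4mTc hm) :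
    Function.Injective (f4m_rho_L hm) := by
  rw [injective_iff_map_eq_one]
  rintro ⟨g, hg⟩ h1
  rw [f4m_rho_L_apply] at h1
  apply Subtype.ext
  change g = 1
  change f4m_rho_blk (((g : F4G K m) : GL chevF4.Idx K) : Matrix chevF4.Idx chevF4.Idx K) = 1 at h1
  have hT : ∀ t ∈ (f4mRb hm).T, ∃ u : Kˣ, t = f4mH hm (1, u) := by
    intro t ht
    obtain ⟨⟨s, u⟩, hp, rfl⟩ := hTb ht
    have hs : s = 1 := Subgroup.mem_bot.mp (Subgroup.mem_prod.mp hp).1
    exact ⟨u, by rw [hs]⟩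
  rcases f4m_r1_cells (f4mRb hm) okb (f4m_rho_hTX hm) g hg with
    ⟨x, hx, t, ht, rfl⟩ | ⟨x, hx, t, ht, x', hx', rfl⟩
  · obtain ⟨a, b, rfl⟩ := f4m_rho_mem_Xb hm hx
    obtain ⟨u, rfl⟩ := hT t ht
    have e : f4m_rho_blk ((((xbS m a b * f4mH hm (1, u) : F4G K m)) : GL chevF4.Idx K) :
        Matrix chevF4.Idx chevF4.Idx K) =
        f4m_rho_blk (((quadPos K).xS m a b : GL chevF4.Idx K) : Matrix chevF4.Idx chevF4.Idx K) *
        f4m_rho_blk ((gh4 K m (1, u) : GL chevF4.Idx K) : Matrix chevF4.Idx chevF4.Idx K) := by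
      change f4m_rho_blk (((quadPos K).xS m a b * gh4 K m (1, u) : GL chevF4.Idx K) :
        Matrix chevF4.Idx chevF4.Idx K) = _
      rw [Units.val_mul, f4m_rho_blk_mul _ (f4m_rho_Stab_h u)]
    obtain ⟨d, hd⟩ : ∃ d : Fin 4 → K,
        d = fun i => f4m_rho_dd (f4ThU K m 1) (f4ThU K m u) u 1 (f4m_rho_i i) := ⟨_, rfl⟩
    have hd0 : d 0 = f4m_rho_d0 m u := by rw [hd]; rfl
    rw [e, f4m_rho_blk_xS_pos, f4m_rho_blk_h, ← hd] at h1
    have h00 := congrFun (congrFun h1 0) 0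
    have h10 := congrFun (congrFun h1 1) 0
    have h20 := congrFun (congrFun h1 2) 0
    simp only [Matrix.mul_diagonal] at h00 h10 h20
    simp at h00 h10 h20
    have hne : d 0 ≠ 0 := by rw [hd0]; exact f4m_rho_d0_ne u
    have ha : a = 0 := h10.resolve_right hne
    have hb : b = 0 := by
      have := h20.resolve_right hne
      rw [ha, mul_zero, zero_add] at this
      exact this
    have hu : u = 1 := f4m_rho_d0_one hm (hd0 ▸ h00)
    rw [ha, hb, hu]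
    have e1 : xbS m (0 : K) 0 = 1 := Subtype.ext (xS_zero hm)
    rw [e1, one_mul]
    exact map_one _
  · obtain ⟨a, b, rfl⟩ := f4m_rho_mem_Xb hm hx
    obtain ⟨a', b', rfl⟩ := f4m_rho_mem_Xb hm hx'
    obtain ⟨u, rfl⟩ := hT t ht
    exfalso
    have e : f4m_rho_blk ((((xbS m a b * f4mH hm (1, u) * (f4mRb hm).n * xbS m a' b' : F4G K m)) :
        GL chevF4.Idx K) : Matrix chevF4.Idx chevF4.Idx K) =
        f4m_rho_blk (((quadPos K).xS m a b : GL chevF4.Idx K) : Matrix chevF4.Idx chevF4.Idx K) *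
        f4m_rho_blk ((gh4 K m (1, u) : GL chevF4.Idx K) : Matrix chevF4.Idx chevF4.Idx K) *
        f4m_rho_blk ((f4N2 K : GL chevF4.Idx K) : Matrix chevF4.Idx chevF4.Idx K) *
        f4m_rho_blk (((quadPos K).xS m a' b' : GL chevF4.Idx K) : Matrix chevF4.Idx chevF4.Idx K) := by
      rw [f4mRb_n hm]
      change f4m_rho_blk (((quadPos K).xS m a b * gh4 K m (1, u) * f4N2 K * (quadPos K).xS m a' b' :
        GL chevF4.Idx K) : Matrix chevF4.Idx chevF4.Idx K) = _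
      rw [Units.val_mul, Units.val_mul, Units.val_mul,
        f4m_rho_blk_mul _ (f4m_rho_xS_pos_mem (m := m) a' b').1,
        f4m_rho_blk_mul _ (f4m_rho_N2_mem).1,
        f4m_rho_blk_mul _ (f4m_rho_Stab_h u)]
    obtain ⟨d, hd⟩ : ∃ d : Fin 4 → K,
        d = fun i => f4m_rho_dd (f4ThU K m 1) (f4ThU K m u) u 1 (f4m_rho_i i) := ⟨_, rfl⟩
    have hd0 : d 0 = f4m_rho_d0 m u := by rw [hd]; rfl
    rw [e, f4m_rho_blk_xS_pos, f4m_rho_blk_xS_pos, f4m_rho_blk_h, f4m_rho_blk_N2, ← hd] at h1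
    have h03 := congrFun (congrFun h1 0) 3
    simp [Matrix.mul_apply, Fin.sum_univ_four, Matrix.vecMul, dotProduct] at h03
    have hne : d 0 ≠ 0 := by rw [hd0]; exact f4m_rho_d0_ne u
    exact hne h03

end Cfsg.Agent.F4M
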