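import Mathlib
import Cfsg.Agent.F4M.ConcDefs
import Cfsg.Agent.F4M.ConcOk1

set_option autoImplicit false

/-! S2114 package B3, second half (file `Cfsg/Agent/F4M/RhoSyl.lean`, prefix `f4m_rhosyl_`): an `r`-subgroup of the rank-one group `L_b`
of Suzuki type, `r` an odd prime not dividing `q² + 1`, is conjugate into the torus `T_b = H¹ ⊓ L_b`.
Abstract part: for a rank-one datum `R : R1 G` with `R.Ok`, `T` normalizing `X`, and `Y ∩ X T = 1`, the coset space `L / T` has exactly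
`|X| + |X|²` points (cells `x T` and `x n x' T`), so an `r`-subgroup of `L`, `r ∤ |X| (|X| + 1)`, fixes a point of it. -/

namespace Cfsg.Agent.F4M

section abstract

variable {G : Type*} [Group G]

/-- a `p`-subgroup `Q` of `L` is conjugate into `T ≤ L` if `p` does not divide the number of cosets of `T` in `L`. -/
theorem f4m_rhosyl_fixed {L T Q : Subgroup G} {r : ℕ} (hr : r.Prime) (hQL : Q ≤ L) (hQr : IsPGroup r Q)
    (hidx : ¬ r ∣ Nat.card (↥L ⧸ T.subgroupOf L)) : ∃ g ∈ L, ∀ x ∈ Q, g⁻¹ * x * g ∈ T := by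
  haveI : Fact r.Prime := ⟨hr⟩
  have hQ' : IsPGroup r ↥(Q.subgroupOf L) := hQr.comap_subtype
  obtain ⟨q, hq⟩ := hQ'.nonempty_fixed_point_of_prime_not_dvd_card (↥L ⧸ T.subgroupOf L) hidx
  obtain ⟨g, rfl⟩ := QuotientGroup.mk_surjective q
  refine ⟨g, g.2, fun x hx => ?_⟩
  have h1 := hq ⟨⟨x, hQL hx⟩, hx⟩
  have h2 : (((⟨x, hQL hx⟩ : ↥L) * g : ↥L) : ↥L ⧸ T.subgroupOf L) = (g : ↥L ⧸ T.subgroupOf L) := h1
  rw [QuotientGroup.eq] at h2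
  have h3 : ((((⟨x, hQL hx⟩ : ↥L) * g)⁻¹ * g : ↥L) : G) ∈ T := Subgroup.mem_subgroupOf.mp h2
  have h4 : (g : G)⁻¹ * x * g = (((((⟨x, hQL hx⟩ : ↥L) * g)⁻¹ * g : ↥L) : G))⁻¹ := by
    simp [mul_assoc]
  rw [h4]
  exact T.inv_mem h3

/-- the two cells `X T` and `X n X T` of a rank-one group. -/
def f4m_rhosyl_cell (R : R1 G) (g : G) : Prop :=
  (∃ x ∈ R.X, ∃ t ∈ R.T, g = x * t) ∨ (∃ x ∈ R.X, ∃ x' ∈ R.X, ∃ t ∈ R.T, g = x * R.n * x' * t)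

variable {R : R1 G} (hR : R.Ok) (hTX : ∀ t ∈ R.T, ∀ x ∈ R.X, t * x * t⁻¹ ∈ R.X)

include hR in
theorem f4m_rhosyl_n_mem : R.n ∈ R.L := by
  unfold R1.n R1.L
  exact mul_mem (mul_mem (Subgroup.mem_sup_left hR.hx₁) (Subgroup.mem_sup_right hR.hy₀)) (Subgroup.mem_sup_left hR.hx₂)

include hR in
/-- `n⁻¹ T n ⊆ T`. -/
theorem f4m_rhosyl_inv_T {t : G} (ht : t ∈ R.T) : R.n⁻¹ * t * R.n ∈ R.T := by
  have e : R.n⁻¹ * t * R.n = (R.n * R.n)⁻¹ * (R.n * t * R.n⁻¹) * (R.n * R.n) := by group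
  rw [e]
  exact mul_mem (mul_mem (inv_mem hR.sq) (hR.n_T t ht)) hR.sq

include hTX in
/-- `t⁻¹ X t ⊆ X`. -/
theorem f4m_rhosyl_TX' {t x : G} (ht : t ∈ R.T) (hx : x ∈ R.X) : t⁻¹ * x * t ∈ R.X := by
  have := hTX t⁻¹ (inv_mem ht) x hx
  rwa [inv_inv] at this

include hR hTX in
/-- `n⁻¹ Y n ⊆ X`. -/
theorem f4m_rhosyl_inv_Y {y : G} (hy : y ∈ R.Y) : R.n⁻¹ * y * R.n ∈ R.X := by
  have e : R.n⁻¹ * y * R.n = (R.n * R.n)⁻¹ * (R.n * y * R.n⁻¹) * (R.n * R.n) := by group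
  rw [e]
  exact f4m_rhosyl_TX' hTX hR.sq (hR.conj_Y y hy)

include hR hTX in
/-- `n⁻¹ X n ⊆ Y`. -/
theorem f4m_rhosyl_inv_X {x : G} (hx : x ∈ R.X) : R.n⁻¹ * x * R.n ∈ R.Y := by
  have e : R.n⁻¹ * x * R.n = R.n * ((R.n * R.n)⁻¹ * x * (R.n * R.n)) * R.n⁻¹ := by group
  rw [e]
  exact hR.conj_X _ (f4m_rhosyl_TX' hTX hR.sq hx)

theorem f4m_rhosyl_cell_one : f4m_rhosyl_cell R 1 :=
  Or.inl ⟨1, one_mem _, 1, one_mem _, (mul_one 1).symm⟩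

theorem f4m_rhosyl_cell_X {x₀ g : G} (hx₀ : x₀ ∈ R.X) (hg : f4m_rhosyl_cell R g) : f4m_rhosyl_cell R (x₀ * g) := by
  rcases hg with ⟨x, hx, t, ht, rfl⟩ | ⟨x, hx, x', hx', t, ht, rfl⟩
  · exact Or.inl ⟨x₀ * x, mul_mem hx₀ hx, t, ht, by group⟩
  · exact Or.inr ⟨x₀ * x, mul_mem hx₀ hx, x', hx', t, ht, by group⟩

include hR hTX in
theorem f4m_rhosyl_cell_T {t₀ g : G} (ht₀ : t₀ ∈ R.T) (hg : f4m_rhosyl_cell R g) : f4m_rhosyl_cell R (t₀ * g) := by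
  rcases hg with ⟨x, hx, t, ht, rfl⟩ | ⟨x, hx, x', hx', t, ht, rfl⟩
  · exact Or.inl ⟨t₀ * x * t₀⁻¹, hTX t₀ ht₀ x hx, t₀ * t, mul_mem ht₀ ht, by group⟩
  · have hs := f4m_rhosyl_inv_T hR ht₀
    exact Or.inr ⟨t₀ * x * t₀⁻¹, hTX t₀ ht₀ x hx, (R.n⁻¹ * t₀ * R.n) * x' * (R.n⁻¹ * t₀ * R.n)⁻¹, hTX _ hs x' hx',
      (R.n⁻¹ * t₀ * R.n) * t, mul_mem hs ht, by group⟩

include hR hTX in
theorem f4m_rhosyl_cell_n {g : G} (hg : f4m_rhosyl_cell R g) : f4m_rhosyl_cell R (R.n * g) := by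
  rcases hg with ⟨x, hx, t, ht, rfl⟩ | ⟨x, hx, x', hx', t, ht, rfl⟩
  · exact Or.inr ⟨1, one_mem _, x, hx, t, ht, by group⟩
  · by_cases hx1 : x = 1
    · subst hx1
      exact Or.inl ⟨(R.n * R.n) * x' * (R.n * R.n)⁻¹, hTX _ hR.sq x' hx', (R.n * R.n) * t, mul_mem hR.sq ht, by group⟩
    · obtain ⟨x₁, hx₁, t₁, ht₁, x₂, hx₂, e⟩ := hR.bruhat x hx hx1
      have e2 : R.n * (x * R.n * x' * t) =
          x₁ * (t₁ * (R.n * ((x₂ * ((R.n * R.n) * x' * (R.n * R.n)⁻¹)) * ((R.n * R.n) * t)))) := by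
        have : R.n * (x * R.n * x' * t) = (R.n * x * R.n⁻¹) * (R.n * R.n) * (x' * t) := by group
        rw [this, e]
        group
      rw [e2]
      exact f4m_rhosyl_cell_X hx₁ (f4m_rhosyl_cell_T hR hTX ht₁ (Or.inr ⟨1, one_mem _, _,
        mul_mem hx₂ (hTX _ hR.sq x' hx'), _, mul_mem hR.sq ht, by group⟩))

include hR hTX in
/-- `Y = n X n⁻¹`, so left multiplication by `Y` preserves the cells. -/
theorem f4m_rhosyl_cell_Y {y g : G} (hy : y ∈ R.Y) (hg : f4m_rhosyl_cell R g) : f4m_rhosyl_cell R (y * g) := by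
  have e : y * g = R.n * ((R.n⁻¹ * y * R.n) * (R.n * ((R.n * R.n)⁻¹ * g))) := by group
  rw [e]
  exact f4m_rhosyl_cell_n hR hTX (f4m_rhosyl_cell_X (f4m_rhosyl_inv_Y hR hTX hy)
    (f4m_rhosyl_cell_n hR hTX (f4m_rhosyl_cell_T hR hTX (inv_mem hR.sq) hg)))

include hR hTX in
/-- the rank-one Bruhat decomposition `L = X T ∪ X n X T`. -/
theorem f4m_rhosyl_cell_of_mem {g : G} (hg : g ∈ R.L) : f4m_rhosyl_cell R g := by
  unfold R1.L at hg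
  rw [Subgroup.sup_eq_closure] at hg
  induction hg using Subgroup.closure_induction_left with
  | one => exact f4m_rhosyl_cell_one
  | mul_left x hx y _ ih =>
    rcases hx with hx | hx
    · exact f4m_rhosyl_cell_X hx ih
    · exact f4m_rhosyl_cell_Y hR hTX hx ih
  | inv_mul_cancel x hx y _ ih =>
    rcases hx with hx | hx
    · exact f4m_rhosyl_cell_X (inv_mem hx) ih
    · exact f4m_rhosyl_cell_Y hR hTX (inv_mem hx) ih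

variable (hdisj : ∀ y ∈ R.Y, ∀ x ∈ R.X, ∀ t ∈ R.T, y = x * t → y = 1)

include hR hdisj in
/-- `X ∩ T = 1`. -/
theorem f4m_rhosyl_X_inf_T {z : G} (hzX : z ∈ R.X) (hzT : z ∈ R.T) : z = 1 := by
  have h1 := hdisj (R.n * z * R.n⁻¹) (hR.conj_X z hzX) 1 (one_mem _) (R.n * z * R.n⁻¹) (hR.n_T z hzT) (one_mul _).symm
  have e : z = R.n⁻¹ * (R.n * z * R.n⁻¹) * R.n := by group
  rw [e, h1]
  group

include hR hTX hdisj in
/-- `n ∉ X T` if `X ≠ 1`. -/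
theorem f4m_rhosyl_n_ne (hX1 : ∃ x ∈ R.X, x ≠ 1) {x₀ t₀ : G} (hx₀ : x₀ ∈ R.X) (ht₀ : t₀ ∈ R.T) : R.n ≠ x₀ * t₀ := by
  intro hn
  obtain ⟨z, hz, hz1⟩ := hX1
  apply hz1
  have hzY := hR.conj_X z hz
  have e : R.n * z * R.n⁻¹ = (x₀ * (t₀ * z * t₀⁻¹) * x₀⁻¹) * 1 := by
    rw [hn]
    group
  have h1 := hdisj _ hzY _ (mul_mem (mul_mem hx₀ (hTX t₀ ht₀ z hz)) (inv_mem hx₀)) 1 (one_mem _) e
  have e' : z = R.n⁻¹ * (R.n * z * R.n⁻¹) * R.n := by group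
  rw [e', h1]
  group

theorem f4m_rhosyl_X_le : R.X ≤ R.L := le_sup_left

theorem f4m_rhosyl_mk_eq {a b : ↥R.L} :
    ((a : ↥R.L ⧸ R.T.subgroupOf R.L) = (b : ↥R.L ⧸ R.T.subgroupOf R.L)) ↔ (a : G)⁻¹ * (b : G) ∈ R.T := by
  rw [QuotientGroup.eq, Subgroup.mem_subgroupOf]
  simp

/-- the parametrization of `L / T` by the two cells. -/
noncomputable def f4m_rhosyl_par (hR : R.Ok) : ↥R.X ⊕ ↥R.X × ↥R.X → ↥R.L ⧸ R.T.subgroupOf R.L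
  | Sum.inl x => ((⟨x.1, f4m_rhosyl_X_le x.2⟩ : ↥R.L) : ↥R.L ⧸ R.T.subgroupOf R.L)
  | Sum.inr p => ((⟨p.1.1 * R.n * p.2.1, mul_mem (mul_mem (f4m_rhosyl_X_le p.1.2) (f4m_rhosyl_n_mem hR))
      (f4m_rhosyl_X_le p.2.2)⟩ : ↥R.L) : ↥R.L ⧸ R.T.subgroupOf R.L)

include hTX in
theorem f4m_rhosyl_par_surj : Function.Surjective (f4m_rhosyl_par hR) := by
  intro q
  obtain ⟨g, rfl⟩ := QuotientGroup.mk_surjective q
  rcases f4m_rhosyl_cell_of_mem hR hTX g.2 with ⟨x, hx, t, ht, e⟩ | ⟨x, hx, x', hx', t, ht, e⟩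
  · refine ⟨Sum.inl ⟨x, hx⟩, ?_⟩
    unfold f4m_rhosyl_par
    rw [f4m_rhosyl_mk_eq]
    change x⁻¹ * (g : G) ∈ R.T
    rw [e]
    simpa using ht
  · refine ⟨Sum.inr (⟨x, hx⟩, ⟨x', hx'⟩), ?_⟩
    unfold f4m_rhosyl_par
    rw [f4m_rhosyl_mk_eq]
    change (x * R.n * x')⁻¹ * (g : G) ∈ R.T
    rw [e]
    have : (x * R.n * x')⁻¹ * (x * R.n * x' * t) = t := by group
    rw [this]
    exact ht

include hTX hdisj in
theorem f4m_rhosyl_par_inj (hX1 : ∃ x ∈ R.X, x ≠ 1) : Function.Injective (f4m_rhosyl_par hR) := by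
  rintro (⟨x, hx⟩ | ⟨⟨x, hx⟩, ⟨x', hx'⟩⟩) (⟨y, hy⟩ | ⟨⟨y, hy⟩, ⟨y', hy'⟩⟩) h
  · unfold f4m_rhosyl_par at h
    rw [f4m_rhosyl_mk_eq] at h
    change x⁻¹ * y ∈ R.T at h
    have h1 := f4m_rhosyl_X_inf_T hR hdisj (mul_mem (inv_mem hx) hy) h
    have : x = y := by
      rw [← mul_one x, ← h1]
      group
    subst this
    rfl
  · exfalso
    unfold f4m_rhosyl_par at h
    rw [f4m_rhosyl_mk_eq] at h
    change x⁻¹ * (y * R.n * y') ∈ R.T at h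
    -- n = (y⁻¹ x) t y'⁻¹ = (y⁻¹ x (t y'⁻¹ t⁻¹)) t
    set t := x⁻¹ * (y * R.n * y') with ht
    have e : R.n = (y⁻¹ * x * (t * y'⁻¹ * t⁻¹)) * t := by
      rw [ht]
      group
    exact f4m_rhosyl_n_ne hR hTX hdisj hX1 (mul_mem (mul_mem (inv_mem hy) hx) (hTX t h _ (inv_mem hy'))) h e
  · exfalso
    unfold f4m_rhosyl_par at h
    rw [f4m_rhosyl_mk_eq] at h
    change (x * R.n * x')⁻¹ * y ∈ R.T at h
    set t := (x * R.n * x')⁻¹ * y with ht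
    -- n = x⁻¹ y t⁻¹ x'⁻¹ = (x⁻¹ y (t⁻¹ x'⁻¹ t)) t⁻¹
    have e : R.n = (x⁻¹ * y * (t⁻¹ * x'⁻¹ * t⁻¹⁻¹)) * t⁻¹ := by
      rw [ht]
      group
    exact f4m_rhosyl_n_ne hR hTX hdisj hX1 (mul_mem (mul_mem (inv_mem hx) hy) (hTX t⁻¹ (inv_mem h) _ (inv_mem hx')))
      (inv_mem h) e
  · unfold f4m_rhosyl_par at h
    rw [f4m_rhosyl_mk_eq] at h
    change (x * R.n * x')⁻¹ * (y * R.n * y') ∈ R.T at h
    set t := (x * R.n * x')⁻¹ * (y * R.n * y') with ht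
    -- n⁻¹ (x⁻¹ y) n = x' t y'⁻¹ = (x' (t y'⁻¹ t⁻¹)) t
    have e : R.n⁻¹ * (x⁻¹ * y) * R.n = (x' * (t * y'⁻¹ * t⁻¹)) * t := by
      rw [ht]
      group
    have h1 := hdisj _ (f4m_rhosyl_inv_X hR hTX (mul_mem (inv_mem hx) hy)) _
      (mul_mem hx' (hTX t h _ (inv_mem hy'))) t h e
    have hxy : x = y := by
      have e2 : x⁻¹ * y = R.n * (R.n⁻¹ * (x⁻¹ * y) * R.n) * R.n⁻¹ := by group
      rw [h1] at e2
      have e3 : x⁻¹ * y = 1 := by rw [e2]; group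
      rw [← mul_one x, ← e3]
      group
    subst hxy
    have e4 : t = x'⁻¹ * y' := by
      rw [ht]
      group
    have h2 := f4m_rhosyl_X_inf_T hR hdisj (mul_mem (inv_mem hx') hy') (e4 ▸ h)
    have hxy' : x' = y' := by
      rw [← mul_one x', ← h2]
      group
    subst hxy'
    rfl

include hR hTX hdisj in
/-- `|L / T| = |X| + |X|²`. -/
theorem f4m_rhosyl_card [Finite G] (hX1 : ∃ x ∈ R.X, x ≠ 1) :
    Nat.card (↥R.L ⧸ R.T.subgroupOf R.L) = Nat.card R.X + Nat.card R.X * Nat.card R.X := by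
  rw [← Nat.card_prod, ← Nat.card_sum]
  exact (Nat.card_congr (Equiv.ofBijective (f4m_rhosyl_par hR)
    ⟨f4m_rhosyl_par_inj hR hTX hdisj hX1, f4m_rhosyl_par_surj hR hTX⟩)).symm

include hR hTX hdisj in
/-- an `r`-subgroup of a rank-one group, `r ∤ |X| (|X| + 1)`, is conjugate into the torus. -/
theorem f4m_rhosyl_conj_abs [Finite G] (hX1 : ∃ x ∈ R.X, x ≠ 1) {r : ℕ} (hr : r.Prime) (hr1 : ¬ r ∣ Nat.card R.X)
    (hr2 : ¬ r ∣ Nat.card R.X + 1) {Q : Subgroup G} (hQ : Q ≤ R.L) (hQr : IsPGroup r Q) :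
    ∃ g ∈ R.L, ∀ x ∈ Q, g⁻¹ * x * g ∈ R.T := by
  apply f4m_rhosyl_fixed hr hQ hQr
  rw [f4m_rhosyl_card hR hTX hdisj hX1]
  have e : Nat.card R.X + Nat.card R.X * Nat.card R.X = Nat.card R.X * (Nat.card R.X + 1) := by ring
  rw [e, hr.dvd_mul]
  tauto

end abstract

section concrete

open Cfsg Cfsg.Lie Cfsg.Agent.Helper7.Chev Cfsg.Agent.CtRecM Cfsg.Agent.CtRecT

variable {K : Type*} [Field K] [CharP K 2] {m : ℕ} (hm : ∀ t : K, t ^ 2 ^ (2 * m + 1) = t)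

/-- `T_b` normalizes `X_b`. -/
theorem f4m_rhosyl_TX_b : ∀ t ∈ (f4mRb hm).T, ∀ x ∈ (f4mRb hm).X, t * x * t⁻¹ ∈ (f4mRb hm).X := by
  intro t ht x hx
  exact f4m_concO1_Hs_Xb hm t (Subgroup.mem_inf.mp ht).1 x hx

/-- `Y_b ∩ X_b T_b = 1`: `Y_b` is lower unitriangular, `X_b T_b` lies in the Borel subgroup. -/
theorem f4m_rhosyl_disj_b : ∀ y ∈ (f4mRb hm).Y, ∀ x ∈ (f4mRb hm).X, ∀ t ∈ (f4mRb hm).T, y = x * t → y = 1 := by
  intro y hy x hx t ht e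
  have hyn : (y : GL chevF4.Idx K) ∈ chevF4.negUnipotent K := by
    change y ∈ f4mYb hm at hy
    unfold f4mYb at hy
    obtain ⟨x₀, hx₀, rfl⟩ := Subgroup.mem_map.mp hy
    have hx₀' : (x₀ : GL chevF4.Idx K) ∈ (f4Cls2 hm).X := Subgroup.mem_subgroupOf.mp hx₀
    have h1 := (f4Cls2 hm).negP_le_neg good3_F4.toGood2 T0_F4
      ((f4Cls2 hm).conj_XP_le good3_F4.toGood2 T0_F4 _ ((f4Cls2 hm).X_le hx₀'))
    rw [f4N2_eq_word hm] at h1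
    simpa [MulAut.conj_apply, f4mNb] using h1
  have hyb : (y : GL chevF4.Idx K) ∈ chevF4.borelSubgroup K := by
    rw [e, Subgroup.coe_mul]
    exact mul_mem (Subgroup.mem_sup_left ((f4m_concO1_mem_U _).mp (f4m_concO1_Xb_le hm hx)))
      (Subgroup.mem_sup_right (f4m_concO1_Hs_diag hm t (Subgroup.mem_inf.mp ht).1))
  have h1 : (y : GL chevF4.Idx K) ∈ chevF4.borelSubgroup K ⊓ chevF4.negUnipotent K := ⟨hyb, hyn⟩
  rw [borel_inf_negUnipotent good3_F4.toGood2 T0_F4, Subgroup.mem_bot] at h1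
  exact Subtype.ext h1

/-- `|X_b| = q²`. -/
theorem f4m_rhosyl_card_Xb [Finite K] : Nat.card (f4mRb hm).X = Nat.card K * Nat.card K := by
  change Nat.card (f4mXb hm) = _
  unfold f4mXb
  rw [Nat.card_congr (Subgroup.subgroupOfEquivOfLe (f4Cls2 hm).X_G1).toEquiv]
  exact card_XJ2_fix hm

/-- an `r`-subgroup of `L_b`, `r` an odd prime not dividing `q² + 1`, is conjugate into `T_b`. -/
theorem f4m_rhosyl_conj [Fintype K] (hK : Fintype.card K = 2 ^ (2 * m + 1)) (okb : (f4mRb hm).Ok) (r : ℕ) (hr : r.Prime)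
    (hr2 : r ≠ 2) (hrq : ¬ r ∣ Fintype.card K ^ 2 + 1) (Q : Subgroup (F4G K m)) (hQ : Q ≤ (f4mRb hm).L)
    (hQr : IsPGroup r Q) : ∃ g : F4G K m, ∀ x ∈ Q, g⁻¹ * x * g ∈ f4mTb hm := by
  have hcard : Nat.card (f4mRb hm).X = 2 ^ (2 * (2 * m + 1)) := by
    rw [f4m_rhosyl_card_Xb hm, Nat.card_eq_fintype_card, hK, ← pow_add]
    congr 1
    ring
  have hX1 : ∃ x ∈ (f4mRb hm).X, x ≠ 1 := by
    have h1 : 1 < Nat.card (f4mRb hm).X := by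
      rw [hcard]
      exact Nat.one_lt_two_pow (by omega)
    rw [Finite.one_lt_card_iff_nontrivial] at h1
    obtain ⟨x, hx⟩ := exists_ne (1 : ↥(f4mRb hm).X)
    exact ⟨x.1, x.2, fun h => hx (Subtype.ext h)⟩
  have hr1 : ¬ r ∣ Nat.card (f4mRb hm).X := by
    rw [hcard]
    intro h
    exact hr2 ((Nat.prime_dvd_prime_iff_eq hr Nat.prime_two).mp (hr.dvd_of_dvd_pow h))
  have hr2' : ¬ r ∣ Nat.card (f4mRb hm).X + 1 := by
    rw [f4m_rhosyl_card_Xb hm, Nat.card_eq_fintype_card, ← sq]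
    exact hrq
  obtain ⟨g, _, hg⟩ := f4m_rhosyl_conj_abs okb (f4m_rhosyl_TX_b hm) (f4m_rhosyl_disj_b hm) hX1 hr hr1 hr2' hQ hQr
  exact ⟨g, hg⟩

end concrete

end Cfsg.Agent.F4M
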