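import Mathlib
import Cfsg.Agent.F4M.ConcDefs
import Cfsg.Agent.F4M.RhoInj
import Cfsg.Agent.F4M.RhoSyl
import Cfsg.Agent.Helper7.IrredPrime

set_option autoImplicit false
set_option linter.unusedSectionVars false
set_option linter.unusedVariables false

/-!
# S2114, package B3: the odd Sylow subgroups of `L_b = ⟨X_b, Y_b⟩ ≤ ²F₄(q)` (a Suzuki group)

* `f4m_rho_perfect`: `L_b` is perfect for `q > 4` (`F4M/RhoPerf.lean`: `T_c ≤ L_b` because `n_b` inverts `T_c`, so `h² = ⁅h, n_b⁆`, and every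
  element of `T_c` is a square; then `X_b = ⁅T_c, X_b⁆`).
* `f4m_rho_Tc_cyclic`: `T_c` is an image of `Kˣ`.
* `f4m_rho_sylow`: for `r ∣ q² + 1` an `r`-subgroup of `L_b` is cyclic, by helper7's `IrredPrime.Hyp.isCyclic` applied to the faithful
  `4`-dimensional representation `ρ` of `L_b` on `⟨e_33, e_34, e_35, e_37⟩` (`F4M/RhoBlk.lean`, `RhoHom.lean`, `RhoInj.lean`); otherwise it
  is conjugate into `T_b ≤ T_c` (helper1's `F4M/RhoSyl.lean`).
-/

namespace Cfsg.Agent.F4M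

open Cfsg Cfsg.Lie Cfsg.Agent.Helper7.Chev Cfsg.Agent.CtRecM Cfsg.Agent.CtRecT

variable {K : Type*} [Field K] [CharP K 2] {m : ℕ} (hm : ∀ t : K, t ^ 2 ^ (2 * m + 1) = t)

/-- `L_b` is perfect. -/
theorem f4m_rho_perfect [Finite K] (hK : 4 < Nat.card K) : ∀ g ∈ (f4mRb hm).L, g ∈ ⁅(f4mRb hm).L, (f4mRb hm).L⁆ := by
  have hu : ∃ u : Kˣ, u ≠ 1 := by
    have : Fintype K := Fintype.ofFinite K
    apply exists_unit_ne_one
    rw [← Nat.card_eq_fintype_card]
    omega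
  exact fun g hg => f4m_rho_L_le_comm hm hu hg

/-- the cyclic torus. -/
theorem f4m_rho_Tc_cyclic [Finite K] : IsCyclic (f4mTc hm) := by
  have e : f4mTc hm = ((f4mH hm).comp (MonoidHom.inr Kˣ Kˣ)).range := by
    ext g
    constructor
    · rintro ⟨⟨s, u⟩, hp, rfl⟩
      have hs : s = 1 := Subgroup.mem_bot.mp (Subgroup.mem_prod.mp hp).1
      exact ⟨u, by rw [hs]; rfl⟩
    · rintro ⟨u, rfl⟩
      exact ⟨(1, u), Subgroup.mem_prod.mpr ⟨Subgroup.mem_bot.mpr rfl, Subgroup.mem_top _⟩, rfl⟩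
  rw [e]
  exact isCyclic_of_surjective _ (MonoidHom.rangeRestrict_surjective _)

/-- an `r`-subgroup of `L_b`, `r` odd, is cyclic (`r ∣ q² + 1`, via the `4`-dimensional representation `ρ` and `Helper7.IrredPrime`) or conjugate
into the cyclic torus (`r ∣ q - 1`, Sylow). -/
theorem f4m_rho_sylow [Fintype K] (hK : Fintype.card K = 2 ^ (2 * m + 1)) (okb : (f4mRb hm).Ok) (hTb : f4mTb hm ≤ f4mTc hm)
    (r : ℕ) (hr : r.Prime) (hr2 : r ≠ 2) (Q : Subgroup (F4G K m)) (hQ : Q ≤ (f4mRb hm).L) (hQr : IsPGroup r Q) :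
    IsCyclic Q ∨ ∃ g : F4G K m, ∀ x ∈ Q, g⁻¹ * x * g ∈ f4mTc hm := by
  by_cases hrq : r ∣ Fintype.card K ^ 2 + 1
  · left
    have : Fact r.Prime := ⟨hr⟩
    obtain ⟨ψ, hψe⟩ : ∃ ψ : ↥Q →* Matrix (Fin 4) (Fin 4) K, ψ = (f4m_rho_L hm).comp (Subgroup.inclusion hQ) :=
      ⟨_, rfl⟩
    have hψ : Function.Injective ψ := by
      rw [hψe]
      exact (f4m_rho_L_injective hm okb hTb).comp (Subgroup.inclusion_injective hQ)
    by_cases hnt : Nontrivial ↥Q
    · have hcn : Nontrivial (Subgroup.center ↥Q) := IsPGroup.center_nontrivial hQr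
      obtain ⟨⟨z, hz⟩, hz1⟩ := exists_ne (1 : Subgroup.center ↥Q)
      have hz1' : z ≠ 1 := fun e => hz1 (Subtype.ext e)
      obtain ⟨k, hk⟩ := hQr z
      have hyp : Cfsg.Agent.Helper7.IrredPrime.Hyp (ψ z) r := by
        refine ⟨hr, hr2, hrq, ⟨k, ?_⟩, ?_⟩
        · rw [← map_pow, hk, map_one]
        · intro e
          apply hz1'
          apply hψ
          rw [e, map_one]
      apply hyp.isCyclic ψ hψ
      intro y
      rw [← map_mul, ← map_mul]
      congr 1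
      exact Subgroup.mem_center_iff.1 hz y
    · rw [not_nontrivial_iff_subsingleton] at hnt
      exact isCyclic_of_subsingleton
  · right
    obtain ⟨g, hg⟩ := f4m_rhosyl_conj hm hK okb r hr hr2 hrq Q hQ hQr
    exact ⟨g, fun x hx => hTb (hg x hx)⟩

end Cfsg.Agent.F4M
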