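import Mathlib
import Cfsg.Agent.F4M.ConcOk1

set_option autoImplicit false
set_option linter.unusedSectionVars false
set_option linter.unusedVariables false

/-!
# S2114: the torus `H¹ = f4mHs` is commutative of odd order (`OctRoots.H_comm`, `OctRoots.H_cop`).  Prefix `f4m_concH_`.
-/

namespace Cfsg.Agent.F4M

open Cfsg Cfsg.Lie Cfsg.Agent.Helper7.Chev Cfsg.Agent.CtRecM Cfsg.Agent.CtRecT

variable {K : Type*} [Field K] [CharP K 2] {m : ℕ} (hm : ∀ t : K, t ^ 2 ^ (2 * m + 1) = t)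

/-- `H¹` is commutative. -/
theorem f4m_concH_comm : ∀ h ∈ f4mHs hm, ∀ k ∈ f4mHs hm, h * k = k * h :=
  fun h hh k hk => f4m_concO1_Hs_comm hm h hh k hk

theorem f4m_concH_injective : Function.Injective (f4mH hm) := by
  intro p q h
  apply gh4_injective (K := K) (m := m)
  have := congrArg (Subtype.val) h
  rwa [f4mH_coe, f4mH_coe] at this

/-- `|H¹| = (q - 1)²`. -/
theorem f4m_concH_card [Fintype K] (hK : Fintype.card K = 2 ^ (2 * m + 1)) :
    Nat.card (f4mHs hm) = (2 ^ (2 * m + 1) - 1) ^ 2 := by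
  unfold f4mHs
  rw [← Nat.card_congr (MonoidHom.ofInjective (f4m_concH_injective hm)).toEquiv,
    Nat.card_prod, Nat.card_units, Nat.card_eq_fintype_card, hK, sq]

/-- `H¹` has odd order. -/
theorem f4m_concH_cop [Fintype K] (hK : Fintype.card K = 2 ^ (2 * m + 1)) : (Nat.card (f4mHs hm)).Coprime 2 := by
  rw [f4m_concH_card hm hK]
  apply Nat.Coprime.pow_left
  rw [Nat.coprime_comm, Nat.coprime_two_left]
  have h1 : 1 ≤ 2 ^ (2 * m + 1) := Nat.one_le_two_pow
  have h2 : Even (2 ^ (2 * m + 1)) := by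
    rw [pow_succ]
    exact even_two.mul_left _
  exact Nat.Even.sub_odd h1 h2 odd_one

end Cfsg.Agent.F4M
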