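import Mathlib
import Cfsg.Agent.F4M.ConcDefs
import Cfsg.Agent.F4M.Roots

set_option autoImplicit false
set_option linter.unusedSectionVars false
set_option linter.unusedVariables false

/-!
# S2114: `U¹` is a Sylow `2`-subgroup of `²F₄(q)` (order `q¹²`, odd index)
-/

namespace Cfsg.Agent.F4M

open Cfsg Cfsg.Lie Cfsg.Agent.Helper7.Chev Cfsg.Agent.CtRecM Cfsg.Agent.CtRecT

variable {K : Type*} [Field K] [CharP K 2] {m : ℕ} (hm : ∀ t : K, t ^ 2 ^ (2 * m + 1) = t)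

/-- the order of `U¹`. -/
theorem f4m_concIdx_card [Fintype K] (hK : Fintype.card K = 2 ^ (2 * m + 1)) :
    Nat.card (f4mU K m) = (2 ^ (2 * m + 1)) ^ 12 := by
  unfold f4mU
  rw [← Subgroup.inf_subgroupOf_right,
    Nat.card_congr (Subgroup.subgroupOfEquivOfLe (inf_le_right :
      chevF4.posUnipotent K ⊓ twistedF4 K (2 ^ m) ≤ twistedF4 K (2 ^ m))).toEquiv]
  exact f4_card_U hK

/-- `U¹` is a `2`-group. -/
theorem f4m_conc_hU [Fintype K] (hK : Fintype.card K = 2 ^ (2 * m + 1)) : IsPGroup 2 (f4mU K m) := by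
  apply IsPGroup.of_card (n := (2 * m + 1) * 12)
  rw [f4m_concIdx_card hK, ← pow_mul]

/-- the odd part of the order of `²F₄(q)` is odd. -/
theorem f4m_concIdx_odd (q : ℕ) (hq : Even q) (hq1 : 1 ≤ q) :
    Odd ((q - 1) * (q ^ 3 + 1) * (q ^ 4 - 1) * (q ^ 6 + 1)) := by
  have h1 : Odd (q - 1) := Nat.Even.sub_odd hq1 hq odd_one
  have h3 : Odd (q ^ 3 + 1) := (hq.pow_of_ne_zero (by norm_num)).add_one
  have h4 : Odd (q ^ 4 - 1) :=
    Nat.Even.sub_odd (Nat.one_le_pow _ _ hq1) (hq.pow_of_ne_zero (by norm_num)) odd_one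
  have h6 : Odd (q ^ 6 + 1) := (hq.pow_of_ne_zero (by norm_num)).add_one
  exact ((h1.mul h3).mul h4).mul h6

/-- the index of `U¹`. -/
theorem f4m_concIdx_index [Fintype K] (hK : Fintype.card K = 2 ^ (2 * m + 1)) :
    (f4mU K m).index = (2 ^ (2 * m + 1) - 1) * ((2 ^ (2 * m + 1)) ^ 3 + 1) *
        ((2 ^ (2 * m + 1)) ^ 4 - 1) * ((2 ^ (2 * m + 1)) ^ 6 + 1) := by
  have h := (f4mU K m).card_mul_index
  rw [f4m_concIdx_card hK, f4_card_twisted hK] at h
  have hpos : 0 < (2 ^ (2 * m + 1)) ^ 12 := by positivity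
  apply Nat.eq_of_mul_eq_mul_left hpos
  rw [h]
  ring

/-- the index of `U¹` is odd. -/
theorem f4m_concIdx_not_dvd [Fintype K] (hK : Fintype.card K = 2 ^ (2 * m + 1)) : ¬ 2 ∣ (f4mU K m).index := by
  rw [f4m_concIdx_index hK, ← even_iff_two_dvd, Nat.not_even_iff_odd]
  exact f4m_concIdx_odd _ (Even.pow_of_ne_zero even_two (by omega)) Nat.one_le_two_pow

/-- the index of the subgroup generated by the eight root groups is odd. -/
theorem f4m_conc_idx [Fintype K] (hK : Fintype.card K = 2 ^ (2 * m + 1)) :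
    ¬ 2 ∣ (⨆ k ∈ Finset.range 8, f4mUs hm k).index := by
  rw [f4m_iSup_Us]
  exact f4m_concIdx_not_dvd hK

end Cfsg.Agent.F4M
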