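import Mathlib
import Cfsg.Agent.F4M.Roots

set_option autoImplicit false
set_option linter.unusedSectionVars false
set_option linter.unusedVariables false

/-!
# S2114, package C1b: the commutator relations `[U_i, U_j] ⊆ ⟨U_k : i < k < j⟩` of `²F₄(q)`

The product `U_1 ⋯ U_j` is normal in `U_1 ⋯ U_{j+1}` (it is the intersection with the unipotent radical of a parabolic
subgroup, conjugated by an element of `N¹`); the same for the second family, which is the first one in the reverse order,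
gives that `U_{i+1} ⋯ U_8` is normal in `U_i ⋯ U_8`.  Hence the commutator of `U_i` and `U_j` lies in
`(U_1 ⋯ U_{j-1}) ∩ (U_{i+1} ⋯ U_8)`, which is `⟨U_k : i < k < j⟩` by the uniqueness of the factorisation.
-/

namespace Cfsg.Agent.F4M

open Cfsg Cfsg.Lie Matrix Cfsg.Agent.Helper7.Chev

variable {K : Type*} [Field K] [CharP K 2] {m : ℕ} (hm : ∀ t : K, t ^ 2 ^ (2 * m + 1) = t)

/-- `U` normalizes the unipotent radical of the parabolic subgroup of a class. -/
theorem f4m_rad_normal (b : Bool) (k : ℕ) {u z : GL chevF4.Idx K} (hu : u ∈ chevF4.posUnipotent K)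
    (hz : z ∈ Subgroup.closure (upGenS chevF4 K (f4mCls hm b k).P)) :
    u * z * u⁻¹ ∈ Subgroup.closure (upGenS chevF4 K (f4mCls hm b k).P) := by
  have key : chevF4.posUnipotent K ≤
      Subgroup.normalizer (Subgroup.closure (upGenS chevF4 K (f4mCls hm b k).P) : Set (GL chevF4.Idx K)) := by
    unfold f4mCls
    split_ifs
    · rw [f4Cls1_P, upGenS_InJPos]
      exact posUnipotent_le_normalizer_rad good3_F4.toGood2 T0_F4 good3_F4.t3 good3_F4.t4 T14_F4 f4J1
    · rw [f4Cls2_P, upGenS_InJPos]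
      exact posUnipotent_le_normalizer_rad good3_F4.toGood2 T0_F4 good3_F4.t3 good3_F4.t4 T14_F4 f4J2
  exact (Subgroup.mem_set_normalizer_iff.mp (key hu) z).mp hz

theorem f4mM_le_pos (b : Bool) (k : ℕ) : f4mM hm b k ≤ chevF4.posUnipotent K := by
  intro g hg
  exact ((mem_fM good3_F4.toGood2).mp hg).1

/-- the conjugate of `M(k)` is normal in `M(k+1)`. -/
theorem f4m_peel_normal (b : Bool) (k : ℕ) (hk : k < 8) {g v : GL chevF4.Idx K}
    (hg : g ∈ f4mM hm b (k + 1)) (hv : v ∈ f4mM hm b k) :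
    ∃ v' ∈ f4mM hm b k, g * ((f4mNc K b k)⁻¹ * v * f4mNc K b k) * g⁻¹ = (f4mNc K b k)⁻¹ * v' * f4mNc K b k := by
  have hcomp := (f4mCls hm b k).fM_compose good3_F4.toGood2 T0_F4 (f4m_altWord_lt b k)
      (f4m_cls_pos hm b k hk) (f4mM_le_minus hm b k (by omega)) hv
  rw [← f4mNc_eq hm] at hcomp
  have ha1 : (f4mNc K b k)⁻¹ * v * f4mNc K b k ∈ f4mM hm b (k + 1) := by
    have := hcomp.2
    rw [← f4m_altWord_succ hm] at this
    exact this
  have hc1 : g * ((f4mNc K b k)⁻¹ * v * f4mNc K b k) * g⁻¹ ∈ f4mM hm b (k + 1) :=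
    mul_mem (mul_mem hg ha1) (inv_mem hg)
  have hc2 : g * ((f4mNc K b k)⁻¹ * v * f4mNc K b k) * g⁻¹ ∈
      Subgroup.closure (upGenS chevF4 K (f4mCls hm b k).P) :=
    f4m_rad_normal hm b k (f4mM_le_pos hm b (k + 1) hg) hcomp.1
  obtain ⟨v', hv', x, hx, e⟩ := (f4m_peel hm b k hk).mp hc1
  have hcomp' := (f4mCls hm b k).fM_compose good3_F4.toGood2 T0_F4 (f4m_altWord_lt b k)
      (f4m_cls_pos hm b k hk) (f4mM_le_minus hm b k (by omega)) hv'
  rw [← f4mNc_eq hm] at hcomp'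
  have hx1 : x = 1 := by
    have hmem : x ∈ Subgroup.closure (upGenS chevF4 K (f4mCls hm b k).P) ⊓
        Subgroup.closure (rootGen chevF4 K (f4mCls hm b k).P) := by
      refine Subgroup.mem_inf.mpr ⟨?_, (f4mCls hm b k).X_le hx⟩
      have e2 : x = ((f4mNc K b k)⁻¹ * v' * f4mNc K b k)⁻¹ *
          (g * ((f4mNc K b k)⁻¹ * v * f4mNc K b k) * g⁻¹) := by
        rw [e]; group
      rw [e2]
      exact mul_mem (inv_mem hcomp'.1) hc2
    rw [(f4mCls hm b k).inter, Subgroup.mem_bot] at hmem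
    exact hmem
  refine ⟨v', hv', ?_⟩
  rw [e, hx1, mul_one]

/-- **`U_1 ⋯ U_j` is normal in `U_1 ⋯ U_{j+1}`.** -/
theorem f4mHead_normal (b : Bool) (j : ℕ) (hj : j < 8) {g a : GL chevF4.Idx K}
    (hg : g ∈ f4mHead hm b (j + 1)) (ha : a ∈ f4mHead hm b j) : g * a * g⁻¹ ∈ f4mHead hm b j := by
  obtain ⟨g', hg', rfl⟩ := (mem_f4mHead hm).mp hg
  obtain ⟨v, hv, rfl⟩ := (mem_f4mHead hm).mp ha
  obtain ⟨v', hv', e⟩ := f4m_peel_normal hm b j hj hg' hv
  refine (mem_f4mHead hm).mpr ⟨v', hv', ?_⟩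
  rw [f4mNt_succ b j hj]
  have e1 : (f4mNt K b (j + 1))⁻¹ * g' * f4mNt K b (j + 1) *
      ((f4mNc K b j * f4mNt K b (j + 1))⁻¹ * v * (f4mNc K b j * f4mNt K b (j + 1))) *
      ((f4mNt K b (j + 1))⁻¹ * g' * f4mNt K b (j + 1))⁻¹ =
      (f4mNt K b (j + 1))⁻¹ * (g' * ((f4mNc K b j)⁻¹ * v * f4mNc K b j) * g'⁻¹) * f4mNt K b (j + 1) := by
    group
  rw [e1, e]
  group

section finite

variable [Finite K]

/-- `(U_1 ⋯ U_j) ∩ (U_{j+1} ⋯ U_8) = 1`. -/
theorem f4mHead_inf_bot (j : ℕ) (hj : j ≤ 8) : f4mHead hm false j ⊓ f4mHead hm true (8 - j) = ⊥ := by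
  induction j with
  | zero => rw [f4mHead_zero, bot_inf_eq]
  | succ j ih =>
    rw [eq_bot_iff]
    intro g hg
    obtain ⟨hg1, hg2⟩ := Subgroup.mem_inf.mp hg
    have e8 : 8 - (j + 1) = 7 - j := by omega
    rw [e8] at hg2
    obtain ⟨a, ha, y, hy, rfl⟩ := (f4mHead_succ hm false j (by omega)).mp hg1
    have hy' : y ∈ f4mRoot hm true (7 - j) := by
      rw [f4mRoot_true hm (7 - j) (by omega)]
      have : 7 - (7 - j) = j := by omega
      rw [this]
      exact hy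
    have e9 : 8 - j = (7 - j) + 1 := by omega
    have ha2 : a ∈ f4mHead hm true (8 - j) := by
      rw [e9]
      refine (f4mHead_succ hm true (7 - j) (by omega)).mpr ⟨a * y, hg2, y⁻¹, inv_mem hy', by group⟩
    have ha1 : a = 1 := by
      have := ih (by omega)
      rw [eq_bot_iff] at this
      exact Subgroup.mem_bot.mp (this (Subgroup.mem_inf.mpr ⟨ha, ha2⟩))
    subst ha1
    rw [one_mul] at hg2 ⊢
    have := f4mHead_succ_unique hm true (7 - j) (by omega) hg2 (one_mem _) (one_mem _) hy'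
      (by rw [mul_one, one_mul])
    rw [Subgroup.mem_bot]
    exact this.1

theorem f4mRoot_false_le_true {k j : ℕ} (hk : k < 8) (hkj : 7 - k < j) (hj : j ≤ 8) :
    f4mRoot hm false k ≤ f4mHead hm true j := by
  have h := f4mRoot_le_head hm true hkj hj
  rw [f4mRoot_true hm (7 - k) (by omega)] at h
  have : 7 - (7 - k) = k := by omega
  rw [this] at h
  exact h

/-- `(U_1 ⋯ U_t) ∩ (U_{s+1} ⋯ U_8) ≤ ⟨U_{s+1}, …, U_t⟩`. -/
theorem f4mHead_inf_le (s t : ℕ) (hs : s ≤ 8) (ht : t ≤ 8) :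
    f4mHead hm false t ⊓ f4mHead hm true (8 - s) ≤ ⨆ k ∈ Finset.Ico s t, f4mUk hm k := by
  induction t with
  | zero => rw [f4mHead_zero, bot_inf_eq]; exact bot_le
  | succ t ih =>
    intro g hg
    obtain ⟨hg1, hg2⟩ := Subgroup.mem_inf.mp hg
    by_cases hst : s ≤ t
    · obtain ⟨a, ha, y, hy, rfl⟩ := (f4mHead_succ hm false t (by omega)).mp hg1
      have hy2 : y ∈ f4mHead hm true (8 - s) :=
        f4mRoot_false_le_true hm (by omega) (by omega) (by omega) hy
      have ha2 : a ∈ f4mHead hm true (8 - s) := by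
        have e : a = a * y * y⁻¹ := by group
        rw [e]
        exact mul_mem hg2 (inv_mem hy2)
      have ha3 := ih (by omega) (Subgroup.mem_inf.mpr ⟨ha, ha2⟩)
      refine mul_mem ?_ ?_
      · refine (iSup₂_mono' ?_ : (⨆ k ∈ Finset.Ico s t, f4mUk hm k) ≤ _) ha3
        intro k hk
        exact ⟨k, Finset.mem_Ico.mpr (by have := Finset.mem_Ico.mp hk; omega), le_rfl⟩
      · exact (le_iSup₂_of_le t (Finset.mem_Ico.mpr ⟨hst, Nat.lt_succ_self t⟩) le_rfl :
          f4mUk hm t ≤ ⨆ k ∈ Finset.Ico s (t + 1), f4mUk hm k) hy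
    · have hmono : f4mHead hm true (8 - s) ≤ f4mHead hm true (8 - (t + 1)) :=
        f4mHead_mono hm true (by omega) (by omega)
      have := f4mHead_inf_bot hm (t + 1) ht
      rw [eq_bot_iff] at this
      have hg0 := Subgroup.mem_bot.mp (this (Subgroup.mem_inf.mpr ⟨hg1, hmono hg2⟩))
      rw [hg0]
      exact one_mem _

/-- **the commutator relations of the root subgroups of `²F₄(q)`.** -/
theorem f4m_comm_U (i j : ℕ) (hij : i < j) (hj : j < 8) {x y : GL chevF4.Idx K}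
    (hx : x ∈ f4mUk hm i) (hy : y ∈ f4mUk hm j) :
    x * y * x⁻¹ * y⁻¹ ∈ ⨆ k ∈ Finset.Ioo i j, f4mUk hm k := by
  have h1 : x * y * x⁻¹ * y⁻¹ ∈ f4mHead hm false j := by
    have hx1 : x ∈ f4mHead hm false j := f4mRoot_le_head hm false hij (by omega) hx
    have hy1 : y ∈ f4mHead hm false (j + 1) := f4mRoot_le_head_succ hm false j hj hy
    have := f4mHead_normal hm false j hj hy1 (inv_mem hx1)
    have e : x * y * x⁻¹ * y⁻¹ = x * (y * x⁻¹ * y⁻¹) := by group
    rw [e]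
    exact mul_mem hx1 this
  have h2 : x * y * x⁻¹ * y⁻¹ ∈ f4mHead hm true (8 - (i + 1)) := by
    have e7 : 8 - (i + 1) = 7 - i := by omega
    rw [e7]
    have hy2 : y ∈ f4mHead hm true (7 - i) :=
      f4mRoot_false_le_true hm hj (by omega) (by omega) hy
    have hx2 : x ∈ f4mHead hm true (7 - i + 1) :=
      f4mRoot_false_le_true hm (by omega) (by omega) (by omega) hx
    have := f4mHead_normal hm true (7 - i) (by omega) hx2 hy2
    exact mul_mem this (inv_mem hy2)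
  have h3 := f4mHead_inf_le hm (i + 1) j (by omega) (by omega) (Subgroup.mem_inf.mpr ⟨h1, h2⟩)
  have e : Finset.Ico (i + 1) j = Finset.Ioo i j := by
    ext k
    simp only [Finset.mem_Ico, Finset.mem_Ioo]
    omega
  rw [e] at h3
  exact h3

/-- the commutator relations in `²F₄(q)` (the form of `OctRoots.comm`). -/
theorem f4m_comm_Us (i j : ℕ) (hij : i < j) (hj : j < 8) :
    ∀ x ∈ f4mUs hm i, ∀ y ∈ f4mUs hm j, x * y * x⁻¹ * y⁻¹ ∈ ⨆ k ∈ Finset.Ioo i j, f4mUs hm k := by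
  intro x hx y hy
  have h := f4m_comm_U hm i j hij hj ((mem_f4mUs hm).mp hx) ((mem_f4mUs hm).mp hy)
  have e : (⨆ k ∈ Finset.Ioo i j, f4mUs hm k) =
      (⨆ k ∈ Finset.Ioo i j, f4mUk hm k).subgroupOf (twistedF4 K (2 ^ m)) := by
    unfold f4mUs
    rw [f4m_subgroupOf_biSup _ _ _ (fun k hk => f4m_U_le_twisted hm k
      (by have := Finset.mem_Ioo.mp hk; omega))]
  rw [e, Subgroup.mem_subgroupOf]
  exact h

end finite

end Cfsg.Agent.F4M
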