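import Mathlib
import Cfsg.Agent.F4M.Roots
import Cfsg.Agent.Helper8.RF4C

set_option autoImplicit false
set_option linter.unusedSectionVars false
set_option linter.unusedVariables false

/-!
# S2114, package C2 (helper9): the torus of `²F₄(q)` on the eight root groups

`f4mTor L S ν = h_L(ν) h_S(θν)` (the rank-one torus of the class with long root `L` and short root `S`): it is an `h(s,u)`, it acts on `x_r(t)`
by the scalar `ν^⟨r,L^∨⟩ (θν)^⟨r,S^∨⟩`, the torus of the class `k` centralizes the class `k+4` and acts fixed-point-freely on the other six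
classes.  Prefix `f4m_tt_`.
-/

namespace Cfsg.Agent.F4M

open Cfsg Cfsg.Lie Matrix Cfsg.Agent.Helper7.Chev Cfsg.Agent.Helper8.RF4

variable {K : Type*} [Field K] [CharP K 2] {m : ℕ} (hm : ∀ t : K, t ^ 2 ^ (2 * m + 1) = t)

/-! ### general tools -/

include hm in
/-- `θ(θ ν)² = ν`. -/
theorem f4m_tt_sq (ν : Kˣ) : (f4ThU K m (f4ThU K m ν)) ^ 2 = ν := by
  apply Units.ext
  rw [Units.val_pow_eq_pow_val, f4ThU_coe, f4ThU_coe, ← f4Th_succ, f4Th_succ_f4Th hm]

/-- the rank-one torus element `h_L(ν) h_S(θ ν)`. -/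
noncomputable def f4mTor (K : Type*) [Field K] [CharP K 2] (m : ℕ) (L S : Fin 48) (ν : Kˣ) : GL chevF4.Idx K :=
  fh K L ν * fh K S (f4ThU K m ν)

include hm in
/-- the rank-one torus element is an `h(s,u)`. -/
theorem f4m_tt_tor_eq (L S : Fin 48)
    (h0 : cr chevF4 S.val 0 = cr chevF4 L.val 3) (h1 : cr chevF4 S.val 1 = cr chevF4 L.val 2)
    (h2 : cr chevF4 S.val 2 = 2 * cr chevF4 L.val 1) (h3 : cr chevF4 S.val 3 = 2 * cr chevF4 L.val 0) (ν : Kˣ) :
    f4mTor K m L S ν = gh4 K m (ν ^ cr chevF4 L.val 3 * (f4ThU K m ν) ^ (2 * cr chevF4 L.val 0),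
      ν ^ cr chevF4 L.val 2 * (f4ThU K m ν) ^ (2 * cr chevF4 L.val 1)) := by
  unfold f4mTor
  rw [fh_eq_tF4, fh_eq_tF4, tF4_mul, gh4_apply, h0, h1, h2, h3]
  have e : ∀ k : ℤ, (f4ThU K m (f4ThU K m ν)) ^ (2 * k) = ν ^ k := by
    intro k
    rw [_root_.zpow_mul, zpow_ofNat, f4m_tt_sq hm]
  congr 1
  · rw [map_mul, map_zpow, map_zpow, e, mul_comm]
  · rw [map_mul, map_zpow, map_zpow, e, mul_comm]

/-- the action of the rank-one torus element on a root element. -/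
theorem f4m_tt_tor_conj (L S r : Fin 48) (ν : Kˣ) (t : K) :
    f4mTor K m L S ν * fx K r t * (f4mTor K m L S ν)⁻¹ =
      fx K r (((ν ^ (tabOf chevF4).pairing L.val r.val * (f4ThU K m ν) ^ (tabOf chevF4).pairing S.val r.val : Kˣ) : K) * t) := by
  unfold f4mTor
  rw [mul_assoc (fh K L ν), fh_mul_fx, ← mul_assoc, fh_mul_fx]
  rw [mul_assoc, mul_assoc, ← mul_assoc (fh K L ν), mul_inv_cancel, mul_one]
  congr 1
  rw [Units.val_mul, mul_assoc]

/-! ### a generator of `Kˣ` -/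

theorem f4m_tt_exists_gen [Fintype K] (hK : Fintype.card K = 2 ^ (2 * m + 1)) :
    ∃ ν : Kˣ, orderOf ν = 2 ^ (2 * m + 1) - 1 := by
  classical
  obtain ⟨ν, hν⟩ := IsCyclic.exists_generator (α := Kˣ)
  refine ⟨ν, ?_⟩
  rw [orderOf_eq_card_of_forall_mem_zpowers hν, Nat.card_eq_fintype_card, Fintype.card_units, hK]

theorem f4m_tt_thU_eq (ν : Kˣ) : f4ThU K m ν = ν ^ (2 ^ m : ℕ) := by
  apply Units.ext
  rw [f4ThU_coe, f4Th_apply, Units.val_pow_eq_pow_val]

/-- a generator is moved by every non-trivial small character. -/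
theorem f4m_tt_gen_ne_one (hm1 : 1 ≤ m) {ν : Kˣ} (hν : orderOf ν = 2 ^ (2 * m + 1) - 1) (p p' : ℤ)
    (hp : |p| ≤ 2) (hp' : |p'| ≤ 2) (hne : p + 2 ^ m * p' ≠ 0) : ν ^ p * (f4ThU K m ν) ^ p' ≠ 1 := by
  intro h
  rw [f4m_tt_thU_eq, ← zpow_natCast, ← _root_.zpow_mul, ← _root_.zpow_add] at h
  have hd := (orderOf_dvd_iff_zpow_eq_one).mpr h
  rw [hν] at hd
  have h2 : (2 : ℤ) ≤ (2 : ℤ) ^ m := by
    calc (2 : ℤ) = 2 ^ 1 := by norm_num
      _ ≤ 2 ^ m := pow_le_pow_right₀ (by norm_num) hm1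
  have hpow : ((2 ^ (2 * m + 1) - 1 : ℕ) : ℤ) = 2 * ((2 : ℤ) ^ m) ^ 2 - 1 := by
    have h1 : 1 ≤ 2 ^ (2 * m + 1) := Nat.one_le_two_pow
    rw [Nat.cast_sub h1]
    push_cast
    ring
  rw [hpow] at hd
  have hcast : ((2 ^ m : ℕ) : ℤ) = (2 : ℤ) ^ m := by push_cast; rfl
  rw [hcast] at hd
  set θ : ℤ := (2 : ℤ) ^ m with hθ
  have hlt : |p + θ * p'| < 2 * θ ^ 2 - 1 := by
    have a1 := abs_le.mp hp
    have a2 := abs_le.mp hp'
    rw [abs_lt]
    constructor <;> nlinarith [a1.1, a1.2, a2.1, a2.2, h2]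
  exact hne (Int.eq_zero_of_abs_lt_dvd hd hlt)

/-- the same with decidable side conditions. -/
theorem f4m_tt_gen_ne_one' (hm1 : 1 ≤ m) {ν : Kˣ} (hν : orderOf ν = 2 ^ (2 * m + 1) - 1) (p p' : ℤ)
    (hp : |p| ≤ 2) (hp' : |p'| ≤ 2) (h0 : ¬ (p = 0 ∧ p' = 0)) (h1 : ¬ (p = 2 ∧ p' = -1)) (h2 : ¬ (p = -2 ∧ p' = 1)) :
    ν ^ p * (f4ThU K m ν) ^ p' ≠ 1 := by
  apply f4m_tt_gen_ne_one hm1 hν p p' hp hp'
  have h2' : (2 : ℤ) ≤ (2 : ℤ) ^ m := by
    calc (2 : ℤ) = 2 ^ 1 := by norm_num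
      _ ≤ 2 ^ m := pow_le_pow_right₀ (by norm_num) hm1
  set θ : ℤ := (2 : ℤ) ^ m with hθ
  have a1 := abs_le.mp hp
  have a2 := abs_le.mp hp'
  intro h
  have hp'3 : p' = -2 ∨ p' = -1 ∨ p' = 0 ∨ p' = 1 ∨ p' = 2 := by omega
  rcases hp'3 with rfl | rfl | rfl | rfl | rfl
  · nlinarith
  · have : θ = p := by linarith
    have : p = 2 := by omega
    exact h1 ⟨this, rfl⟩
  · exact h0 ⟨by linarith, rfl⟩
  · have : θ = -p := by linarith
    have : p = -2 := by omega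
    exact h2 ⟨this, rfl⟩
  · nlinarith

/-! ### injectivity of the coordinates on the root groups -/

theorem f4m_tt_pair_inj {w : List ℕ} (hw : ∀ i ∈ w, i < chevF4.rank) {r rb : Fin 48}
    (h1 : f4Img w r = 33) (h2 : f4Img w rb = 24) {a b a' b' : K}
    (h : fx K r a * fx K rb b = fx K r a' * fx K rb b') : a = a' ∧ b = b' := by
  have e : ∀ x y : K, fx K r x * fx K rb y =
      (nWordGL good3_F4.toGood2 w)⁻¹ * fP x y * nWordGL good3_F4.toGood2 w := by
    intro x y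
    rw [← f4m_conj_inv_fx hw h1, ← f4m_conj_inv_fx hw h2]
    unfold fP
    group
  rw [e, e] at h
  exact fP_injective (mul_left_cancel (mul_right_cancel h))

theorem f4m_tt_quad_inj {w : List ℕ} (hw : ∀ i ∈ w, i < chevF4.rank) {a b ab aab : Fin 48}
    (ha : f4Img w a = 27) (hb : f4Img w b = 25) (hab : f4Img w ab = 28) (haab : f4Img w aab = 30)
    {s t c d s' t' c' d' : K}
    (h : fx K a s * fx K b t * fx K ab c * fx K aab d = fx K a s' * fx K b t' * fx K ab c' * fx K aab d') :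
    s = s' ∧ t = t' ∧ c = c' ∧ d = d' := by
  have e : ∀ x y z v : K, fx K a x * fx K b y * fx K ab z * fx K aab v =
      (nWordGL good3_F4.toGood2 w)⁻¹ * (quadPos K).xQ x y z v * nWordGL good3_F4.toGood2 w := by
    intro x y z v
    rw [← f4m_conj_inv_fx hw ha, ← f4m_conj_inv_fx hw hb, ← f4m_conj_inv_fx hw hab, ← f4m_conj_inv_fx hw haab]
    unfold B2Quad.xQ
    change _ = _⁻¹ * (fx K 27 x * fx K 25 y * fx K 28 z * fx K 30 v) * _
    group
  rw [e, e] at h
  exact xQ_injective (mul_left_cancel (mul_right_cancel h))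

/-! ### centralizing and acting freely -/

section generic

variable (L S : Fin 48) (ν : Kˣ)

theorem f4m_tt_conj_one (r : Fin 48) (z1 : (tabOf chevF4).pairing L.val r.val = 0)
    (z2 : (tabOf chevF4).pairing S.val r.val = 0) (t : K) :
    f4mTor K m L S ν * fx K r t * (f4mTor K m L S ν)⁻¹ = fx K r t := by
  rw [f4m_tt_tor_conj, z1, z2, zpow_zero, zpow_zero, one_mul, Units.val_one, one_mul]

theorem f4m_tt_comm_of_conj {G : Type*} [Group G] {T x : G} (e : T * x * T⁻¹ = x) : T * x = x * T := by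
  calc T * x = (T * x * T⁻¹) * T := by group
    _ = x * T := by rw [e]

theorem f4m_tt_conj_of_comm {G : Type*} [Group G] {T x : G} (e : T * x = x * T) : T * x * T⁻¹ = x := by
  rw [e, mul_inv_cancel_right]

theorem f4m_tt_cent_pair (r rb : Fin 48) (z1 : (tabOf chevF4).pairing L.val r.val = 0)
    (z2 : (tabOf chevF4).pairing S.val r.val = 0) (z3 : (tabOf chevF4).pairing L.val rb.val = 0)
    (z4 : (tabOf chevF4).pairing S.val rb.val = 0) (t : K) :
    f4mTor K m L S ν * xP r rb m t = xP r rb m t * f4mTor K m L S ν := by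
  apply f4m_tt_comm_of_conj
  unfold xP
  set T := f4mTor K m L S ν
  calc T * (fx K r (f4Th K m t) * fx K rb t) * T⁻¹
      = (T * fx K r (f4Th K m t) * T⁻¹) * (T * fx K rb t * T⁻¹) := by group
    _ = _ := by rw [f4m_tt_conj_one L S ν r z1 z2, f4m_tt_conj_one L S ν rb z3 z4]

theorem f4m_tt_cent_quad (a b ab aab : Fin 48)
    (z1 : (tabOf chevF4).pairing L.val a.val = 0) (z2 : (tabOf chevF4).pairing S.val a.val = 0)
    (z3 : (tabOf chevF4).pairing L.val b.val = 0) (z4 : (tabOf chevF4).pairing S.val b.val = 0)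
    (z5 : (tabOf chevF4).pairing L.val ab.val = 0) (z6 : (tabOf chevF4).pairing S.val ab.val = 0)
    (z7 : (tabOf chevF4).pairing L.val aab.val = 0) (z8 : (tabOf chevF4).pairing S.val aab.val = 0) (t u : K) :
    f4mTor K m L S ν * Y m a b ab aab t u = Y m a b ab aab t u * f4mTor K m L S ν := by
  apply f4m_tt_comm_of_conj
  unfold Y
  set T := f4mTor K m L S ν
  calc T * (fx K a (f4Th K m t) * fx K b t * fx K ab (f4Th K m t * t + u) * fx K aab (f4Th K (m + 1) u)) * T⁻¹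
      = (T * fx K a (f4Th K m t) * T⁻¹) * (T * fx K b t * T⁻¹) * (T * fx K ab (f4Th K m t * t + u) * T⁻¹) *
          (T * fx K aab (f4Th K (m + 1) u) * T⁻¹) := by group
    _ = _ := by
      rw [f4m_tt_conj_one L S ν a z1 z2, f4m_tt_conj_one L S ν b z3 z4, f4m_tt_conj_one L S ν ab z5 z6,
        f4m_tt_conj_one L S ν aab z7 z8]

theorem f4m_tt_eq_zero_of_unit {c : Kˣ} (hc : c ≠ 1) {t : K} (h : (c : K) * t = t) : t = 0 := by
  by_contra ht
  apply hc
  apply Units.ext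
  rw [Units.val_one]
  exact mul_right_cancel₀ ht (by rw [h, one_mul])

theorem f4m_tt_free_pair (r rb : Fin 48)
    (inj : ∀ a b a' b' : K, fx K r a * fx K rb b = fx K r a' * fx K rb b' → a = a' ∧ b = b')
    (p p' : ℤ) (hp : (tabOf chevF4).pairing L.val rb.val = p) (hp' : (tabOf chevF4).pairing S.val rb.val = p')
    (hne : ν ^ p * (f4ThU K m ν) ^ p' ≠ 1) (t : K)
    (hcomm : f4mTor K m L S ν * xP r rb m t = xP r rb m t * f4mTor K m L S ν) : xP r rb m t = 1 := by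
  subst hp hp'
  have e := f4m_tt_conj_of_comm hcomm
  unfold xP at e
  set T := f4mTor K m L S ν
  have e2 : T * (fx K r (f4Th K m t) * fx K rb t) * T⁻¹ =
      (T * fx K r (f4Th K m t) * T⁻¹) * (T * fx K rb t * T⁻¹) := by group
  rw [e2, f4m_tt_tor_conj, f4m_tt_tor_conj] at e
  have h0 := f4m_tt_eq_zero_of_unit hne (inj _ _ _ _ e).2
  unfold xP
  rw [h0, map_zero, fx_zero, fx_zero, one_mul]

theorem f4m_tt_free_quad (a b ab aab : Fin 48)
    (inj : ∀ s t c d s' t' c' d' : K, fx K a s * fx K b t * fx K ab c * fx K aab d =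
      fx K a s' * fx K b t' * fx K ab c' * fx K aab d' → s = s' ∧ t = t' ∧ c = c' ∧ d = d')
    (p p' q q' : ℤ) (hp : (tabOf chevF4).pairing L.val b.val = p) (hp' : (tabOf chevF4).pairing S.val b.val = p')
    (hq : (tabOf chevF4).pairing L.val ab.val = q) (hq' : (tabOf chevF4).pairing S.val ab.val = q')
    (hne : ν ^ p * (f4ThU K m ν) ^ p' ≠ 1) (hne' : ν ^ q * (f4ThU K m ν) ^ q' ≠ 1) (t u : K)
    (hcomm : f4mTor K m L S ν * Y m a b ab aab t u = Y m a b ab aab t u * f4mTor K m L S ν) :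
    Y m a b ab aab t u = 1 := by
  subst hp hp' hq hq'
  have e := f4m_tt_conj_of_comm hcomm
  unfold Y at e
  set T := f4mTor K m L S ν
  have e2 : T * (fx K a (f4Th K m t) * fx K b t * fx K ab (f4Th K m t * t + u) * fx K aab (f4Th K (m + 1) u)) * T⁻¹ =
      (T * fx K a (f4Th K m t) * T⁻¹) * (T * fx K b t * T⁻¹) * (T * fx K ab (f4Th K m t * t + u) * T⁻¹) *
          (T * fx K aab (f4Th K (m + 1) u) * T⁻¹) := by group
  rw [e2, f4m_tt_tor_conj, f4m_tt_tor_conj, f4m_tt_tor_conj, f4m_tt_tor_conj] at e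
  obtain ⟨-, i2, i3, -⟩ := inj _ _ _ _ _ _ _ _ e
  have h0 := f4m_tt_eq_zero_of_unit hne i2
  rw [h0, map_zero, zero_mul, zero_add] at i3
  have h1 := f4m_tt_eq_zero_of_unit hne' i3
  unfold Y
  rw [h0, h1, map_zero, map_zero, zero_mul, zero_add, fx_zero, fx_zero, fx_zero, fx_zero, one_mul, one_mul, one_mul]

end generic

end Cfsg.Agent.F4M
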