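import Mathlib
import Cfsg.Agent.F4M.TorusTab

set_option autoImplicit false
set_option linter.unusedSectionVars false
set_option linter.unusedVariables false

/-!
# S2114, package C2 (helper9): the condition (NC) for the eight root groups of `²F₄(q)` (generated by `scratch/f4m/gen_nc.py`)

For `i ≠ j` the rank-one torus of the class `j + 4` (mod 8), evaluated at a generator `ν` of `Kˣ`, centralizes `U_j` and acts fixed-point-freely
on `U_i`.  Prefix `f4m_nc_`.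
-/

namespace Cfsg.Agent.F4M

open Cfsg Cfsg.Lie Matrix Cfsg.Agent.Helper7.Chev Cfsg.Agent.Helper8.RF4

/-! ### the pairings -/

theorem f4m_nc_p_24_24 : (tabOf chevF4).pairing 24 24 = 2 :=
  tab_F4 ▸ (by decide +kernel : fastF4.pairing 24 24 = 2)
theorem f4m_nc_p_24_25 : (tabOf chevF4).pairing 24 25 = -1 :=
  tab_F4 ▸ (by decide +kernel : fastF4.pairing 24 25 = -1)
theorem f4m_nc_p_24_26 : (tabOf chevF4).pairing 24 26 = 1 :=
  tab_F4 ▸ (by decide +kernel : fastF4.pairing 24 26 = 1)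
theorem f4m_nc_p_24_28 : (tabOf chevF4).pairing 24 28 = -1 :=
  tab_F4 ▸ (by decide +kernel : fastF4.pairing 24 28 = -1)
theorem f4m_nc_p_24_31 : (tabOf chevF4).pairing 24 31 = 1 :=
  tab_F4 ▸ (by decide +kernel : fastF4.pairing 24 31 = 1)
theorem f4m_nc_p_24_32 : (tabOf chevF4).pairing 24 32 = 0 :=
  tab_F4 ▸ (by decide +kernel : fastF4.pairing 24 32 = 0)
theorem f4m_nc_p_24_36 : (tabOf chevF4).pairing 24 36 = 1 :=
  tab_F4 ▸ (by decide +kernel : fastF4.pairing 24 36 = 1)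
theorem f4m_nc_p_24_39 : (tabOf chevF4).pairing 24 39 = 0 :=
  tab_F4 ▸ (by decide +kernel : fastF4.pairing 24 39 = 0)
theorem f4m_nc_p_24_40 : (tabOf chevF4).pairing 24 40 = 0 :=
  tab_F4 ▸ (by decide +kernel : fastF4.pairing 24 40 = 0)
theorem f4m_nc_p_24_41 : (tabOf chevF4).pairing 24 41 = -1 :=
  tab_F4 ▸ (by decide +kernel : fastF4.pairing 24 41 = -1)
theorem f4m_nc_p_24_43 : (tabOf chevF4).pairing 24 43 = 0 :=
  tab_F4 ▸ (by decide +kernel : fastF4.pairing 24 43 = 0)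
theorem f4m_nc_p_24_44 : (tabOf chevF4).pairing 24 44 = 0 :=
  tab_F4 ▸ (by decide +kernel : fastF4.pairing 24 44 = 0)
theorem f4m_nc_p_24_45 : (tabOf chevF4).pairing 24 45 = 0 :=
  tab_F4 ▸ (by decide +kernel : fastF4.pairing 24 45 = 0)
theorem f4m_nc_p_25_24 : (tabOf chevF4).pairing 25 24 = -1 :=
  tab_F4 ▸ (by decide +kernel : fastF4.pairing 25 24 = -1)
theorem f4m_nc_p_25_25 : (tabOf chevF4).pairing 25 25 = 2 :=
  tab_F4 ▸ (by decide +kernel : fastF4.pairing 25 25 = 2)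
theorem f4m_nc_p_25_26 : (tabOf chevF4).pairing 25 26 = 1 :=
  tab_F4 ▸ (by decide +kernel : fastF4.pairing 25 26 = 1)
theorem f4m_nc_p_25_28 : (tabOf chevF4).pairing 25 28 = 1 :=
  tab_F4 ▸ (by decide +kernel : fastF4.pairing 25 28 = 1)
theorem f4m_nc_p_25_29 : (tabOf chevF4).pairing 25 29 = 0 :=
  tab_F4 ▸ (by decide +kernel : fastF4.pairing 25 29 = 0)
theorem f4m_nc_p_25_31 : (tabOf chevF4).pairing 25 31 = -1 :=
  tab_F4 ▸ (by decide +kernel : fastF4.pairing 25 31 = -1)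
theorem f4m_nc_p_25_32 : (tabOf chevF4).pairing 25 32 = 1 :=
  tab_F4 ▸ (by decide +kernel : fastF4.pairing 25 32 = 1)
theorem f4m_nc_p_25_36 : (tabOf chevF4).pairing 25 36 = 0 :=
  tab_F4 ▸ (by decide +kernel : fastF4.pairing 25 36 = 0)
theorem f4m_nc_p_25_40 : (tabOf chevF4).pairing 25 40 = 0 :=
  tab_F4 ▸ (by decide +kernel : fastF4.pairing 25 40 = 0)
theorem f4m_nc_p_25_41 : (tabOf chevF4).pairing 25 41 = 0 :=
  tab_F4 ▸ (by decide +kernel : fastF4.pairing 25 41 = 0)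
theorem f4m_nc_p_25_43 : (tabOf chevF4).pairing 25 43 = 1 :=
  tab_F4 ▸ (by decide +kernel : fastF4.pairing 25 43 = 1)
theorem f4m_nc_p_25_44 : (tabOf chevF4).pairing 25 44 = 0 :=
  tab_F4 ▸ (by decide +kernel : fastF4.pairing 25 44 = 0)
theorem f4m_nc_p_25_45 : (tabOf chevF4).pairing 25 45 = -1 :=
  tab_F4 ▸ (by decide +kernel : fastF4.pairing 25 45 = -1)
theorem f4m_nc_p_25_47 : (tabOf chevF4).pairing 25 47 = 0 :=
  tab_F4 ▸ (by decide +kernel : fastF4.pairing 25 47 = 0)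
theorem f4m_nc_p_26_24 : (tabOf chevF4).pairing 26 24 = 1 :=
  tab_F4 ▸ (by decide +kernel : fastF4.pairing 26 24 = 1)
theorem f4m_nc_p_26_25 : (tabOf chevF4).pairing 26 25 = 1 :=
  tab_F4 ▸ (by decide +kernel : fastF4.pairing 26 25 = 1)
theorem f4m_nc_p_26_26 : (tabOf chevF4).pairing 26 26 = 2 :=
  tab_F4 ▸ (by decide +kernel : fastF4.pairing 26 26 = 2)
theorem f4m_nc_p_26_28 : (tabOf chevF4).pairing 26 28 = 0 :=
  tab_F4 ▸ (by decide +kernel : fastF4.pairing 26 28 = 0)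
theorem f4m_nc_p_26_31 : (tabOf chevF4).pairing 26 31 = 0 :=
  tab_F4 ▸ (by decide +kernel : fastF4.pairing 26 31 = 0)
theorem f4m_nc_p_26_32 : (tabOf chevF4).pairing 26 32 = 1 :=
  tab_F4 ▸ (by decide +kernel : fastF4.pairing 26 32 = 1)
theorem f4m_nc_p_26_35 : (tabOf chevF4).pairing 26 35 = 0 :=
  tab_F4 ▸ (by decide +kernel : fastF4.pairing 26 35 = 0)
theorem f4m_nc_p_26_36 : (tabOf chevF4).pairing 26 36 = 1 :=
  tab_F4 ▸ (by decide +kernel : fastF4.pairing 26 36 = 1)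
theorem f4m_nc_p_26_40 : (tabOf chevF4).pairing 26 40 = 0 :=
  tab_F4 ▸ (by decide +kernel : fastF4.pairing 26 40 = 0)
theorem f4m_nc_p_26_41 : (tabOf chevF4).pairing 26 41 = -1 :=
  tab_F4 ▸ (by decide +kernel : fastF4.pairing 26 41 = -1)
theorem f4m_nc_p_26_43 : (tabOf chevF4).pairing 26 43 = 1 :=
  tab_F4 ▸ (by decide +kernel : fastF4.pairing 26 43 = 1)
theorem f4m_nc_p_26_44 : (tabOf chevF4).pairing 26 44 = 0 :=
  tab_F4 ▸ (by decide +kernel : fastF4.pairing 26 44 = 0)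
theorem f4m_nc_p_26_45 : (tabOf chevF4).pairing 26 45 = -1 :=
  tab_F4 ▸ (by decide +kernel : fastF4.pairing 26 45 = -1)
theorem f4m_nc_p_26_46 : (tabOf chevF4).pairing 26 46 = 0 :=
  tab_F4 ▸ (by decide +kernel : fastF4.pairing 26 46 = 0)
theorem f4m_nc_p_27_24 : (tabOf chevF4).pairing 27 24 = 0 :=
  tab_F4 ▸ (by decide +kernel : fastF4.pairing 27 24 = 0)
theorem f4m_nc_p_27_25 : (tabOf chevF4).pairing 27 25 = -2 :=
  tab_F4 ▸ (by decide +kernel : fastF4.pairing 27 25 = -2)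
theorem f4m_nc_p_27_26 : (tabOf chevF4).pairing 27 26 = -2 :=
  tab_F4 ▸ (by decide +kernel : fastF4.pairing 27 26 = -2)
theorem f4m_nc_p_27_28 : (tabOf chevF4).pairing 27 28 = 0 :=
  tab_F4 ▸ (by decide +kernel : fastF4.pairing 27 28 = 0)
theorem f4m_nc_p_27_29 : (tabOf chevF4).pairing 27 29 = 0 :=
  tab_F4 ▸ (by decide +kernel : fastF4.pairing 27 29 = 0)
theorem f4m_nc_p_27_31 : (tabOf chevF4).pairing 27 31 = 2 :=
  tab_F4 ▸ (by decide +kernel : fastF4.pairing 27 31 = 2)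
theorem f4m_nc_p_27_32 : (tabOf chevF4).pairing 27 32 = 0 :=
  tab_F4 ▸ (by decide +kernel : fastF4.pairing 27 32 = 0)
theorem f4m_nc_p_27_36 : (tabOf chevF4).pairing 27 36 = -1 :=
  tab_F4 ▸ (by decide +kernel : fastF4.pairing 27 36 = -1)
theorem f4m_nc_p_27_40 : (tabOf chevF4).pairing 27 40 = 1 :=
  tab_F4 ▸ (by decide +kernel : fastF4.pairing 27 40 = 1)
theorem f4m_nc_p_27_41 : (tabOf chevF4).pairing 27 41 = 0 :=
  tab_F4 ▸ (by decide +kernel : fastF4.pairing 27 41 = 0)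
theorem f4m_nc_p_27_43 : (tabOf chevF4).pairing 27 43 = -2 :=
  tab_F4 ▸ (by decide +kernel : fastF4.pairing 27 43 = -2)
theorem f4m_nc_p_27_44 : (tabOf chevF4).pairing 27 44 = 0 :=
  tab_F4 ▸ (by decide +kernel : fastF4.pairing 27 44 = 0)
theorem f4m_nc_p_27_45 : (tabOf chevF4).pairing 27 45 = 2 :=
  tab_F4 ▸ (by decide +kernel : fastF4.pairing 27 45 = 2)
theorem f4m_nc_p_27_47 : (tabOf chevF4).pairing 27 47 = 0 :=
  tab_F4 ▸ (by decide +kernel : fastF4.pairing 27 47 = 0)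
theorem f4m_nc_p_29_24 : (tabOf chevF4).pairing 29 24 = 2 :=
  tab_F4 ▸ (by decide +kernel : fastF4.pairing 29 24 = 2)
theorem f4m_nc_p_29_25 : (tabOf chevF4).pairing 29 25 = 0 :=
  tab_F4 ▸ (by decide +kernel : fastF4.pairing 29 25 = 0)
theorem f4m_nc_p_29_26 : (tabOf chevF4).pairing 29 26 = 2 :=
  tab_F4 ▸ (by decide +kernel : fastF4.pairing 29 26 = 2)
theorem f4m_nc_p_29_27 : (tabOf chevF4).pairing 29 27 = 0 :=
  tab_F4 ▸ (by decide +kernel : fastF4.pairing 29 27 = 0)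
theorem f4m_nc_p_29_28 : (tabOf chevF4).pairing 29 28 = 0 :=
  tab_F4 ▸ (by decide +kernel : fastF4.pairing 29 28 = 0)
theorem f4m_nc_p_29_30 : (tabOf chevF4).pairing 29 30 = 0 :=
  tab_F4 ▸ (by decide +kernel : fastF4.pairing 29 30 = 0)
theorem f4m_nc_p_29_31 : (tabOf chevF4).pairing 29 31 = 2 :=
  tab_F4 ▸ (by decide +kernel : fastF4.pairing 29 31 = 2)
theorem f4m_nc_p_29_32 : (tabOf chevF4).pairing 29 32 = 2 :=
  tab_F4 ▸ (by decide +kernel : fastF4.pairing 29 32 = 2)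
theorem f4m_nc_p_29_36 : (tabOf chevF4).pairing 29 36 = 1 :=
  tab_F4 ▸ (by decide +kernel : fastF4.pairing 29 36 = 1)
theorem f4m_nc_p_29_40 : (tabOf chevF4).pairing 29 40 = 1 :=
  tab_F4 ▸ (by decide +kernel : fastF4.pairing 29 40 = 1)
theorem f4m_nc_p_29_41 : (tabOf chevF4).pairing 29 41 = -2 :=
  tab_F4 ▸ (by decide +kernel : fastF4.pairing 29 41 = -2)
theorem f4m_nc_p_29_43 : (tabOf chevF4).pairing 29 43 = 0 :=
  tab_F4 ▸ (by decide +kernel : fastF4.pairing 29 43 = 0)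
theorem f4m_nc_p_29_44 : (tabOf chevF4).pairing 29 44 = 0 :=
  tab_F4 ▸ (by decide +kernel : fastF4.pairing 29 44 = 0)
theorem f4m_nc_p_29_45 : (tabOf chevF4).pairing 29 45 = 0 :=
  tab_F4 ▸ (by decide +kernel : fastF4.pairing 29 45 = 0)
theorem f4m_nc_p_31_24 : (tabOf chevF4).pairing 31 24 = 1 :=
  tab_F4 ▸ (by decide +kernel : fastF4.pairing 31 24 = 1)
theorem f4m_nc_p_31_25 : (tabOf chevF4).pairing 31 25 = -1 :=
  tab_F4 ▸ (by decide +kernel : fastF4.pairing 31 25 = -1)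
theorem f4m_nc_p_31_26 : (tabOf chevF4).pairing 31 26 = 0 :=
  tab_F4 ▸ (by decide +kernel : fastF4.pairing 31 26 = 0)
theorem f4m_nc_p_31_28 : (tabOf chevF4).pairing 31 28 = 0 :=
  tab_F4 ▸ (by decide +kernel : fastF4.pairing 31 28 = 0)
theorem f4m_nc_p_31_31 : (tabOf chevF4).pairing 31 31 = 2 :=
  tab_F4 ▸ (by decide +kernel : fastF4.pairing 31 31 = 2)
theorem f4m_nc_p_31_32 : (tabOf chevF4).pairing 31 32 = 1 :=
  tab_F4 ▸ (by decide +kernel : fastF4.pairing 31 32 = 1)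
theorem f4m_nc_p_31_34 : (tabOf chevF4).pairing 31 34 = 0 :=
  tab_F4 ▸ (by decide +kernel : fastF4.pairing 31 34 = 0)
theorem f4m_nc_p_31_36 : (tabOf chevF4).pairing 31 36 = 0 :=
  tab_F4 ▸ (by decide +kernel : fastF4.pairing 31 36 = 0)
theorem f4m_nc_p_31_40 : (tabOf chevF4).pairing 31 40 = 1 :=
  tab_F4 ▸ (by decide +kernel : fastF4.pairing 31 40 = 1)
theorem f4m_nc_p_31_41 : (tabOf chevF4).pairing 31 41 = -1 :=
  tab_F4 ▸ (by decide +kernel : fastF4.pairing 31 41 = -1)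
theorem f4m_nc_p_31_42 : (tabOf chevF4).pairing 31 42 = 0 :=
  tab_F4 ▸ (by decide +kernel : fastF4.pairing 31 42 = 0)
theorem f4m_nc_p_31_43 : (tabOf chevF4).pairing 31 43 = -1 :=
  tab_F4 ▸ (by decide +kernel : fastF4.pairing 31 43 = -1)
theorem f4m_nc_p_31_44 : (tabOf chevF4).pairing 31 44 = 0 :=
  tab_F4 ▸ (by decide +kernel : fastF4.pairing 31 44 = 0)
theorem f4m_nc_p_31_45 : (tabOf chevF4).pairing 31 45 = 1 :=
  tab_F4 ▸ (by decide +kernel : fastF4.pairing 31 45 = 1)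
theorem f4m_nc_p_32_24 : (tabOf chevF4).pairing 32 24 = 0 :=
  tab_F4 ▸ (by decide +kernel : fastF4.pairing 32 24 = 0)
theorem f4m_nc_p_32_25 : (tabOf chevF4).pairing 32 25 = 1 :=
  tab_F4 ▸ (by decide +kernel : fastF4.pairing 32 25 = 1)
theorem f4m_nc_p_32_26 : (tabOf chevF4).pairing 32 26 = 1 :=
  tab_F4 ▸ (by decide +kernel : fastF4.pairing 32 26 = 1)
theorem f4m_nc_p_32_28 : (tabOf chevF4).pairing 32 28 = 1 :=
  tab_F4 ▸ (by decide +kernel : fastF4.pairing 32 28 = 1)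
theorem f4m_nc_p_32_31 : (tabOf chevF4).pairing 32 31 = 1 :=
  tab_F4 ▸ (by decide +kernel : fastF4.pairing 32 31 = 1)
theorem f4m_nc_p_32_32 : (tabOf chevF4).pairing 32 32 = 2 :=
  tab_F4 ▸ (by decide +kernel : fastF4.pairing 32 32 = 2)
theorem f4m_nc_p_32_36 : (tabOf chevF4).pairing 32 36 = 0 :=
  tab_F4 ▸ (by decide +kernel : fastF4.pairing 32 36 = 0)
theorem f4m_nc_p_32_38 : (tabOf chevF4).pairing 32 38 = 0 :=
  tab_F4 ▸ (by decide +kernel : fastF4.pairing 32 38 = 0)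
theorem f4m_nc_p_32_40 : (tabOf chevF4).pairing 32 40 = 1 :=
  tab_F4 ▸ (by decide +kernel : fastF4.pairing 32 40 = 1)
theorem f4m_nc_p_32_41 : (tabOf chevF4).pairing 32 41 = -1 :=
  tab_F4 ▸ (by decide +kernel : fastF4.pairing 32 41 = -1)
theorem f4m_nc_p_32_43 : (tabOf chevF4).pairing 32 43 = 0 :=
  tab_F4 ▸ (by decide +kernel : fastF4.pairing 32 43 = 0)
theorem f4m_nc_p_32_44 : (tabOf chevF4).pairing 32 44 = 0 :=
  tab_F4 ▸ (by decide +kernel : fastF4.pairing 32 44 = 0)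
theorem f4m_nc_p_32_45 : (tabOf chevF4).pairing 32 45 = 0 :=
  tab_F4 ▸ (by decide +kernel : fastF4.pairing 32 45 = 0)
theorem f4m_nc_p_33_24 : (tabOf chevF4).pairing 33 24 = 0 :=
  tab_F4 ▸ (by decide +kernel : fastF4.pairing 33 24 = 0)
theorem f4m_nc_p_33_25 : (tabOf chevF4).pairing 33 25 = 0 :=
  tab_F4 ▸ (by decide +kernel : fastF4.pairing 33 25 = 0)
theorem f4m_nc_p_33_26 : (tabOf chevF4).pairing 33 26 = 0 :=
  tab_F4 ▸ (by decide +kernel : fastF4.pairing 33 26 = 0)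
theorem f4m_nc_p_33_28 : (tabOf chevF4).pairing 33 28 = -1 :=
  tab_F4 ▸ (by decide +kernel : fastF4.pairing 33 28 = -1)
theorem f4m_nc_p_33_31 : (tabOf chevF4).pairing 33 31 = -2 :=
  tab_F4 ▸ (by decide +kernel : fastF4.pairing 33 31 = -2)
theorem f4m_nc_p_33_32 : (tabOf chevF4).pairing 33 32 = -2 :=
  tab_F4 ▸ (by decide +kernel : fastF4.pairing 33 32 = -2)
theorem f4m_nc_p_33_36 : (tabOf chevF4).pairing 33 36 = 1 :=
  tab_F4 ▸ (by decide +kernel : fastF4.pairing 33 36 = 1)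
theorem f4m_nc_p_33_39 : (tabOf chevF4).pairing 33 39 = 0 :=
  tab_F4 ▸ (by decide +kernel : fastF4.pairing 33 39 = 0)
theorem f4m_nc_p_33_40 : (tabOf chevF4).pairing 33 40 = -1 :=
  tab_F4 ▸ (by decide +kernel : fastF4.pairing 33 40 = -1)
theorem f4m_nc_p_33_41 : (tabOf chevF4).pairing 33 41 = 2 :=
  tab_F4 ▸ (by decide +kernel : fastF4.pairing 33 41 = 2)
theorem f4m_nc_p_33_43 : (tabOf chevF4).pairing 33 43 = 2 :=
  tab_F4 ▸ (by decide +kernel : fastF4.pairing 33 43 = 2)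
theorem f4m_nc_p_33_44 : (tabOf chevF4).pairing 33 44 = 1 :=
  tab_F4 ▸ (by decide +kernel : fastF4.pairing 33 44 = 1)
theorem f4m_nc_p_33_45 : (tabOf chevF4).pairing 33 45 = 0 :=
  tab_F4 ▸ (by decide +kernel : fastF4.pairing 33 45 = 0)
theorem f4m_nc_p_34_24 : (tabOf chevF4).pairing 34 24 = 0 :=
  tab_F4 ▸ (by decide +kernel : fastF4.pairing 34 24 = 0)
theorem f4m_nc_p_34_25 : (tabOf chevF4).pairing 34 25 = -2 :=
  tab_F4 ▸ (by decide +kernel : fastF4.pairing 34 25 = -2)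
theorem f4m_nc_p_34_26 : (tabOf chevF4).pairing 34 26 = -2 :=
  tab_F4 ▸ (by decide +kernel : fastF4.pairing 34 26 = -2)
theorem f4m_nc_p_34_28 : (tabOf chevF4).pairing 34 28 = -1 :=
  tab_F4 ▸ (by decide +kernel : fastF4.pairing 34 28 = -1)
theorem f4m_nc_p_34_31 : (tabOf chevF4).pairing 34 31 = 0 :=
  tab_F4 ▸ (by decide +kernel : fastF4.pairing 34 31 = 0)
theorem f4m_nc_p_34_32 : (tabOf chevF4).pairing 34 32 = -2 :=
  tab_F4 ▸ (by decide +kernel : fastF4.pairing 34 32 = -2)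
theorem f4m_nc_p_34_35 : (tabOf chevF4).pairing 34 35 = 0 :=
  tab_F4 ▸ (by decide +kernel : fastF4.pairing 34 35 = 0)
theorem f4m_nc_p_34_36 : (tabOf chevF4).pairing 34 36 = 0 :=
  tab_F4 ▸ (by decide +kernel : fastF4.pairing 34 36 = 0)
theorem f4m_nc_p_34_40 : (tabOf chevF4).pairing 34 40 = 0 :=
  tab_F4 ▸ (by decide +kernel : fastF4.pairing 34 40 = 0)
theorem f4m_nc_p_34_41 : (tabOf chevF4).pairing 34 41 = 2 :=
  tab_F4 ▸ (by decide +kernel : fastF4.pairing 34 41 = 2)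
theorem f4m_nc_p_34_43 : (tabOf chevF4).pairing 34 43 = 0 :=
  tab_F4 ▸ (by decide +kernel : fastF4.pairing 34 43 = 0)
theorem f4m_nc_p_34_44 : (tabOf chevF4).pairing 34 44 = 1 :=
  tab_F4 ▸ (by decide +kernel : fastF4.pairing 34 44 = 1)
theorem f4m_nc_p_34_45 : (tabOf chevF4).pairing 34 45 = 2 :=
  tab_F4 ▸ (by decide +kernel : fastF4.pairing 34 45 = 2)
theorem f4m_nc_p_34_46 : (tabOf chevF4).pairing 34 46 = 0 :=
  tab_F4 ▸ (by decide +kernel : fastF4.pairing 34 46 = 0)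
theorem f4m_nc_p_35_24 : (tabOf chevF4).pairing 35 24 = -2 :=
  tab_F4 ▸ (by decide +kernel : fastF4.pairing 35 24 = -2)
theorem f4m_nc_p_35_25 : (tabOf chevF4).pairing 35 25 = 2 :=
  tab_F4 ▸ (by decide +kernel : fastF4.pairing 35 25 = 2)
theorem f4m_nc_p_35_26 : (tabOf chevF4).pairing 35 26 = 0 :=
  tab_F4 ▸ (by decide +kernel : fastF4.pairing 35 26 = 0)
theorem f4m_nc_p_35_28 : (tabOf chevF4).pairing 35 28 = 1 :=
  tab_F4 ▸ (by decide +kernel : fastF4.pairing 35 28 = 1)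
theorem f4m_nc_p_35_31 : (tabOf chevF4).pairing 35 31 = -2 :=
  tab_F4 ▸ (by decide +kernel : fastF4.pairing 35 31 = -2)
theorem f4m_nc_p_35_32 : (tabOf chevF4).pairing 35 32 = 0 :=
  tab_F4 ▸ (by decide +kernel : fastF4.pairing 35 32 = 0)
theorem f4m_nc_p_35_34 : (tabOf chevF4).pairing 35 34 = 0 :=
  tab_F4 ▸ (by decide +kernel : fastF4.pairing 35 34 = 0)
theorem f4m_nc_p_35_36 : (tabOf chevF4).pairing 35 36 = 0 :=
  tab_F4 ▸ (by decide +kernel : fastF4.pairing 35 36 = 0)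
theorem f4m_nc_p_35_40 : (tabOf chevF4).pairing 35 40 = 0 :=
  tab_F4 ▸ (by decide +kernel : fastF4.pairing 35 40 = 0)
theorem f4m_nc_p_35_41 : (tabOf chevF4).pairing 35 41 = 2 :=
  tab_F4 ▸ (by decide +kernel : fastF4.pairing 35 41 = 2)
theorem f4m_nc_p_35_42 : (tabOf chevF4).pairing 35 42 = 0 :=
  tab_F4 ▸ (by decide +kernel : fastF4.pairing 35 42 = 0)
theorem f4m_nc_p_35_43 : (tabOf chevF4).pairing 35 43 = 2 :=
  tab_F4 ▸ (by decide +kernel : fastF4.pairing 35 43 = 2)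
theorem f4m_nc_p_35_44 : (tabOf chevF4).pairing 35 44 = 1 :=
  tab_F4 ▸ (by decide +kernel : fastF4.pairing 35 44 = 1)
theorem f4m_nc_p_35_45 : (tabOf chevF4).pairing 35 45 = 0 :=
  tab_F4 ▸ (by decide +kernel : fastF4.pairing 35 45 = 0)
theorem f4m_nc_p_37_24 : (tabOf chevF4).pairing 37 24 = -2 :=
  tab_F4 ▸ (by decide +kernel : fastF4.pairing 37 24 = -2)
theorem f4m_nc_p_37_25 : (tabOf chevF4).pairing 37 25 = 0 :=
  tab_F4 ▸ (by decide +kernel : fastF4.pairing 37 25 = 0)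
theorem f4m_nc_p_37_26 : (tabOf chevF4).pairing 37 26 = -2 :=
  tab_F4 ▸ (by decide +kernel : fastF4.pairing 37 26 = -2)
theorem f4m_nc_p_37_28 : (tabOf chevF4).pairing 37 28 = 1 :=
  tab_F4 ▸ (by decide +kernel : fastF4.pairing 37 28 = 1)
theorem f4m_nc_p_37_31 : (tabOf chevF4).pairing 37 31 = 0 :=
  tab_F4 ▸ (by decide +kernel : fastF4.pairing 37 31 = 0)
theorem f4m_nc_p_37_32 : (tabOf chevF4).pairing 37 32 = 0 :=
  tab_F4 ▸ (by decide +kernel : fastF4.pairing 37 32 = 0)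
theorem f4m_nc_p_37_36 : (tabOf chevF4).pairing 37 36 = -1 :=
  tab_F4 ▸ (by decide +kernel : fastF4.pairing 37 36 = -1)
theorem f4m_nc_p_37_38 : (tabOf chevF4).pairing 37 38 = 0 :=
  tab_F4 ▸ (by decide +kernel : fastF4.pairing 37 38 = 0)
theorem f4m_nc_p_37_40 : (tabOf chevF4).pairing 37 40 = 1 :=
  tab_F4 ▸ (by decide +kernel : fastF4.pairing 37 40 = 1)
theorem f4m_nc_p_37_41 : (tabOf chevF4).pairing 37 41 = 2 :=
  tab_F4 ▸ (by decide +kernel : fastF4.pairing 37 41 = 2)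
theorem f4m_nc_p_37_43 : (tabOf chevF4).pairing 37 43 = 0 :=
  tab_F4 ▸ (by decide +kernel : fastF4.pairing 37 43 = 0)
theorem f4m_nc_p_37_44 : (tabOf chevF4).pairing 37 44 = 1 :=
  tab_F4 ▸ (by decide +kernel : fastF4.pairing 37 44 = 1)
theorem f4m_nc_p_37_45 : (tabOf chevF4).pairing 37 45 = 2 :=
  tab_F4 ▸ (by decide +kernel : fastF4.pairing 37 45 = 2)
theorem f4m_nc_p_38_24 : (tabOf chevF4).pairing 38 24 = 2 :=
  tab_F4 ▸ (by decide +kernel : fastF4.pairing 38 24 = 2)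
theorem f4m_nc_p_38_25 : (tabOf chevF4).pairing 38 25 = -2 :=
  tab_F4 ▸ (by decide +kernel : fastF4.pairing 38 25 = -2)
theorem f4m_nc_p_38_26 : (tabOf chevF4).pairing 38 26 = 0 :=
  tab_F4 ▸ (by decide +kernel : fastF4.pairing 38 26 = 0)
theorem f4m_nc_p_38_28 : (tabOf chevF4).pairing 38 28 = -1 :=
  tab_F4 ▸ (by decide +kernel : fastF4.pairing 38 28 = -1)
theorem f4m_nc_p_38_31 : (tabOf chevF4).pairing 38 31 = 2 :=
  tab_F4 ▸ (by decide +kernel : fastF4.pairing 38 31 = 2)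
theorem f4m_nc_p_38_32 : (tabOf chevF4).pairing 38 32 = 0 :=
  tab_F4 ▸ (by decide +kernel : fastF4.pairing 38 32 = 0)
theorem f4m_nc_p_38_36 : (tabOf chevF4).pairing 38 36 = 1 :=
  tab_F4 ▸ (by decide +kernel : fastF4.pairing 38 36 = 1)
theorem f4m_nc_p_38_37 : (tabOf chevF4).pairing 38 37 = 0 :=
  tab_F4 ▸ (by decide +kernel : fastF4.pairing 38 37 = 0)
theorem f4m_nc_p_38_40 : (tabOf chevF4).pairing 38 40 = 1 :=
  tab_F4 ▸ (by decide +kernel : fastF4.pairing 38 40 = 1)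
theorem f4m_nc_p_38_41 : (tabOf chevF4).pairing 38 41 = 0 :=
  tab_F4 ▸ (by decide +kernel : fastF4.pairing 38 41 = 0)
theorem f4m_nc_p_38_43 : (tabOf chevF4).pairing 38 43 = 0 :=
  tab_F4 ▸ (by decide +kernel : fastF4.pairing 38 43 = 0)
theorem f4m_nc_p_38_44 : (tabOf chevF4).pairing 38 44 = 1 :=
  tab_F4 ▸ (by decide +kernel : fastF4.pairing 38 44 = 1)
theorem f4m_nc_p_38_45 : (tabOf chevF4).pairing 38 45 = 2 :=
  tab_F4 ▸ (by decide +kernel : fastF4.pairing 38 45 = 2)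
theorem f4m_nc_p_39_24 : (tabOf chevF4).pairing 39 24 = 0 :=
  tab_F4 ▸ (by decide +kernel : fastF4.pairing 39 24 = 0)
theorem f4m_nc_p_39_25 : (tabOf chevF4).pairing 39 25 = 2 :=
  tab_F4 ▸ (by decide +kernel : fastF4.pairing 39 25 = 2)
theorem f4m_nc_p_39_26 : (tabOf chevF4).pairing 39 26 = 2 :=
  tab_F4 ▸ (by decide +kernel : fastF4.pairing 39 26 = 2)
theorem f4m_nc_p_39_28 : (tabOf chevF4).pairing 39 28 = 1 :=
  tab_F4 ▸ (by decide +kernel : fastF4.pairing 39 28 = 1)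
theorem f4m_nc_p_39_31 : (tabOf chevF4).pairing 39 31 = 0 :=
  tab_F4 ▸ (by decide +kernel : fastF4.pairing 39 31 = 0)
theorem f4m_nc_p_39_32 : (tabOf chevF4).pairing 39 32 = 2 :=
  tab_F4 ▸ (by decide +kernel : fastF4.pairing 39 32 = 2)
theorem f4m_nc_p_39_33 : (tabOf chevF4).pairing 39 33 = 0 :=
  tab_F4 ▸ (by decide +kernel : fastF4.pairing 39 33 = 0)
theorem f4m_nc_p_39_36 : (tabOf chevF4).pairing 39 36 = 1 :=
  tab_F4 ▸ (by decide +kernel : fastF4.pairing 39 36 = 1)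
theorem f4m_nc_p_39_40 : (tabOf chevF4).pairing 39 40 = 1 :=
  tab_F4 ▸ (by decide +kernel : fastF4.pairing 39 40 = 1)
theorem f4m_nc_p_39_41 : (tabOf chevF4).pairing 39 41 = 0 :=
  tab_F4 ▸ (by decide +kernel : fastF4.pairing 39 41 = 0)
theorem f4m_nc_p_39_43 : (tabOf chevF4).pairing 39 43 = 2 :=
  tab_F4 ▸ (by decide +kernel : fastF4.pairing 39 43 = 2)
theorem f4m_nc_p_39_44 : (tabOf chevF4).pairing 39 44 = 1 :=
  tab_F4 ▸ (by decide +kernel : fastF4.pairing 39 44 = 1)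
theorem f4m_nc_p_39_45 : (tabOf chevF4).pairing 39 45 = 0 :=
  tab_F4 ▸ (by decide +kernel : fastF4.pairing 39 45 = 0)
theorem f4m_nc_p_41_24 : (tabOf chevF4).pairing 41 24 = -1 :=
  tab_F4 ▸ (by decide +kernel : fastF4.pairing 41 24 = -1)
theorem f4m_nc_p_41_25 : (tabOf chevF4).pairing 41 25 = 0 :=
  tab_F4 ▸ (by decide +kernel : fastF4.pairing 41 25 = 0)
theorem f4m_nc_p_41_26 : (tabOf chevF4).pairing 41 26 = -1 :=
  tab_F4 ▸ (by decide +kernel : fastF4.pairing 41 26 = -1)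
theorem f4m_nc_p_41_27 : (tabOf chevF4).pairing 41 27 = 0 :=
  tab_F4 ▸ (by decide +kernel : fastF4.pairing 41 27 = 0)
theorem f4m_nc_p_41_28 : (tabOf chevF4).pairing 41 28 = 0 :=
  tab_F4 ▸ (by decide +kernel : fastF4.pairing 41 28 = 0)
theorem f4m_nc_p_41_30 : (tabOf chevF4).pairing 41 30 = 0 :=
  tab_F4 ▸ (by decide +kernel : fastF4.pairing 41 30 = 0)
theorem f4m_nc_p_41_31 : (tabOf chevF4).pairing 41 31 = -1 :=
  tab_F4 ▸ (by decide +kernel : fastF4.pairing 41 31 = -1)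
theorem f4m_nc_p_41_32 : (tabOf chevF4).pairing 41 32 = -1 :=
  tab_F4 ▸ (by decide +kernel : fastF4.pairing 41 32 = -1)
theorem f4m_nc_p_41_36 : (tabOf chevF4).pairing 41 36 = 0 :=
  tab_F4 ▸ (by decide +kernel : fastF4.pairing 41 36 = 0)
theorem f4m_nc_p_41_40 : (tabOf chevF4).pairing 41 40 = 0 :=
  tab_F4 ▸ (by decide +kernel : fastF4.pairing 41 40 = 0)
theorem f4m_nc_p_41_41 : (tabOf chevF4).pairing 41 41 = 2 :=
  tab_F4 ▸ (by decide +kernel : fastF4.pairing 41 41 = 2)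
theorem f4m_nc_p_41_43 : (tabOf chevF4).pairing 41 43 = 1 :=
  tab_F4 ▸ (by decide +kernel : fastF4.pairing 41 43 = 1)
theorem f4m_nc_p_41_44 : (tabOf chevF4).pairing 41 44 = 1 :=
  tab_F4 ▸ (by decide +kernel : fastF4.pairing 41 44 = 1)
theorem f4m_nc_p_41_45 : (tabOf chevF4).pairing 41 45 = 1 :=
  tab_F4 ▸ (by decide +kernel : fastF4.pairing 41 45 = 1)
theorem f4m_nc_p_43_24 : (tabOf chevF4).pairing 43 24 = 0 :=
  tab_F4 ▸ (by decide +kernel : fastF4.pairing 43 24 = 0)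
theorem f4m_nc_p_43_25 : (tabOf chevF4).pairing 43 25 = 1 :=
  tab_F4 ▸ (by decide +kernel : fastF4.pairing 43 25 = 1)
theorem f4m_nc_p_43_26 : (tabOf chevF4).pairing 43 26 = 1 :=
  tab_F4 ▸ (by decide +kernel : fastF4.pairing 43 26 = 1)
theorem f4m_nc_p_43_28 : (tabOf chevF4).pairing 43 28 = 0 :=
  tab_F4 ▸ (by decide +kernel : fastF4.pairing 43 28 = 0)
theorem f4m_nc_p_43_31 : (tabOf chevF4).pairing 43 31 = -1 :=
  tab_F4 ▸ (by decide +kernel : fastF4.pairing 43 31 = -1)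
theorem f4m_nc_p_43_32 : (tabOf chevF4).pairing 43 32 = 0 :=
  tab_F4 ▸ (by decide +kernel : fastF4.pairing 43 32 = 0)
theorem f4m_nc_p_43_36 : (tabOf chevF4).pairing 43 36 = 1 :=
  tab_F4 ▸ (by decide +kernel : fastF4.pairing 43 36 = 1)
theorem f4m_nc_p_43_37 : (tabOf chevF4).pairing 43 37 = 0 :=
  tab_F4 ▸ (by decide +kernel : fastF4.pairing 43 37 = 0)
theorem f4m_nc_p_43_40 : (tabOf chevF4).pairing 43 40 = 0 :=
  tab_F4 ▸ (by decide +kernel : fastF4.pairing 43 40 = 0)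
theorem f4m_nc_p_43_41 : (tabOf chevF4).pairing 43 41 = 1 :=
  tab_F4 ▸ (by decide +kernel : fastF4.pairing 43 41 = 1)
theorem f4m_nc_p_43_43 : (tabOf chevF4).pairing 43 43 = 2 :=
  tab_F4 ▸ (by decide +kernel : fastF4.pairing 43 43 = 2)
theorem f4m_nc_p_43_44 : (tabOf chevF4).pairing 43 44 = 1 :=
  tab_F4 ▸ (by decide +kernel : fastF4.pairing 43 44 = 1)
theorem f4m_nc_p_43_45 : (tabOf chevF4).pairing 43 45 = 0 :=
  tab_F4 ▸ (by decide +kernel : fastF4.pairing 43 45 = 0)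
theorem f4m_nc_p_45_24 : (tabOf chevF4).pairing 45 24 = 0 :=
  tab_F4 ▸ (by decide +kernel : fastF4.pairing 45 24 = 0)
theorem f4m_nc_p_45_25 : (tabOf chevF4).pairing 45 25 = -1 :=
  tab_F4 ▸ (by decide +kernel : fastF4.pairing 45 25 = -1)
theorem f4m_nc_p_45_26 : (tabOf chevF4).pairing 45 26 = -1 :=
  tab_F4 ▸ (by decide +kernel : fastF4.pairing 45 26 = -1)
theorem f4m_nc_p_45_28 : (tabOf chevF4).pairing 45 28 = 0 :=
  tab_F4 ▸ (by decide +kernel : fastF4.pairing 45 28 = 0)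
theorem f4m_nc_p_45_31 : (tabOf chevF4).pairing 45 31 = 1 :=
  tab_F4 ▸ (by decide +kernel : fastF4.pairing 45 31 = 1)
theorem f4m_nc_p_45_32 : (tabOf chevF4).pairing 45 32 = 0 :=
  tab_F4 ▸ (by decide +kernel : fastF4.pairing 45 32 = 0)
theorem f4m_nc_p_45_33 : (tabOf chevF4).pairing 45 33 = 0 :=
  tab_F4 ▸ (by decide +kernel : fastF4.pairing 45 33 = 0)
theorem f4m_nc_p_45_36 : (tabOf chevF4).pairing 45 36 = 0 :=
  tab_F4 ▸ (by decide +kernel : fastF4.pairing 45 36 = 0)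
theorem f4m_nc_p_45_40 : (tabOf chevF4).pairing 45 40 = 1 :=
  tab_F4 ▸ (by decide +kernel : fastF4.pairing 45 40 = 1)
theorem f4m_nc_p_45_41 : (tabOf chevF4).pairing 45 41 = 1 :=
  tab_F4 ▸ (by decide +kernel : fastF4.pairing 45 41 = 1)
theorem f4m_nc_p_45_43 : (tabOf chevF4).pairing 45 43 = 0 :=
  tab_F4 ▸ (by decide +kernel : fastF4.pairing 45 43 = 0)
theorem f4m_nc_p_45_44 : (tabOf chevF4).pairing 45 44 = 1 :=
  tab_F4 ▸ (by decide +kernel : fastF4.pairing 45 44 = 1)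
theorem f4m_nc_p_45_45 : (tabOf chevF4).pairing 45 45 = 2 :=
  tab_F4 ▸ (by decide +kernel : fastF4.pairing 45 45 = 2)

variable {K : Type*} [Field K] [CharP K 2] {m : ℕ} (hm : ∀ t : K, t ^ 2 ^ (2 * m + 1) = t)

/-! ### injectivity of the coordinates -/

theorem f4m_nc_inj0 (a b a' b' : K) (h : fx K 33 a * fx K 24 b = fx K 33 a' * fx K 24 b') : a = a' ∧ b = b' :=
  fP_injective h
theorem f4m_nc_inj1 (s t c d s' t' c' d' : K)
    (h : fx K 34 s * fx K 26 t * fx K 36 c * fx K 42 d = fx K 34 s' * fx K 26 t' * fx K 36 c' * fx K 42 d') :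
    s = s' ∧ t = t' ∧ c = c' ∧ d = d' :=
  f4m_tt_quad_inj (f4mTailWord_lt false 2) (f4m_tab_false.2.1).1 (f4m_tab_false.2.1).2.1 (f4m_tab_false.2.1).2.2.1 (f4m_tab_false.2.1).2.2.2 h
theorem f4m_nc_inj2 (a b a' b' : K) (h : fx K 38 a * fx K 43 b = fx K 38 a' * fx K 43 b') : a = a' ∧ b = b' :=
  f4m_tt_pair_inj (f4mTailWord_lt false 3) (f4m_tab_false.2.2.1).1 (f4m_tab_false.2.2.1).2 h
theorem f4m_nc_inj3 (s t c d s' t' c' d' : K)
    (h : fx K 29 s * fx K 41 t * fx K 44 c * fx K 47 d = fx K 29 s' * fx K 41 t' * fx K 44 c' * fx K 47 d') :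
    s = s' ∧ t = t' ∧ c = c' ∧ d = d' :=
  f4m_tt_quad_inj (f4mTailWord_lt false 4) (f4m_tab_false.2.2.2.1).1 (f4m_tab_false.2.2.2.1).2.1 (f4m_tab_false.2.2.2.1).2.2.1 (f4m_tab_false.2.2.2.1).2.2.2 h
theorem f4m_nc_inj4 (a b a' b' : K) (h : fx K 39 a * fx K 45 b = fx K 39 a' * fx K 45 b') : a = a' ∧ b = b' :=
  f4m_tt_pair_inj (f4mTailWord_lt false 5) (f4m_tab_false.2.2.2.2.1).1 (f4m_tab_false.2.2.2.2.1).2 h
theorem f4m_nc_inj5 (s t c d s' t' c' d' : K)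
    (h : fx K 35 s * fx K 31 t * fx K 40 c * fx K 46 d = fx K 35 s' * fx K 31 t' * fx K 40 c' * fx K 46 d') :
    s = s' ∧ t = t' ∧ c = c' ∧ d = d' :=
  f4m_tt_quad_inj (f4mTailWord_lt false 6) (f4m_tab_false.2.2.2.2.2.1).1 (f4m_tab_false.2.2.2.2.2.1).2.1 (f4m_tab_false.2.2.2.2.2.1).2.2.1 (f4m_tab_false.2.2.2.2.2.1).2.2.2 h
theorem f4m_nc_inj6 (a b a' b' : K) (h : fx K 37 a * fx K 32 b = fx K 37 a' * fx K 32 b') : a = a' ∧ b = b' :=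
  f4m_tt_pair_inj (f4mTailWord_lt false 7) (f4m_tab_false.2.2.2.2.2.2.1).1 (f4m_tab_false.2.2.2.2.2.2.1).2 h
theorem f4m_nc_inj7 (s t c d s' t' c' d' : K)
    (h : fx K 27 s * fx K 25 t * fx K 28 c * fx K 30 d = fx K 27 s' * fx K 25 t' * fx K 28 c' * fx K 30 d') :
    s = s' ∧ t = t' ∧ c = c' ∧ d = d' :=
  f4m_tt_quad_inj (f4mTailWord_lt false 8) (f4m_tab_false.2.2.2.2.2.2.2).1 (f4m_tab_false.2.2.2.2.2.2.2).2.1 (f4m_tab_false.2.2.2.2.2.2.2).2.2.1 (f4m_tab_false.2.2.2.2.2.2.2).2.2.2 h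

/-! ### the rank-one tori are `h(s,u)` -/

include hm in
theorem f4m_nc_tor0_eq (ν : Kˣ) : ∃ p : Kˣ × Kˣ, f4mTor K m 24 33 ν = gh4 K m p :=
  ⟨_, f4m_tt_tor_eq hm 24 33 (by decide) (by decide) (by decide) (by decide) ν⟩
include hm in
theorem f4m_nc_tor1_eq (ν : Kˣ) : ∃ p : Kˣ × Kˣ, f4mTor K m 26 34 ν = gh4 K m p :=
  ⟨_, f4m_tt_tor_eq hm 26 34 (by decide) (by decide) (by decide) (by decide) ν⟩
include hm in
theorem f4m_nc_tor2_eq (ν : Kˣ) : ∃ p : Kˣ × Kˣ, f4mTor K m 43 38 ν = gh4 K m p :=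
  ⟨_, f4m_tt_tor_eq hm 43 38 (by decide) (by decide) (by decide) (by decide) ν⟩
include hm in
theorem f4m_nc_tor3_eq (ν : Kˣ) : ∃ p : Kˣ × Kˣ, f4mTor K m 41 29 ν = gh4 K m p :=
  ⟨_, f4m_tt_tor_eq hm 41 29 (by decide) (by decide) (by decide) (by decide) ν⟩
include hm in
theorem f4m_nc_tor4_eq (ν : Kˣ) : ∃ p : Kˣ × Kˣ, f4mTor K m 45 39 ν = gh4 K m p :=
  ⟨_, f4m_tt_tor_eq hm 45 39 (by decide) (by decide) (by decide) (by decide) ν⟩
include hm in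
theorem f4m_nc_tor5_eq (ν : Kˣ) : ∃ p : Kˣ × Kˣ, f4mTor K m 31 35 ν = gh4 K m p :=
  ⟨_, f4m_tt_tor_eq hm 31 35 (by decide) (by decide) (by decide) (by decide) ν⟩
include hm in
theorem f4m_nc_tor6_eq (ν : Kˣ) : ∃ p : Kˣ × Kˣ, f4mTor K m 32 37 ν = gh4 K m p :=
  ⟨_, f4m_tt_tor_eq hm 32 37 (by decide) (by decide) (by decide) (by decide) ν⟩
include hm in
theorem f4m_nc_tor7_eq (ν : Kˣ) : ∃ p : Kˣ × Kˣ, f4mTor K m 25 27 ν = gh4 K m p :=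
  ⟨_, f4m_tt_tor_eq hm 25 27 (by decide) (by decide) (by decide) (by decide) ν⟩

/-! ### centralizing the opposite class -/

include hm in
theorem f4m_nc_cent0 (ν : Kˣ) : ∀ y ∈ f4mUk hm 4, f4mTor K m 24 33 ν * y = y * f4mTor K m 24 33 ν := by
  intro y hy
  obtain ⟨t, rfl⟩ := (mem_f4mUk_4 hm).mp hy
  exact f4m_tt_cent_pair 24 33 ν 39 45 f4m_nc_p_24_39 f4m_nc_p_33_39 f4m_nc_p_24_45 f4m_nc_p_33_45 t
include hm in
theorem f4m_nc_cent1 (ν : Kˣ) : ∀ y ∈ f4mUk hm 5, f4mTor K m 26 34 ν * y = y * f4mTor K m 26 34 ν := by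
  intro y hy
  obtain ⟨t, u, rfl⟩ := (mem_f4mUk_5 hm).mp hy
  exact f4m_tt_cent_quad 26 34 ν 35 31 40 46 f4m_nc_p_26_35 f4m_nc_p_34_35 f4m_nc_p_26_31 f4m_nc_p_34_31
    f4m_nc_p_26_40 f4m_nc_p_34_40 f4m_nc_p_26_46 f4m_nc_p_34_46 t u
include hm in
theorem f4m_nc_cent2 (ν : Kˣ) : ∀ y ∈ f4mUk hm 6, f4mTor K m 43 38 ν * y = y * f4mTor K m 43 38 ν := by
  intro y hy
  obtain ⟨t, rfl⟩ := (mem_f4mUk_6 hm).mp hy
  exact f4m_tt_cent_pair 43 38 ν 37 32 f4m_nc_p_43_37 f4m_nc_p_38_37 f4m_nc_p_43_32 f4m_nc_p_38_32 t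
include hm in
theorem f4m_nc_cent3 (ν : Kˣ) : ∀ y ∈ f4mUk hm 7, f4mTor K m 41 29 ν * y = y * f4mTor K m 41 29 ν := by
  intro y hy
  obtain ⟨t, u, rfl⟩ := (mem_f4mUk_7 hm).mp hy
  exact f4m_tt_cent_quad 41 29 ν 27 25 28 30 f4m_nc_p_41_27 f4m_nc_p_29_27 f4m_nc_p_41_25 f4m_nc_p_29_25
    f4m_nc_p_41_28 f4m_nc_p_29_28 f4m_nc_p_41_30 f4m_nc_p_29_30 t u
include hm in
theorem f4m_nc_cent4 (ν : Kˣ) : ∀ y ∈ f4mUk hm 0, f4mTor K m 45 39 ν * y = y * f4mTor K m 45 39 ν := by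
  intro y hy
  obtain ⟨t, rfl⟩ := (mem_f4mUk_0 hm).mp hy
  exact f4m_tt_cent_pair 45 39 ν 33 24 f4m_nc_p_45_33 f4m_nc_p_39_33 f4m_nc_p_45_24 f4m_nc_p_39_24 t
include hm in
theorem f4m_nc_cent5 (ν : Kˣ) : ∀ y ∈ f4mUk hm 1, f4mTor K m 31 35 ν * y = y * f4mTor K m 31 35 ν := by
  intro y hy
  obtain ⟨t, u, rfl⟩ := (mem_f4mUk_1 hm).mp hy
  exact f4m_tt_cent_quad 31 35 ν 34 26 36 42 f4m_nc_p_31_34 f4m_nc_p_35_34 f4m_nc_p_31_26 f4m_nc_p_35_26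
    f4m_nc_p_31_36 f4m_nc_p_35_36 f4m_nc_p_31_42 f4m_nc_p_35_42 t u
include hm in
theorem f4m_nc_cent6 (ν : Kˣ) : ∀ y ∈ f4mUk hm 2, f4mTor K m 32 37 ν * y = y * f4mTor K m 32 37 ν := by
  intro y hy
  obtain ⟨t, rfl⟩ := (mem_f4mUk_2 hm).mp hy
  exact f4m_tt_cent_pair 32 37 ν 38 43 f4m_nc_p_32_38 f4m_nc_p_37_38 f4m_nc_p_32_43 f4m_nc_p_37_43 t
include hm in
theorem f4m_nc_cent7 (ν : Kˣ) : ∀ y ∈ f4mUk hm 3, f4mTor K m 25 27 ν * y = y * f4mTor K m 25 27 ν := by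
  intro y hy
  obtain ⟨t, u, rfl⟩ := (mem_f4mUk_3 hm).mp hy
  exact f4m_tt_cent_quad 25 27 ν 29 41 44 47 f4m_nc_p_25_29 f4m_nc_p_27_29 f4m_nc_p_25_41 f4m_nc_p_27_41
    f4m_nc_p_25_44 f4m_nc_p_27_44 f4m_nc_p_25_47 f4m_nc_p_27_47 t u

/-! ### acting freely on the other classes -/

include hm in
theorem f4m_nc_free0_0 (hm1 : 1 ≤ m) {ν : Kˣ} (hν : orderOf ν = 2 ^ (2 * m + 1) - 1) :
    ∀ y ∈ f4mUk hm 0, f4mTor K m 24 33 ν * y = y * f4mTor K m 24 33 ν → y = 1 := by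
  intro y hy hc
  obtain ⟨t, rfl⟩ := (mem_f4mUk_0 hm).mp hy
  exact f4m_tt_free_pair 24 33 ν 33 24 f4m_nc_inj0 (2) (0) f4m_nc_p_24_24 f4m_nc_p_33_24
    (f4m_tt_gen_ne_one' hm1 hν (2) (0) (by decide) (by decide) (by decide) (by decide) (by decide)) t hc
include hm in
theorem f4m_nc_free0_1 (hm1 : 1 ≤ m) {ν : Kˣ} (hν : orderOf ν = 2 ^ (2 * m + 1) - 1) :
    ∀ y ∈ f4mUk hm 1, f4mTor K m 24 33 ν * y = y * f4mTor K m 24 33 ν → y = 1 := by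
  intro y hy hc
  obtain ⟨t, u, rfl⟩ := (mem_f4mUk_1 hm).mp hy
  exact f4m_tt_free_quad 24 33 ν 34 26 36 42 f4m_nc_inj1 (1) (0) (1) (1) f4m_nc_p_24_26 f4m_nc_p_33_26
    f4m_nc_p_24_36 f4m_nc_p_33_36 (f4m_tt_gen_ne_one' hm1 hν (1) (0) (by decide) (by decide) (by decide) (by decide) (by decide))
    (f4m_tt_gen_ne_one' hm1 hν (1) (1) (by decide) (by decide) (by decide) (by decide) (by decide)) t u hc
include hm in
theorem f4m_nc_free0_2 (hm1 : 1 ≤ m) {ν : Kˣ} (hν : orderOf ν = 2 ^ (2 * m + 1) - 1) :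
    ∀ y ∈ f4mUk hm 2, f4mTor K m 24 33 ν * y = y * f4mTor K m 24 33 ν → y = 1 := by
  intro y hy hc
  obtain ⟨t, rfl⟩ := (mem_f4mUk_2 hm).mp hy
  exact f4m_tt_free_pair 24 33 ν 38 43 f4m_nc_inj2 (0) (2) f4m_nc_p_24_43 f4m_nc_p_33_43
    (f4m_tt_gen_ne_one' hm1 hν (0) (2) (by decide) (by decide) (by decide) (by decide) (by decide)) t hc
include hm in
theorem f4m_nc_free0_3 (hm1 : 1 ≤ m) {ν : Kˣ} (hν : orderOf ν = 2 ^ (2 * m + 1) - 1) :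
    ∀ y ∈ f4mUk hm 3, f4mTor K m 24 33 ν * y = y * f4mTor K m 24 33 ν → y = 1 := by
  intro y hy hc
  obtain ⟨t, u, rfl⟩ := (mem_f4mUk_3 hm).mp hy
  exact f4m_tt_free_quad 24 33 ν 29 41 44 47 f4m_nc_inj3 (-1) (2) (0) (1) f4m_nc_p_24_41 f4m_nc_p_33_41
    f4m_nc_p_24_44 f4m_nc_p_33_44 (f4m_tt_gen_ne_one' hm1 hν (-1) (2) (by decide) (by decide) (by decide) (by decide) (by decide))
    (f4m_tt_gen_ne_one' hm1 hν (0) (1) (by decide) (by decide) (by decide) (by decide) (by decide)) t u hc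
include hm in
theorem f4m_nc_free0_5 (hm1 : 1 ≤ m) {ν : Kˣ} (hν : orderOf ν = 2 ^ (2 * m + 1) - 1) :
    ∀ y ∈ f4mUk hm 5, f4mTor K m 24 33 ν * y = y * f4mTor K m 24 33 ν → y = 1 := by
  intro y hy hc
  obtain ⟨t, u, rfl⟩ := (mem_f4mUk_5 hm).mp hy
  exact f4m_tt_free_quad 24 33 ν 35 31 40 46 f4m_nc_inj5 (1) (-2) (0) (-1) f4m_nc_p_24_31 f4m_nc_p_33_31
    f4m_nc_p_24_40 f4m_nc_p_33_40 (f4m_tt_gen_ne_one' hm1 hν (1) (-2) (by decide) (by decide) (by decide) (by decide) (by decide))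
    (f4m_tt_gen_ne_one' hm1 hν (0) (-1) (by decide) (by decide) (by decide) (by decide) (by decide)) t u hc
include hm in
theorem f4m_nc_free0_6 (hm1 : 1 ≤ m) {ν : Kˣ} (hν : orderOf ν = 2 ^ (2 * m + 1) - 1) :
    ∀ y ∈ f4mUk hm 6, f4mTor K m 24 33 ν * y = y * f4mTor K m 24 33 ν → y = 1 := by
  intro y hy hc
  obtain ⟨t, rfl⟩ := (mem_f4mUk_6 hm).mp hy
  exact f4m_tt_free_pair 24 33 ν 37 32 f4m_nc_inj6 (0) (-2) f4m_nc_p_24_32 f4m_nc_p_33_32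
    (f4m_tt_gen_ne_one' hm1 hν (0) (-2) (by decide) (by decide) (by decide) (by decide) (by decide)) t hc
include hm in
theorem f4m_nc_free0_7 (hm1 : 1 ≤ m) {ν : Kˣ} (hν : orderOf ν = 2 ^ (2 * m + 1) - 1) :
    ∀ y ∈ f4mUk hm 7, f4mTor K m 24 33 ν * y = y * f4mTor K m 24 33 ν → y = 1 := by
  intro y hy hc
  obtain ⟨t, u, rfl⟩ := (mem_f4mUk_7 hm).mp hy
  exact f4m_tt_free_quad 24 33 ν 27 25 28 30 f4m_nc_inj7 (-1) (0) (-1) (-1) f4m_nc_p_24_25 f4m_nc_p_33_25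
    f4m_nc_p_24_28 f4m_nc_p_33_28 (f4m_tt_gen_ne_one' hm1 hν (-1) (0) (by decide) (by decide) (by decide) (by decide) (by decide))
    (f4m_tt_gen_ne_one' hm1 hν (-1) (-1) (by decide) (by decide) (by decide) (by decide) (by decide)) t u hc
include hm in
theorem f4m_nc_free1_0 (hm1 : 1 ≤ m) {ν : Kˣ} (hν : orderOf ν = 2 ^ (2 * m + 1) - 1) :
    ∀ y ∈ f4mUk hm 0, f4mTor K m 26 34 ν * y = y * f4mTor K m 26 34 ν → y = 1 := by
  intro y hy hc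
  obtain ⟨t, rfl⟩ := (mem_f4mUk_0 hm).mp hy
  exact f4m_tt_free_pair 26 34 ν 33 24 f4m_nc_inj0 (1) (0) f4m_nc_p_26_24 f4m_nc_p_34_24
    (f4m_tt_gen_ne_one' hm1 hν (1) (0) (by decide) (by decide) (by decide) (by decide) (by decide)) t hc
include hm in
theorem f4m_nc_free1_1 (hm1 : 1 ≤ m) {ν : Kˣ} (hν : orderOf ν = 2 ^ (2 * m + 1) - 1) :
    ∀ y ∈ f4mUk hm 1, f4mTor K m 26 34 ν * y = y * f4mTor K m 26 34 ν → y = 1 := by
  intro y hy hc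
  obtain ⟨t, u, rfl⟩ := (mem_f4mUk_1 hm).mp hy
  exact f4m_tt_free_quad 26 34 ν 34 26 36 42 f4m_nc_inj1 (2) (-2) (1) (0) f4m_nc_p_26_26 f4m_nc_p_34_26
    f4m_nc_p_26_36 f4m_nc_p_34_36 (f4m_tt_gen_ne_one' hm1 hν (2) (-2) (by decide) (by decide) (by decide) (by decide) (by decide))
    (f4m_tt_gen_ne_one' hm1 hν (1) (0) (by decide) (by decide) (by decide) (by decide) (by decide)) t u hc
include hm in
theorem f4m_nc_free1_2 (hm1 : 1 ≤ m) {ν : Kˣ} (hν : orderOf ν = 2 ^ (2 * m + 1) - 1) :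
    ∀ y ∈ f4mUk hm 2, f4mTor K m 26 34 ν * y = y * f4mTor K m 26 34 ν → y = 1 := by
  intro y hy hc
  obtain ⟨t, rfl⟩ := (mem_f4mUk_2 hm).mp hy
  exact f4m_tt_free_pair 26 34 ν 38 43 f4m_nc_inj2 (1) (0) f4m_nc_p_26_43 f4m_nc_p_34_43
    (f4m_tt_gen_ne_one' hm1 hν (1) (0) (by decide) (by decide) (by decide) (by decide) (by decide)) t hc
include hm in
theorem f4m_nc_free1_3 (hm1 : 1 ≤ m) {ν : Kˣ} (hν : orderOf ν = 2 ^ (2 * m + 1) - 1) :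
    ∀ y ∈ f4mUk hm 3, f4mTor K m 26 34 ν * y = y * f4mTor K m 26 34 ν → y = 1 := by
  intro y hy hc
  obtain ⟨t, u, rfl⟩ := (mem_f4mUk_3 hm).mp hy
  exact f4m_tt_free_quad 26 34 ν 29 41 44 47 f4m_nc_inj3 (-1) (2) (0) (1) f4m_nc_p_26_41 f4m_nc_p_34_41
    f4m_nc_p_26_44 f4m_nc_p_34_44 (f4m_tt_gen_ne_one' hm1 hν (-1) (2) (by decide) (by decide) (by decide) (by decide) (by decide))
    (f4m_tt_gen_ne_one' hm1 hν (0) (1) (by decide) (by decide) (by decide) (by decide) (by decide)) t u hc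
include hm in
theorem f4m_nc_free1_4 (hm1 : 1 ≤ m) {ν : Kˣ} (hν : orderOf ν = 2 ^ (2 * m + 1) - 1) :
    ∀ y ∈ f4mUk hm 4, f4mTor K m 26 34 ν * y = y * f4mTor K m 26 34 ν → y = 1 := by
  intro y hy hc
  obtain ⟨t, rfl⟩ := (mem_f4mUk_4 hm).mp hy
  exact f4m_tt_free_pair 26 34 ν 39 45 f4m_nc_inj4 (-1) (2) f4m_nc_p_26_45 f4m_nc_p_34_45
    (f4m_tt_gen_ne_one' hm1 hν (-1) (2) (by decide) (by decide) (by decide) (by decide) (by decide)) t hc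
include hm in
theorem f4m_nc_free1_6 (hm1 : 1 ≤ m) {ν : Kˣ} (hν : orderOf ν = 2 ^ (2 * m + 1) - 1) :
    ∀ y ∈ f4mUk hm 6, f4mTor K m 26 34 ν * y = y * f4mTor K m 26 34 ν → y = 1 := by
  intro y hy hc
  obtain ⟨t, rfl⟩ := (mem_f4mUk_6 hm).mp hy
  exact f4m_tt_free_pair 26 34 ν 37 32 f4m_nc_inj6 (1) (-2) f4m_nc_p_26_32 f4m_nc_p_34_32
    (f4m_tt_gen_ne_one' hm1 hν (1) (-2) (by decide) (by decide) (by decide) (by decide) (by decide)) t hc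
include hm in
theorem f4m_nc_free1_7 (hm1 : 1 ≤ m) {ν : Kˣ} (hν : orderOf ν = 2 ^ (2 * m + 1) - 1) :
    ∀ y ∈ f4mUk hm 7, f4mTor K m 26 34 ν * y = y * f4mTor K m 26 34 ν → y = 1 := by
  intro y hy hc
  obtain ⟨t, u, rfl⟩ := (mem_f4mUk_7 hm).mp hy
  exact f4m_tt_free_quad 26 34 ν 27 25 28 30 f4m_nc_inj7 (1) (-2) (0) (-1) f4m_nc_p_26_25 f4m_nc_p_34_25
    f4m_nc_p_26_28 f4m_nc_p_34_28 (f4m_tt_gen_ne_one' hm1 hν (1) (-2) (by decide) (by decide) (by decide) (by decide) (by decide))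
    (f4m_tt_gen_ne_one' hm1 hν (0) (-1) (by decide) (by decide) (by decide) (by decide) (by decide)) t u hc
include hm in
theorem f4m_nc_free2_0 (hm1 : 1 ≤ m) {ν : Kˣ} (hν : orderOf ν = 2 ^ (2 * m + 1) - 1) :
    ∀ y ∈ f4mUk hm 0, f4mTor K m 43 38 ν * y = y * f4mTor K m 43 38 ν → y = 1 := by
  intro y hy hc
  obtain ⟨t, rfl⟩ := (mem_f4mUk_0 hm).mp hy
  exact f4m_tt_free_pair 43 38 ν 33 24 f4m_nc_inj0 (0) (2) f4m_nc_p_43_24 f4m_nc_p_38_24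
    (f4m_tt_gen_ne_one' hm1 hν (0) (2) (by decide) (by decide) (by decide) (by decide) (by decide)) t hc
include hm in
theorem f4m_nc_free2_1 (hm1 : 1 ≤ m) {ν : Kˣ} (hν : orderOf ν = 2 ^ (2 * m + 1) - 1) :
    ∀ y ∈ f4mUk hm 1, f4mTor K m 43 38 ν * y = y * f4mTor K m 43 38 ν → y = 1 := by
  intro y hy hc
  obtain ⟨t, u, rfl⟩ := (mem_f4mUk_1 hm).mp hy
  exact f4m_tt_free_quad 43 38 ν 34 26 36 42 f4m_nc_inj1 (1) (0) (1) (1) f4m_nc_p_43_26 f4m_nc_p_38_26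
    f4m_nc_p_43_36 f4m_nc_p_38_36 (f4m_tt_gen_ne_one' hm1 hν (1) (0) (by decide) (by decide) (by decide) (by decide) (by decide))
    (f4m_tt_gen_ne_one' hm1 hν (1) (1) (by decide) (by decide) (by decide) (by decide) (by decide)) t u hc
include hm in
theorem f4m_nc_free2_2 (hm1 : 1 ≤ m) {ν : Kˣ} (hν : orderOf ν = 2 ^ (2 * m + 1) - 1) :
    ∀ y ∈ f4mUk hm 2, f4mTor K m 43 38 ν * y = y * f4mTor K m 43 38 ν → y = 1 := by
  intro y hy hc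
  obtain ⟨t, rfl⟩ := (mem_f4mUk_2 hm).mp hy
  exact f4m_tt_free_pair 43 38 ν 38 43 f4m_nc_inj2 (2) (0) f4m_nc_p_43_43 f4m_nc_p_38_43
    (f4m_tt_gen_ne_one' hm1 hν (2) (0) (by decide) (by decide) (by decide) (by decide) (by decide)) t hc
include hm in
theorem f4m_nc_free2_3 (hm1 : 1 ≤ m) {ν : Kˣ} (hν : orderOf ν = 2 ^ (2 * m + 1) - 1) :
    ∀ y ∈ f4mUk hm 3, f4mTor K m 43 38 ν * y = y * f4mTor K m 43 38 ν → y = 1 := by
  intro y hy hc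
  obtain ⟨t, u, rfl⟩ := (mem_f4mUk_3 hm).mp hy
  exact f4m_tt_free_quad 43 38 ν 29 41 44 47 f4m_nc_inj3 (1) (0) (1) (1) f4m_nc_p_43_41 f4m_nc_p_38_41
    f4m_nc_p_43_44 f4m_nc_p_38_44 (f4m_tt_gen_ne_one' hm1 hν (1) (0) (by decide) (by decide) (by decide) (by decide) (by decide))
    (f4m_tt_gen_ne_one' hm1 hν (1) (1) (by decide) (by decide) (by decide) (by decide) (by decide)) t u hc
include hm in
theorem f4m_nc_free2_4 (hm1 : 1 ≤ m) {ν : Kˣ} (hν : orderOf ν = 2 ^ (2 * m + 1) - 1) :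
    ∀ y ∈ f4mUk hm 4, f4mTor K m 43 38 ν * y = y * f4mTor K m 43 38 ν → y = 1 := by
  intro y hy hc
  obtain ⟨t, rfl⟩ := (mem_f4mUk_4 hm).mp hy
  exact f4m_tt_free_pair 43 38 ν 39 45 f4m_nc_inj4 (0) (2) f4m_nc_p_43_45 f4m_nc_p_38_45
    (f4m_tt_gen_ne_one' hm1 hν (0) (2) (by decide) (by decide) (by decide) (by decide) (by decide)) t hc
include hm in
theorem f4m_nc_free2_5 (hm1 : 1 ≤ m) {ν : Kˣ} (hν : orderOf ν = 2 ^ (2 * m + 1) - 1) :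
    ∀ y ∈ f4mUk hm 5, f4mTor K m 43 38 ν * y = y * f4mTor K m 43 38 ν → y = 1 := by
  intro y hy hc
  obtain ⟨t, u, rfl⟩ := (mem_f4mUk_5 hm).mp hy
  exact f4m_tt_free_quad 43 38 ν 35 31 40 46 f4m_nc_inj5 (-1) (2) (0) (1) f4m_nc_p_43_31 f4m_nc_p_38_31
    f4m_nc_p_43_40 f4m_nc_p_38_40 (f4m_tt_gen_ne_one' hm1 hν (-1) (2) (by decide) (by decide) (by decide) (by decide) (by decide))
    (f4m_tt_gen_ne_one' hm1 hν (0) (1) (by decide) (by decide) (by decide) (by decide) (by decide)) t u hc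
include hm in
theorem f4m_nc_free2_7 (hm1 : 1 ≤ m) {ν : Kˣ} (hν : orderOf ν = 2 ^ (2 * m + 1) - 1) :
    ∀ y ∈ f4mUk hm 7, f4mTor K m 43 38 ν * y = y * f4mTor K m 43 38 ν → y = 1 := by
  intro y hy hc
  obtain ⟨t, u, rfl⟩ := (mem_f4mUk_7 hm).mp hy
  exact f4m_tt_free_quad 43 38 ν 27 25 28 30 f4m_nc_inj7 (1) (-2) (0) (-1) f4m_nc_p_43_25 f4m_nc_p_38_25
    f4m_nc_p_43_28 f4m_nc_p_38_28 (f4m_tt_gen_ne_one' hm1 hν (1) (-2) (by decide) (by decide) (by decide) (by decide) (by decide))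
    (f4m_tt_gen_ne_one' hm1 hν (0) (-1) (by decide) (by decide) (by decide) (by decide) (by decide)) t u hc
include hm in
theorem f4m_nc_free3_0 (hm1 : 1 ≤ m) {ν : Kˣ} (hν : orderOf ν = 2 ^ (2 * m + 1) - 1) :
    ∀ y ∈ f4mUk hm 0, f4mTor K m 41 29 ν * y = y * f4mTor K m 41 29 ν → y = 1 := by
  intro y hy hc
  obtain ⟨t, rfl⟩ := (mem_f4mUk_0 hm).mp hy
  exact f4m_tt_free_pair 41 29 ν 33 24 f4m_nc_inj0 (-1) (2) f4m_nc_p_41_24 f4m_nc_p_29_24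
    (f4m_tt_gen_ne_one' hm1 hν (-1) (2) (by decide) (by decide) (by decide) (by decide) (by decide)) t hc
include hm in
theorem f4m_nc_free3_1 (hm1 : 1 ≤ m) {ν : Kˣ} (hν : orderOf ν = 2 ^ (2 * m + 1) - 1) :
    ∀ y ∈ f4mUk hm 1, f4mTor K m 41 29 ν * y = y * f4mTor K m 41 29 ν → y = 1 := by
  intro y hy hc
  obtain ⟨t, u, rfl⟩ := (mem_f4mUk_1 hm).mp hy
  exact f4m_tt_free_quad 41 29 ν 34 26 36 42 f4m_nc_inj1 (-1) (2) (0) (1) f4m_nc_p_41_26 f4m_nc_p_29_26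
    f4m_nc_p_41_36 f4m_nc_p_29_36 (f4m_tt_gen_ne_one' hm1 hν (-1) (2) (by decide) (by decide) (by decide) (by decide) (by decide))
    (f4m_tt_gen_ne_one' hm1 hν (0) (1) (by decide) (by decide) (by decide) (by decide) (by decide)) t u hc
include hm in
theorem f4m_nc_free3_2 (hm1 : 1 ≤ m) {ν : Kˣ} (hν : orderOf ν = 2 ^ (2 * m + 1) - 1) :
    ∀ y ∈ f4mUk hm 2, f4mTor K m 41 29 ν * y = y * f4mTor K m 41 29 ν → y = 1 := by
  intro y hy hc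
  obtain ⟨t, rfl⟩ := (mem_f4mUk_2 hm).mp hy
  exact f4m_tt_free_pair 41 29 ν 38 43 f4m_nc_inj2 (1) (0) f4m_nc_p_41_43 f4m_nc_p_29_43
    (f4m_tt_gen_ne_one' hm1 hν (1) (0) (by decide) (by decide) (by decide) (by decide) (by decide)) t hc
include hm in
theorem f4m_nc_free3_3 (hm1 : 1 ≤ m) {ν : Kˣ} (hν : orderOf ν = 2 ^ (2 * m + 1) - 1) :
    ∀ y ∈ f4mUk hm 3, f4mTor K m 41 29 ν * y = y * f4mTor K m 41 29 ν → y = 1 := by
  intro y hy hc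
  obtain ⟨t, u, rfl⟩ := (mem_f4mUk_3 hm).mp hy
  exact f4m_tt_free_quad 41 29 ν 29 41 44 47 f4m_nc_inj3 (2) (-2) (1) (0) f4m_nc_p_41_41 f4m_nc_p_29_41
    f4m_nc_p_41_44 f4m_nc_p_29_44 (f4m_tt_gen_ne_one' hm1 hν (2) (-2) (by decide) (by decide) (by decide) (by decide) (by decide))
    (f4m_tt_gen_ne_one' hm1 hν (1) (0) (by decide) (by decide) (by decide) (by decide) (by decide)) t u hc
include hm in
theorem f4m_nc_free3_4 (hm1 : 1 ≤ m) {ν : Kˣ} (hν : orderOf ν = 2 ^ (2 * m + 1) - 1) :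
    ∀ y ∈ f4mUk hm 4, f4mTor K m 41 29 ν * y = y * f4mTor K m 41 29 ν → y = 1 := by
  intro y hy hc
  obtain ⟨t, rfl⟩ := (mem_f4mUk_4 hm).mp hy
  exact f4m_tt_free_pair 41 29 ν 39 45 f4m_nc_inj4 (1) (0) f4m_nc_p_41_45 f4m_nc_p_29_45
    (f4m_tt_gen_ne_one' hm1 hν (1) (0) (by decide) (by decide) (by decide) (by decide) (by decide)) t hc
include hm in
theorem f4m_nc_free3_5 (hm1 : 1 ≤ m) {ν : Kˣ} (hν : orderOf ν = 2 ^ (2 * m + 1) - 1) :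
    ∀ y ∈ f4mUk hm 5, f4mTor K m 41 29 ν * y = y * f4mTor K m 41 29 ν → y = 1 := by
  intro y hy hc
  obtain ⟨t, u, rfl⟩ := (mem_f4mUk_5 hm).mp hy
  exact f4m_tt_free_quad 41 29 ν 35 31 40 46 f4m_nc_inj5 (-1) (2) (0) (1) f4m_nc_p_41_31 f4m_nc_p_29_31
    f4m_nc_p_41_40 f4m_nc_p_29_40 (f4m_tt_gen_ne_one' hm1 hν (-1) (2) (by decide) (by decide) (by decide) (by decide) (by decide))
    (f4m_tt_gen_ne_one' hm1 hν (0) (1) (by decide) (by decide) (by decide) (by decide) (by decide)) t u hc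
include hm in
theorem f4m_nc_free3_6 (hm1 : 1 ≤ m) {ν : Kˣ} (hν : orderOf ν = 2 ^ (2 * m + 1) - 1) :
    ∀ y ∈ f4mUk hm 6, f4mTor K m 41 29 ν * y = y * f4mTor K m 41 29 ν → y = 1 := by
  intro y hy hc
  obtain ⟨t, rfl⟩ := (mem_f4mUk_6 hm).mp hy
  exact f4m_tt_free_pair 41 29 ν 37 32 f4m_nc_inj6 (-1) (2) f4m_nc_p_41_32 f4m_nc_p_29_32
    (f4m_tt_gen_ne_one' hm1 hν (-1) (2) (by decide) (by decide) (by decide) (by decide) (by decide)) t hc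
include hm in
theorem f4m_nc_free4_1 (hm1 : 1 ≤ m) {ν : Kˣ} (hν : orderOf ν = 2 ^ (2 * m + 1) - 1) :
    ∀ y ∈ f4mUk hm 1, f4mTor K m 45 39 ν * y = y * f4mTor K m 45 39 ν → y = 1 := by
  intro y hy hc
  obtain ⟨t, u, rfl⟩ := (mem_f4mUk_1 hm).mp hy
  exact f4m_tt_free_quad 45 39 ν 34 26 36 42 f4m_nc_inj1 (-1) (2) (0) (1) f4m_nc_p_45_26 f4m_nc_p_39_26
    f4m_nc_p_45_36 f4m_nc_p_39_36 (f4m_tt_gen_ne_one' hm1 hν (-1) (2) (by decide) (by decide) (by decide) (by decide) (by decide))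
    (f4m_tt_gen_ne_one' hm1 hν (0) (1) (by decide) (by decide) (by decide) (by decide) (by decide)) t u hc
include hm in
theorem f4m_nc_free4_2 (hm1 : 1 ≤ m) {ν : Kˣ} (hν : orderOf ν = 2 ^ (2 * m + 1) - 1) :
    ∀ y ∈ f4mUk hm 2, f4mTor K m 45 39 ν * y = y * f4mTor K m 45 39 ν → y = 1 := by
  intro y hy hc
  obtain ⟨t, rfl⟩ := (mem_f4mUk_2 hm).mp hy
  exact f4m_tt_free_pair 45 39 ν 38 43 f4m_nc_inj2 (0) (2) f4m_nc_p_45_43 f4m_nc_p_39_43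
    (f4m_tt_gen_ne_one' hm1 hν (0) (2) (by decide) (by decide) (by decide) (by decide) (by decide)) t hc
include hm in
theorem f4m_nc_free4_3 (hm1 : 1 ≤ m) {ν : Kˣ} (hν : orderOf ν = 2 ^ (2 * m + 1) - 1) :
    ∀ y ∈ f4mUk hm 3, f4mTor K m 45 39 ν * y = y * f4mTor K m 45 39 ν → y = 1 := by
  intro y hy hc
  obtain ⟨t, u, rfl⟩ := (mem_f4mUk_3 hm).mp hy
  exact f4m_tt_free_quad 45 39 ν 29 41 44 47 f4m_nc_inj3 (1) (0) (1) (1) f4m_nc_p_45_41 f4m_nc_p_39_41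
    f4m_nc_p_45_44 f4m_nc_p_39_44 (f4m_tt_gen_ne_one' hm1 hν (1) (0) (by decide) (by decide) (by decide) (by decide) (by decide))
    (f4m_tt_gen_ne_one' hm1 hν (1) (1) (by decide) (by decide) (by decide) (by decide) (by decide)) t u hc
include hm in
theorem f4m_nc_free4_4 (hm1 : 1 ≤ m) {ν : Kˣ} (hν : orderOf ν = 2 ^ (2 * m + 1) - 1) :
    ∀ y ∈ f4mUk hm 4, f4mTor K m 45 39 ν * y = y * f4mTor K m 45 39 ν → y = 1 := by
  intro y hy hc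
  obtain ⟨t, rfl⟩ := (mem_f4mUk_4 hm).mp hy
  exact f4m_tt_free_pair 45 39 ν 39 45 f4m_nc_inj4 (2) (0) f4m_nc_p_45_45 f4m_nc_p_39_45
    (f4m_tt_gen_ne_one' hm1 hν (2) (0) (by decide) (by decide) (by decide) (by decide) (by decide)) t hc
include hm in
theorem f4m_nc_free4_5 (hm1 : 1 ≤ m) {ν : Kˣ} (hν : orderOf ν = 2 ^ (2 * m + 1) - 1) :
    ∀ y ∈ f4mUk hm 5, f4mTor K m 45 39 ν * y = y * f4mTor K m 45 39 ν → y = 1 := by
  intro y hy hc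
  obtain ⟨t, u, rfl⟩ := (mem_f4mUk_5 hm).mp hy
  exact f4m_tt_free_quad 45 39 ν 35 31 40 46 f4m_nc_inj5 (1) (0) (1) (1) f4m_nc_p_45_31 f4m_nc_p_39_31
    f4m_nc_p_45_40 f4m_nc_p_39_40 (f4m_tt_gen_ne_one' hm1 hν (1) (0) (by decide) (by decide) (by decide) (by decide) (by decide))
    (f4m_tt_gen_ne_one' hm1 hν (1) (1) (by decide) (by decide) (by decide) (by decide) (by decide)) t u hc
include hm in
theorem f4m_nc_free4_6 (hm1 : 1 ≤ m) {ν : Kˣ} (hν : orderOf ν = 2 ^ (2 * m + 1) - 1) :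
    ∀ y ∈ f4mUk hm 6, f4mTor K m 45 39 ν * y = y * f4mTor K m 45 39 ν → y = 1 := by
  intro y hy hc
  obtain ⟨t, rfl⟩ := (mem_f4mUk_6 hm).mp hy
  exact f4m_tt_free_pair 45 39 ν 37 32 f4m_nc_inj6 (0) (2) f4m_nc_p_45_32 f4m_nc_p_39_32
    (f4m_tt_gen_ne_one' hm1 hν (0) (2) (by decide) (by decide) (by decide) (by decide) (by decide)) t hc
include hm in
theorem f4m_nc_free4_7 (hm1 : 1 ≤ m) {ν : Kˣ} (hν : orderOf ν = 2 ^ (2 * m + 1) - 1) :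
    ∀ y ∈ f4mUk hm 7, f4mTor K m 45 39 ν * y = y * f4mTor K m 45 39 ν → y = 1 := by
  intro y hy hc
  obtain ⟨t, u, rfl⟩ := (mem_f4mUk_7 hm).mp hy
  exact f4m_tt_free_quad 45 39 ν 27 25 28 30 f4m_nc_inj7 (-1) (2) (0) (1) f4m_nc_p_45_25 f4m_nc_p_39_25
    f4m_nc_p_45_28 f4m_nc_p_39_28 (f4m_tt_gen_ne_one' hm1 hν (-1) (2) (by decide) (by decide) (by decide) (by decide) (by decide))
    (f4m_tt_gen_ne_one' hm1 hν (0) (1) (by decide) (by decide) (by decide) (by decide) (by decide)) t u hc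
include hm in
theorem f4m_nc_free5_0 (hm1 : 1 ≤ m) {ν : Kˣ} (hν : orderOf ν = 2 ^ (2 * m + 1) - 1) :
    ∀ y ∈ f4mUk hm 0, f4mTor K m 31 35 ν * y = y * f4mTor K m 31 35 ν → y = 1 := by
  intro y hy hc
  obtain ⟨t, rfl⟩ := (mem_f4mUk_0 hm).mp hy
  exact f4m_tt_free_pair 31 35 ν 33 24 f4m_nc_inj0 (1) (-2) f4m_nc_p_31_24 f4m_nc_p_35_24
    (f4m_tt_gen_ne_one' hm1 hν (1) (-2) (by decide) (by decide) (by decide) (by decide) (by decide)) t hc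
include hm in
theorem f4m_nc_free5_2 (hm1 : 1 ≤ m) {ν : Kˣ} (hν : orderOf ν = 2 ^ (2 * m + 1) - 1) :
    ∀ y ∈ f4mUk hm 2, f4mTor K m 31 35 ν * y = y * f4mTor K m 31 35 ν → y = 1 := by
  intro y hy hc
  obtain ⟨t, rfl⟩ := (mem_f4mUk_2 hm).mp hy
  exact f4m_tt_free_pair 31 35 ν 38 43 f4m_nc_inj2 (-1) (2) f4m_nc_p_31_43 f4m_nc_p_35_43
    (f4m_tt_gen_ne_one' hm1 hν (-1) (2) (by decide) (by decide) (by decide) (by decide) (by decide)) t hc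
include hm in
theorem f4m_nc_free5_3 (hm1 : 1 ≤ m) {ν : Kˣ} (hν : orderOf ν = 2 ^ (2 * m + 1) - 1) :
    ∀ y ∈ f4mUk hm 3, f4mTor K m 31 35 ν * y = y * f4mTor K m 31 35 ν → y = 1 := by
  intro y hy hc
  obtain ⟨t, u, rfl⟩ := (mem_f4mUk_3 hm).mp hy
  exact f4m_tt_free_quad 31 35 ν 29 41 44 47 f4m_nc_inj3 (-1) (2) (0) (1) f4m_nc_p_31_41 f4m_nc_p_35_41
    f4m_nc_p_31_44 f4m_nc_p_35_44 (f4m_tt_gen_ne_one' hm1 hν (-1) (2) (by decide) (by decide) (by decide) (by decide) (by decide))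
    (f4m_tt_gen_ne_one' hm1 hν (0) (1) (by decide) (by decide) (by decide) (by decide) (by decide)) t u hc
include hm in
theorem f4m_nc_free5_4 (hm1 : 1 ≤ m) {ν : Kˣ} (hν : orderOf ν = 2 ^ (2 * m + 1) - 1) :
    ∀ y ∈ f4mUk hm 4, f4mTor K m 31 35 ν * y = y * f4mTor K m 31 35 ν → y = 1 := by
  intro y hy hc
  obtain ⟨t, rfl⟩ := (mem_f4mUk_4 hm).mp hy
  exact f4m_tt_free_pair 31 35 ν 39 45 f4m_nc_inj4 (1) (0) f4m_nc_p_31_45 f4m_nc_p_35_45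
    (f4m_tt_gen_ne_one' hm1 hν (1) (0) (by decide) (by decide) (by decide) (by decide) (by decide)) t hc
include hm in
theorem f4m_nc_free5_5 (hm1 : 1 ≤ m) {ν : Kˣ} (hν : orderOf ν = 2 ^ (2 * m + 1) - 1) :
    ∀ y ∈ f4mUk hm 5, f4mTor K m 31 35 ν * y = y * f4mTor K m 31 35 ν → y = 1 := by
  intro y hy hc
  obtain ⟨t, u, rfl⟩ := (mem_f4mUk_5 hm).mp hy
  exact f4m_tt_free_quad 31 35 ν 35 31 40 46 f4m_nc_inj5 (2) (-2) (1) (0) f4m_nc_p_31_31 f4m_nc_p_35_31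
    f4m_nc_p_31_40 f4m_nc_p_35_40 (f4m_tt_gen_ne_one' hm1 hν (2) (-2) (by decide) (by decide) (by decide) (by decide) (by decide))
    (f4m_tt_gen_ne_one' hm1 hν (1) (0) (by decide) (by decide) (by decide) (by decide) (by decide)) t u hc
include hm in
theorem f4m_nc_free5_6 (hm1 : 1 ≤ m) {ν : Kˣ} (hν : orderOf ν = 2 ^ (2 * m + 1) - 1) :
    ∀ y ∈ f4mUk hm 6, f4mTor K m 31 35 ν * y = y * f4mTor K m 31 35 ν → y = 1 := by
  intro y hy hc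
  obtain ⟨t, rfl⟩ := (mem_f4mUk_6 hm).mp hy
  exact f4m_tt_free_pair 31 35 ν 37 32 f4m_nc_inj6 (1) (0) f4m_nc_p_31_32 f4m_nc_p_35_32
    (f4m_tt_gen_ne_one' hm1 hν (1) (0) (by decide) (by decide) (by decide) (by decide) (by decide)) t hc
include hm in
theorem f4m_nc_free5_7 (hm1 : 1 ≤ m) {ν : Kˣ} (hν : orderOf ν = 2 ^ (2 * m + 1) - 1) :
    ∀ y ∈ f4mUk hm 7, f4mTor K m 31 35 ν * y = y * f4mTor K m 31 35 ν → y = 1 := by
  intro y hy hc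
  obtain ⟨t, u, rfl⟩ := (mem_f4mUk_7 hm).mp hy
  exact f4m_tt_free_quad 31 35 ν 27 25 28 30 f4m_nc_inj7 (-1) (2) (0) (1) f4m_nc_p_31_25 f4m_nc_p_35_25
    f4m_nc_p_31_28 f4m_nc_p_35_28 (f4m_tt_gen_ne_one' hm1 hν (-1) (2) (by decide) (by decide) (by decide) (by decide) (by decide))
    (f4m_tt_gen_ne_one' hm1 hν (0) (1) (by decide) (by decide) (by decide) (by decide) (by decide)) t u hc
include hm in
theorem f4m_nc_free6_0 (hm1 : 1 ≤ m) {ν : Kˣ} (hν : orderOf ν = 2 ^ (2 * m + 1) - 1) :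
    ∀ y ∈ f4mUk hm 0, f4mTor K m 32 37 ν * y = y * f4mTor K m 32 37 ν → y = 1 := by
  intro y hy hc
  obtain ⟨t, rfl⟩ := (mem_f4mUk_0 hm).mp hy
  exact f4m_tt_free_pair 32 37 ν 33 24 f4m_nc_inj0 (0) (-2) f4m_nc_p_32_24 f4m_nc_p_37_24
    (f4m_tt_gen_ne_one' hm1 hν (0) (-2) (by decide) (by decide) (by decide) (by decide) (by decide)) t hc
include hm in
theorem f4m_nc_free6_1 (hm1 : 1 ≤ m) {ν : Kˣ} (hν : orderOf ν = 2 ^ (2 * m + 1) - 1) :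
    ∀ y ∈ f4mUk hm 1, f4mTor K m 32 37 ν * y = y * f4mTor K m 32 37 ν → y = 1 := by
  intro y hy hc
  obtain ⟨t, u, rfl⟩ := (mem_f4mUk_1 hm).mp hy
  exact f4m_tt_free_quad 32 37 ν 34 26 36 42 f4m_nc_inj1 (1) (-2) (0) (-1) f4m_nc_p_32_26 f4m_nc_p_37_26
    f4m_nc_p_32_36 f4m_nc_p_37_36 (f4m_tt_gen_ne_one' hm1 hν (1) (-2) (by decide) (by decide) (by decide) (by decide) (by decide))
    (f4m_tt_gen_ne_one' hm1 hν (0) (-1) (by decide) (by decide) (by decide) (by decide) (by decide)) t u hc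
include hm in
theorem f4m_nc_free6_3 (hm1 : 1 ≤ m) {ν : Kˣ} (hν : orderOf ν = 2 ^ (2 * m + 1) - 1) :
    ∀ y ∈ f4mUk hm 3, f4mTor K m 32 37 ν * y = y * f4mTor K m 32 37 ν → y = 1 := by
  intro y hy hc
  obtain ⟨t, u, rfl⟩ := (mem_f4mUk_3 hm).mp hy
  exact f4m_tt_free_quad 32 37 ν 29 41 44 47 f4m_nc_inj3 (-1) (2) (0) (1) f4m_nc_p_32_41 f4m_nc_p_37_41
    f4m_nc_p_32_44 f4m_nc_p_37_44 (f4m_tt_gen_ne_one' hm1 hν (-1) (2) (by decide) (by decide) (by decide) (by decide) (by decide))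
    (f4m_tt_gen_ne_one' hm1 hν (0) (1) (by decide) (by decide) (by decide) (by decide) (by decide)) t u hc
include hm in
theorem f4m_nc_free6_4 (hm1 : 1 ≤ m) {ν : Kˣ} (hν : orderOf ν = 2 ^ (2 * m + 1) - 1) :
    ∀ y ∈ f4mUk hm 4, f4mTor K m 32 37 ν * y = y * f4mTor K m 32 37 ν → y = 1 := by
  intro y hy hc
  obtain ⟨t, rfl⟩ := (mem_f4mUk_4 hm).mp hy
  exact f4m_tt_free_pair 32 37 ν 39 45 f4m_nc_inj4 (0) (2) f4m_nc_p_32_45 f4m_nc_p_37_45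
    (f4m_tt_gen_ne_one' hm1 hν (0) (2) (by decide) (by decide) (by decide) (by decide) (by decide)) t hc
include hm in
theorem f4m_nc_free6_5 (hm1 : 1 ≤ m) {ν : Kˣ} (hν : orderOf ν = 2 ^ (2 * m + 1) - 1) :
    ∀ y ∈ f4mUk hm 5, f4mTor K m 32 37 ν * y = y * f4mTor K m 32 37 ν → y = 1 := by
  intro y hy hc
  obtain ⟨t, u, rfl⟩ := (mem_f4mUk_5 hm).mp hy
  exact f4m_tt_free_quad 32 37 ν 35 31 40 46 f4m_nc_inj5 (1) (0) (1) (1) f4m_nc_p_32_31 f4m_nc_p_37_31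
    f4m_nc_p_32_40 f4m_nc_p_37_40 (f4m_tt_gen_ne_one' hm1 hν (1) (0) (by decide) (by decide) (by decide) (by decide) (by decide))
    (f4m_tt_gen_ne_one' hm1 hν (1) (1) (by decide) (by decide) (by decide) (by decide) (by decide)) t u hc
include hm in
theorem f4m_nc_free6_6 (hm1 : 1 ≤ m) {ν : Kˣ} (hν : orderOf ν = 2 ^ (2 * m + 1) - 1) :
    ∀ y ∈ f4mUk hm 6, f4mTor K m 32 37 ν * y = y * f4mTor K m 32 37 ν → y = 1 := by
  intro y hy hc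
  obtain ⟨t, rfl⟩ := (mem_f4mUk_6 hm).mp hy
  exact f4m_tt_free_pair 32 37 ν 37 32 f4m_nc_inj6 (2) (0) f4m_nc_p_32_32 f4m_nc_p_37_32
    (f4m_tt_gen_ne_one' hm1 hν (2) (0) (by decide) (by decide) (by decide) (by decide) (by decide)) t hc
include hm in
theorem f4m_nc_free6_7 (hm1 : 1 ≤ m) {ν : Kˣ} (hν : orderOf ν = 2 ^ (2 * m + 1) - 1) :
    ∀ y ∈ f4mUk hm 7, f4mTor K m 32 37 ν * y = y * f4mTor K m 32 37 ν → y = 1 := by
  intro y hy hc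
  obtain ⟨t, u, rfl⟩ := (mem_f4mUk_7 hm).mp hy
  exact f4m_tt_free_quad 32 37 ν 27 25 28 30 f4m_nc_inj7 (1) (0) (1) (1) f4m_nc_p_32_25 f4m_nc_p_37_25
    f4m_nc_p_32_28 f4m_nc_p_37_28 (f4m_tt_gen_ne_one' hm1 hν (1) (0) (by decide) (by decide) (by decide) (by decide) (by decide))
    (f4m_tt_gen_ne_one' hm1 hν (1) (1) (by decide) (by decide) (by decide) (by decide) (by decide)) t u hc
include hm in
theorem f4m_nc_free7_0 (hm1 : 1 ≤ m) {ν : Kˣ} (hν : orderOf ν = 2 ^ (2 * m + 1) - 1) :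
    ∀ y ∈ f4mUk hm 0, f4mTor K m 25 27 ν * y = y * f4mTor K m 25 27 ν → y = 1 := by
  intro y hy hc
  obtain ⟨t, rfl⟩ := (mem_f4mUk_0 hm).mp hy
  exact f4m_tt_free_pair 25 27 ν 33 24 f4m_nc_inj0 (-1) (0) f4m_nc_p_25_24 f4m_nc_p_27_24
    (f4m_tt_gen_ne_one' hm1 hν (-1) (0) (by decide) (by decide) (by decide) (by decide) (by decide)) t hc
include hm in
theorem f4m_nc_free7_1 (hm1 : 1 ≤ m) {ν : Kˣ} (hν : orderOf ν = 2 ^ (2 * m + 1) - 1) :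
    ∀ y ∈ f4mUk hm 1, f4mTor K m 25 27 ν * y = y * f4mTor K m 25 27 ν → y = 1 := by
  intro y hy hc
  obtain ⟨t, u, rfl⟩ := (mem_f4mUk_1 hm).mp hy
  exact f4m_tt_free_quad 25 27 ν 34 26 36 42 f4m_nc_inj1 (1) (-2) (0) (-1) f4m_nc_p_25_26 f4m_nc_p_27_26
    f4m_nc_p_25_36 f4m_nc_p_27_36 (f4m_tt_gen_ne_one' hm1 hν (1) (-2) (by decide) (by decide) (by decide) (by decide) (by decide))
    (f4m_tt_gen_ne_one' hm1 hν (0) (-1) (by decide) (by decide) (by decide) (by decide) (by decide)) t u hc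
include hm in
theorem f4m_nc_free7_2 (hm1 : 1 ≤ m) {ν : Kˣ} (hν : orderOf ν = 2 ^ (2 * m + 1) - 1) :
    ∀ y ∈ f4mUk hm 2, f4mTor K m 25 27 ν * y = y * f4mTor K m 25 27 ν → y = 1 := by
  intro y hy hc
  obtain ⟨t, rfl⟩ := (mem_f4mUk_2 hm).mp hy
  exact f4m_tt_free_pair 25 27 ν 38 43 f4m_nc_inj2 (1) (-2) f4m_nc_p_25_43 f4m_nc_p_27_43
    (f4m_tt_gen_ne_one' hm1 hν (1) (-2) (by decide) (by decide) (by decide) (by decide) (by decide)) t hc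
include hm in
theorem f4m_nc_free7_4 (hm1 : 1 ≤ m) {ν : Kˣ} (hν : orderOf ν = 2 ^ (2 * m + 1) - 1) :
    ∀ y ∈ f4mUk hm 4, f4mTor K m 25 27 ν * y = y * f4mTor K m 25 27 ν → y = 1 := by
  intro y hy hc
  obtain ⟨t, rfl⟩ := (mem_f4mUk_4 hm).mp hy
  exact f4m_tt_free_pair 25 27 ν 39 45 f4m_nc_inj4 (-1) (2) f4m_nc_p_25_45 f4m_nc_p_27_45
    (f4m_tt_gen_ne_one' hm1 hν (-1) (2) (by decide) (by decide) (by decide) (by decide) (by decide)) t hc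
include hm in
theorem f4m_nc_free7_5 (hm1 : 1 ≤ m) {ν : Kˣ} (hν : orderOf ν = 2 ^ (2 * m + 1) - 1) :
    ∀ y ∈ f4mUk hm 5, f4mTor K m 25 27 ν * y = y * f4mTor K m 25 27 ν → y = 1 := by
  intro y hy hc
  obtain ⟨t, u, rfl⟩ := (mem_f4mUk_5 hm).mp hy
  exact f4m_tt_free_quad 25 27 ν 35 31 40 46 f4m_nc_inj5 (-1) (2) (0) (1) f4m_nc_p_25_31 f4m_nc_p_27_31
    f4m_nc_p_25_40 f4m_nc_p_27_40 (f4m_tt_gen_ne_one' hm1 hν (-1) (2) (by decide) (by decide) (by decide) (by decide) (by decide))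
    (f4m_tt_gen_ne_one' hm1 hν (0) (1) (by decide) (by decide) (by decide) (by decide) (by decide)) t u hc
include hm in
theorem f4m_nc_free7_6 (hm1 : 1 ≤ m) {ν : Kˣ} (hν : orderOf ν = 2 ^ (2 * m + 1) - 1) :
    ∀ y ∈ f4mUk hm 6, f4mTor K m 25 27 ν * y = y * f4mTor K m 25 27 ν → y = 1 := by
  intro y hy hc
  obtain ⟨t, rfl⟩ := (mem_f4mUk_6 hm).mp hy
  exact f4m_tt_free_pair 25 27 ν 37 32 f4m_nc_inj6 (1) (0) f4m_nc_p_25_32 f4m_nc_p_27_32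
    (f4m_tt_gen_ne_one' hm1 hν (1) (0) (by decide) (by decide) (by decide) (by decide) (by decide)) t hc
include hm in
theorem f4m_nc_free7_7 (hm1 : 1 ≤ m) {ν : Kˣ} (hν : orderOf ν = 2 ^ (2 * m + 1) - 1) :
    ∀ y ∈ f4mUk hm 7, f4mTor K m 25 27 ν * y = y * f4mTor K m 25 27 ν → y = 1 := by
  intro y hy hc
  obtain ⟨t, u, rfl⟩ := (mem_f4mUk_7 hm).mp hy
  exact f4m_tt_free_quad 25 27 ν 27 25 28 30 f4m_nc_inj7 (2) (-2) (1) (0) f4m_nc_p_25_25 f4m_nc_p_27_25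
    f4m_nc_p_25_28 f4m_nc_p_27_28 (f4m_tt_gen_ne_one' hm1 hν (2) (-2) (by decide) (by decide) (by decide) (by decide) (by decide))
    (f4m_tt_gen_ne_one' hm1 hν (1) (0) (by decide) (by decide) (by decide) (by decide) (by decide)) t u hc

/-! ### the condition (NC) -/

include hm in
/-- (NC) in `GL`: for `i ≠ j` some `h(s,u)` centralizes `U_j` and acts fixed-point-freely on `U_i`. -/
theorem f4m_nc_GL [Fintype K] (hK : Fintype.card K = 2 ^ (2 * m + 1)) (hm1 : 1 ≤ m) :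
    ∀ i < 8, ∀ j < 8, i ≠ j → ∃ p : Kˣ × Kˣ,
      (∀ y ∈ f4mUk hm i, gh4 K m p * y = y * gh4 K m p → y = 1) ∧ ∀ y ∈ f4mUk hm j, gh4 K m p * y = y * gh4 K m p := by
  obtain ⟨ν, hν⟩ := f4m_tt_exists_gen (K := K) (m := m) hK
  intro i hi j hj hij
  interval_cases j
  · obtain ⟨p, hp⟩ := f4m_nc_tor4_eq hm ν
    refine ⟨p, ?_, ?_⟩
    · rw [← hp]
      interval_cases i
      · exact absurd rfl hij
      · exact f4m_nc_free4_1 hm hm1 hν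
      · exact f4m_nc_free4_2 hm hm1 hν
      · exact f4m_nc_free4_3 hm hm1 hν
      · exact f4m_nc_free4_4 hm hm1 hν
      · exact f4m_nc_free4_5 hm hm1 hν
      · exact f4m_nc_free4_6 hm hm1 hν
      · exact f4m_nc_free4_7 hm hm1 hν
    · rw [← hp]
      exact f4m_nc_cent4 hm ν
  · obtain ⟨p, hp⟩ := f4m_nc_tor5_eq hm ν
    refine ⟨p, ?_, ?_⟩
    · rw [← hp]
      interval_cases i
      · exact f4m_nc_free5_0 hm hm1 hν
      · exact absurd rfl hij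
      · exact f4m_nc_free5_2 hm hm1 hν
      · exact f4m_nc_free5_3 hm hm1 hν
      · exact f4m_nc_free5_4 hm hm1 hν
      · exact f4m_nc_free5_5 hm hm1 hν
      · exact f4m_nc_free5_6 hm hm1 hν
      · exact f4m_nc_free5_7 hm hm1 hν
    · rw [← hp]
      exact f4m_nc_cent5 hm ν
  · obtain ⟨p, hp⟩ := f4m_nc_tor6_eq hm ν
    refine ⟨p, ?_, ?_⟩
    · rw [← hp]
      interval_cases i
      · exact f4m_nc_free6_0 hm hm1 hν
      · exact f4m_nc_free6_1 hm hm1 hν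
      · exact absurd rfl hij
      · exact f4m_nc_free6_3 hm hm1 hν
      · exact f4m_nc_free6_4 hm hm1 hν
      · exact f4m_nc_free6_5 hm hm1 hν
      · exact f4m_nc_free6_6 hm hm1 hν
      · exact f4m_nc_free6_7 hm hm1 hν
    · rw [← hp]
      exact f4m_nc_cent6 hm ν
  · obtain ⟨p, hp⟩ := f4m_nc_tor7_eq hm ν
    refine ⟨p, ?_, ?_⟩
    · rw [← hp]
      interval_cases i
      · exact f4m_nc_free7_0 hm hm1 hν
      · exact f4m_nc_free7_1 hm hm1 hν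
      · exact f4m_nc_free7_2 hm hm1 hν
      · exact absurd rfl hij
      · exact f4m_nc_free7_4 hm hm1 hν
      · exact f4m_nc_free7_5 hm hm1 hν
      · exact f4m_nc_free7_6 hm hm1 hν
      · exact f4m_nc_free7_7 hm hm1 hν
    · rw [← hp]
      exact f4m_nc_cent7 hm ν
  · obtain ⟨p, hp⟩ := f4m_nc_tor0_eq hm ν
    refine ⟨p, ?_, ?_⟩
    · rw [← hp]
      interval_cases i
      · exact f4m_nc_free0_0 hm hm1 hν
      · exact f4m_nc_free0_1 hm hm1 hν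
      · exact f4m_nc_free0_2 hm hm1 hν
      · exact f4m_nc_free0_3 hm hm1 hν
      · exact absurd rfl hij
      · exact f4m_nc_free0_5 hm hm1 hν
      · exact f4m_nc_free0_6 hm hm1 hν
      · exact f4m_nc_free0_7 hm hm1 hν
    · rw [← hp]
      exact f4m_nc_cent0 hm ν
  · obtain ⟨p, hp⟩ := f4m_nc_tor1_eq hm ν
    refine ⟨p, ?_, ?_⟩
    · rw [← hp]
      interval_cases i
      · exact f4m_nc_free1_0 hm hm1 hν
      · exact f4m_nc_free1_1 hm hm1 hν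
      · exact f4m_nc_free1_2 hm hm1 hν
      · exact f4m_nc_free1_3 hm hm1 hν
      · exact f4m_nc_free1_4 hm hm1 hν
      · exact absurd rfl hij
      · exact f4m_nc_free1_6 hm hm1 hν
      · exact f4m_nc_free1_7 hm hm1 hν
    · rw [← hp]
      exact f4m_nc_cent1 hm ν
  · obtain ⟨p, hp⟩ := f4m_nc_tor2_eq hm ν
    refine ⟨p, ?_, ?_⟩
    · rw [← hp]
      interval_cases i
      · exact f4m_nc_free2_0 hm hm1 hν
      · exact f4m_nc_free2_1 hm hm1 hν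
      · exact f4m_nc_free2_2 hm hm1 hν
      · exact f4m_nc_free2_3 hm hm1 hν
      · exact f4m_nc_free2_4 hm hm1 hν
      · exact f4m_nc_free2_5 hm hm1 hν
      · exact absurd rfl hij
      · exact f4m_nc_free2_7 hm hm1 hν
    · rw [← hp]
      exact f4m_nc_cent2 hm ν
  · obtain ⟨p, hp⟩ := f4m_nc_tor3_eq hm ν
    refine ⟨p, ?_, ?_⟩
    · rw [← hp]
      interval_cases i
      · exact f4m_nc_free3_0 hm hm1 hν
      · exact f4m_nc_free3_1 hm hm1 hν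
      · exact f4m_nc_free3_2 hm hm1 hν
      · exact f4m_nc_free3_3 hm hm1 hν
      · exact f4m_nc_free3_4 hm hm1 hν
      · exact f4m_nc_free3_5 hm hm1 hν
      · exact f4m_nc_free3_6 hm hm1 hν
      · exact absurd rfl hij
    · rw [← hp]
      exact f4m_nc_cent3 hm ν

end Cfsg.Agent.F4M
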