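import Mathlib
import Cfsg.Agent.F4M.Roots
import Cfsg.Agent.F4M.ConcOk1
import Cfsg.Agent.F4M.FieldPair
import Cfsg.Agent.Helper8.RF4C

set_option autoImplicit false
set_option linter.unusedSectionVars false
set_option linter.unusedVariables false

/-!
# S2114: the base root group of Suzuki type of `²F₄(q)` (helper9)

`U_2 = {x_S(t, u)}` for the quadruple `(34, 26, 36, 42)`, its centre `f4mW`, and the structure `SzRoot` (`f4m_sz_root`): the torus `H¹` induces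
all scalars on `U_2 ⧸ W` and on `W`.  Everything is transported from the fundamental quadruple by the element of `N¹` of the tail word.
Prefix `f4m_sz_`.
-/

namespace Cfsg.Agent.F4M

open Cfsg Cfsg.Lie Matrix Cfsg.Agent.Helper7.Chev

variable {K : Type*} [Field K] [CharP K 2] {m : ℕ} (hm : ∀ t : K, t ^ 2 ^ (2 * m + 1) = t)

/-- the centre `{x_S(0, u)}` of the base root group `U_2` of Suzuki type, in `²F₄(q)`. -/
noncomputable def f4mW : Subgroup (F4G K m) where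
  carrier := {g | ∃ u : K, (g : GL chevF4.Idx K) = (f4mQ2 K).xS m 0 u}
  mul_mem' := by
    rintro a b ⟨u, hu⟩ ⟨v, hv⟩
    refine ⟨u + v + f4Th K m 0 * 0, ?_⟩
    rw [Subgroup.coe_mul, hu, hv, Cfsg.Agent.Helper8.RF4.xS_mul hm, add_zero]
  one_mem' := ⟨0, by rw [Subgroup.coe_one, Cfsg.Agent.Helper8.RF4.xS_zero]⟩
  inv_mem' := by
    rintro a ⟨u, hu⟩
    refine ⟨u, ?_⟩
    rw [Subgroup.coe_inv, hu, inv_eq_iff_mul_eq_one, Cfsg.Agent.Helper8.RF4.xS_mul hm, add_zero, map_zero, zero_mul,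
      add_zero, add_self_char2, Cfsg.Agent.Helper8.RF4.xS_zero]

theorem mem_f4mW (g : F4G K m) : g ∈ f4mW hm ↔ ∃ u : K, (g : GL chevF4.Idx K) = (f4mQ2 K).xS m 0 u := Iff.rfl

/-- the element of `N¹` which conjugates the fundamental quadruple to `(34, 26, 36, 42)`. -/
noncomputable def f4mSzN (K : Type*) [Field K] [CharP K 2] (m : ℕ) : F4G K m := ⟨f4mNt K false 2, f4mNt_mem false 2⟩

theorem f4m_sz_conj_n (t u : K) :
    ((f4mSzN K m : F4G K m) : GL chevF4.Idx K)⁻¹ * (quadPos K).xS m t u * (f4mSzN K m : F4G K m) = (f4mQ2 K).xS m t u :=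
  f4m_conj_inv_xS (f4mTailWord_lt false 2) (f4mQ2 K) f4m_tab_false.2.1.1 f4m_tab_false.2.1.2.1 f4m_tab_false.2.1.2.2.1
    f4m_tab_false.2.1.2.2.2 t u

/-- the torus element `h(p)` transported to `U_2`. -/
noncomputable def f4mSzH (p : Kˣ × Kˣ) : F4G K m := (f4mSzN K m)⁻¹ * f4mH hm p * f4mSzN K m

theorem f4m_sz_N_mono : ((f4mSzN K m : F4G K m) : GL chevF4.Idx K) ∈ chevF4.monomialSubgroup K :=
  nWordGL_mem good3_F4.toGood2 _

theorem f4m_sz_H_mem (p : Kˣ × Kˣ) : f4mSzH hm p ∈ f4mHs hm := by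
  have hmono : (((f4mSzN K m)⁻¹ : F4G K m) : GL chevF4.Idx K) ∈ chevF4.monomialSubgroup K := by
    rw [Subgroup.coe_inv]
    exact inv_mem f4m_sz_N_mono
  have := f4m_concO1_mono_Hs hm _ hmono (f4mH hm p) ⟨p, rfl⟩
  rwa [inv_inv] at this

theorem f4m_sz_H_surj (h : F4G K m) (hh : h ∈ f4mHs hm) : ∃ p : Kˣ × Kˣ, h = f4mSzH hm p := by
  obtain ⟨p, hp⟩ := f4m_concO1_mono_Hs hm _ f4m_sz_N_mono h hh
  refine ⟨p, ?_⟩
  unfold f4mSzH
  rw [hp]
  group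

/-- the action of the transported torus on `U_2`. -/
theorem f4m_sz_H_conj (s u : Kˣ) (t v : K) :
    ((f4mSzH hm (s, u) : F4G K m) : GL chevF4.Idx K) * (f4mQ2 K).xS m t v * ((f4mSzH hm (s, u) : F4G K m) : GL chevF4.Idx K)⁻¹ =
      (f4mQ2 K).xS m ((f4Th K m (u : K) ^ 2)⁻¹ * (u : K) ^ 2 * (s : K)⁻¹ * t) ((s : K)⁻¹ * (f4Th K m (s : K))⁻¹ * (u : K) * v) := by
  rw [← f4m_sz_conj_n, ← f4m_sz_conj_n, ← gh4_conj_xS hm s u t v]
  unfold f4mSzH
  rw [Subgroup.coe_mul, Subgroup.coe_mul, Subgroup.coe_inv, f4mH_coe]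
  group

/-- the parametrization of `U_2`. -/
noncomputable def f4mSzE [Finite K] (t u : K) : F4G K m :=
  ⟨(f4mQ2 K).xS m t u, f4m_U_le_twisted hm 1 (by norm_num) ((mem_f4mUk_1 hm).mpr ⟨t, u, rfl⟩)⟩

theorem f4mSzE_coe [Finite K] (t u : K) : ((f4mSzE hm t u : F4G K m) : GL chevF4.Idx K) = (f4mQ2 K).xS m t u := rfl

theorem f4m_sz_E_conj [Finite K] (s u : Kˣ) (t v : K) :
    f4mSzH hm (s, u) * f4mSzE hm t v * (f4mSzH hm (s, u))⁻¹ =
      f4mSzE hm ((f4Th K m (u : K) ^ 2)⁻¹ * (u : K) ^ 2 * (s : K)⁻¹ * t) ((s : K)⁻¹ * (f4Th K m (s : K))⁻¹ * (u : K) * v) := by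
  apply Subtype.ext
  rw [Subgroup.coe_mul, Subgroup.coe_mul, Subgroup.coe_inv, f4mSzE_coe, f4mSzE_coe]
  exact f4m_sz_H_conj hm s u t v

theorem f4m_sz_E_mul [Finite K] (t u t' u' : K) :
    f4mSzE hm t u * f4mSzE hm t' u' = f4mSzE hm (t + t') (u + u' + f4Th K m t * t') := by
  apply Subtype.ext
  rw [Subgroup.coe_mul, f4mSzE_coe, f4mSzE_coe, f4mSzE_coe]
  exact Cfsg.Agent.Helper8.RF4.xS_mul hm _ t u t' u'

/-- the root group `U_2` of Suzuki type. -/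
theorem f4m_sz_root [Finite K] : ∃ R : SzRoot K (f4mHs hm) (f4mUs hm 1) (f4mW hm),
    ∀ t u, ((R.e t u : F4G K m) : GL chevF4.Idx K) = (f4mQ2 K).xS m t u := by
  refine ⟨{
    e := f4mSzE hm
    mem := fun t u => (mem_f4mUs hm).mpr ((mem_f4mUk_1 hm).mpr ⟨t, u, rfl⟩)
    surj := ?_
    memW := fun u => ⟨u, rfl⟩
    surjW := ?_
    mul := fun t u t' u' => ⟨_, f4m_sz_E_mul hm t u t' u'⟩
    mulW := ?_
    cenW := ?_
    normW := ?_
    scalV := ?_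
    scalW := ?_ }, fun t u => rfl⟩
  · intro g hg
    obtain ⟨t, u, h⟩ := (mem_f4mUk_1 hm).mp ((mem_f4mUs hm).mp hg)
    exact ⟨t, u, Subtype.ext h⟩
  · intro g hg
    obtain ⟨u, h⟩ := hg
    exact ⟨u, Subtype.ext h⟩
  · intro t u u'
    rw [f4m_sz_E_mul, add_zero, mul_zero, add_zero]
  · intro t u u'
    rw [f4m_sz_E_mul, f4m_sz_E_mul, add_zero, mul_zero, add_zero, zero_add, map_zero, zero_mul, add_zero, add_comm]
  · intro h hh y hy
    obtain ⟨⟨s, u⟩, rfl⟩ := f4m_sz_H_surj hm h hh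
    obtain ⟨v, hv⟩ := hy
    have hy' : y = f4mSzE hm 0 v := Subtype.ext hv
    rw [hy', f4m_sz_E_conj, mul_zero]
    exact ⟨_, rfl⟩
  · intro c hc
    refine ⟨f4mSzH hm ((Units.mk0 c hc)⁻¹, 1), f4m_sz_H_mem hm _, ?_⟩
    intro t u
    refine ⟨(((Units.mk0 c hc)⁻¹ : Kˣ) : K)⁻¹ * (f4Th K m (((Units.mk0 c hc)⁻¹ : Kˣ) : K))⁻¹ * ((1 : Kˣ) : K) * u, ?_⟩
    rw [f4m_sz_E_conj]
    congr 1
    simp
  · intro c hc
    refine ⟨f4mSzH hm (1, Units.mk0 c hc), f4m_sz_H_mem hm _, ?_⟩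
    intro u
    rw [f4m_sz_E_conj, mul_zero]
    congr 1
    simp

end Cfsg.Agent.F4M
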