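import Mathlib
import Cfsg.Agent.F4M.TorusNC
import Cfsg.Agent.F4M.RootComm
import Cfsg.Agent.F4M.ConcOk1
import Cfsg.Agent.F4M.PartI
import Cfsg.Agent.F4M.CommW
import Cfsg.Agent.F4M.ConcIdx
import Cfsg.Agent.F4M.ConcH
import Cfsg.Agent.F4M.TorusSz

set_option autoImplicit false
set_option linter.unusedSectionVars false
set_option linter.unusedVariables false

/-!
# S2114: assembling the data `OctRoots K ²F₄(q) 2` of Part I (helper9)

`f4m_asm_nc` (the condition (NC) in `²F₄(q)`), `f4m_asm_conj` (every root group is an `N¹`-conjugate of `U_1` or `U_2`), and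
`f4m_asm_roots`: the structure `OctRoots` from its pieces.  Prefix `f4m_asm_`.
-/

namespace Cfsg.Agent.F4M

open Cfsg Cfsg.Lie Matrix Cfsg.Agent.Helper7.Chev

variable {K : Type*} [Field K] [CharP K 2] {m : ℕ} (hm : ∀ t : K, t ^ 2 ^ (2 * m + 1) = t)

/-- (NC) in `²F₄(q)`. -/
theorem f4m_asm_nc [Fintype K] (hK : Fintype.card K = 2 ^ (2 * m + 1)) (hm1 : 1 ≤ m) :
    ∀ i < 8, ∀ j < 8, i ≠ j → ∃ h ∈ f4mHs hm,
      (∀ y ∈ f4mUs hm i, h * y = y * h → y = 1) ∧ ∀ y ∈ f4mUs hm j, h * y = y * h := by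
  intro i hi j hj hij
  obtain ⟨p, hfree, hcent⟩ := f4m_nc_GL hm hK hm1 i hi j hj hij
  refine ⟨f4mH hm p, ⟨p, rfl⟩, ?_, ?_⟩
  · intro y hy hc
    apply Subtype.ext
    apply hfree _ ((mem_f4mUs hm).mp hy)
    have := congrArg Subtype.val hc
    rw [Subgroup.coe_mul, Subgroup.coe_mul, f4mH_coe] at this
    exact this
  · intro y hy
    apply Subtype.ext
    have := hcent _ ((mem_f4mUs hm).mp hy)
    rw [Subgroup.coe_mul, Subgroup.coe_mul, f4mH_coe]
    exact this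

/-- the element of `N¹` of a tail word, in `²F₄(q)`. -/
noncomputable def f4mNts (K : Type*) [Field K] [CharP K 2] (m : ℕ) (j : ℕ) : F4G K m :=
  ⟨f4mNt K false j, f4mNt_mem false j⟩

theorem f4m_asm_Nts_norm (j : ℕ) (h : F4G K m) (hh : h ∈ f4mHs hm) :
    f4mNts K m j * h * (f4mNts K m j)⁻¹ ∈ f4mHs hm :=
  f4m_concO1_mono_Hs hm _ (nWordGL_mem good3_F4.toGood2 _) h hh

theorem f4m_asm_Nts_norm' (j : ℕ) (h : F4G K m) (hh : h ∈ f4mHs hm) :
    (f4mNts K m j)⁻¹ * h * f4mNts K m j ∈ f4mHs hm := by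
  have hmono : (((f4mNts K m j)⁻¹ : F4G K m) : GL chevF4.Idx K) ∈ chevF4.monomialSubgroup K := by
    rw [Subgroup.coe_inv]
    exact inv_mem (nWordGL_mem good3_F4.toGood2 _)
  have := f4m_concO1_mono_Hs hm _ hmono h hh
  rwa [inv_inv] at this

/-- membership in a root group through its class. -/
theorem f4m_asm_mem_Us [Finite K] (k : ℕ) (x : F4G K m) :
    x ∈ f4mUs hm k ↔ (f4mNt K false (k + 1)) * (x : GL chevF4.Idx K) * (f4mNt K false (k + 1))⁻¹ ∈ (f4mCls hm false k).X := by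
  rw [mem_f4mUs]
  unfold f4mUk
  rw [mem_f4mRoot]
  constructor
  · rintro ⟨y, hy, e⟩
    rw [e]
    have : f4mNt K false (k + 1) * ((f4mNt K false (k + 1))⁻¹ * y * f4mNt K false (k + 1)) * (f4mNt K false (k + 1))⁻¹ = y := by
      group
    rw [this]
    exact hy
  · intro h
    refine ⟨_, h, ?_⟩
    group

/-- two root groups of the same type are conjugate by an element of `N¹`. -/
theorem f4m_asm_conj_same [Finite K] (i k : ℕ) (hik : i % 2 = k % 2) :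
    f4mUs hm i = (f4mUs hm k).map
      (MulAut.conj ((f4mNts K m (i + 1))⁻¹ * f4mNts K m (k + 1))).toMonoidHom := by
  have hcls : (f4mCls hm false i).X = (f4mCls hm false k).X := by
    unfold f4mCls
    rw [hik]
  ext x
  rw [Subgroup.mem_map]
  constructor
  · intro hx
    rw [f4m_asm_mem_Us] at hx
    set g : F4G K m := (f4mNts K m (i + 1))⁻¹ * f4mNts K m (k + 1) with hg
    refine ⟨g⁻¹ * x * g, ?_, ?_⟩
    · rw [f4m_asm_mem_Us, ← hcls]
      have e : f4mNt K false (k + 1) * ((g⁻¹ * x * g : F4G K m) : GL chevF4.Idx K) * (f4mNt K false (k + 1))⁻¹ =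
          f4mNt K false (i + 1) * (x : GL chevF4.Idx K) * (f4mNt K false (i + 1))⁻¹ := by
        rw [hg]
        simp only [Subgroup.coe_mul, Subgroup.coe_inv, f4mNts]
        group
      rw [e]
      exact hx
    · simp only [MulEquiv.coe_toMonoidHom, MulAut.conj_apply]
      group
  · rintro ⟨y, hy, rfl⟩
    rw [f4m_asm_mem_Us] at hy ⊢
    rw [hcls]
    simp only [MulEquiv.coe_toMonoidHom, MulAut.conj_apply]
    have e : f4mNt K false (i + 1) *
        (((f4mNts K m (i + 1))⁻¹ * f4mNts K m (k + 1) * y * ((f4mNts K m (i + 1))⁻¹ * f4mNts K m (k + 1))⁻¹ : F4G K m) :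
          GL chevF4.Idx K) * (f4mNt K false (i + 1))⁻¹ =
        f4mNt K false (k + 1) * (y : GL chevF4.Idx K) * (f4mNt K false (k + 1))⁻¹ := by
      simp only [Subgroup.coe_mul, Subgroup.coe_inv, f4mNts]
      group
    rw [e]
    exact hy

/-- every root group is an `N¹`-conjugate of `U_1` or of `U_2`. -/
theorem f4m_asm_conj [Finite K] : ∀ i < 8, ∃ g : F4G K m, (∀ h ∈ f4mHs hm, g * h * g⁻¹ ∈ f4mHs hm) ∧
    (f4mUs hm i = (f4mUs hm 0).map (MulAut.conj g).toMonoidHom ∨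
      f4mUs hm i = (f4mUs hm (0 + 1)).map (MulAut.conj g).toMonoidHom) := by
  intro i hi
  rcases Nat.mod_two_eq_zero_or_one i with h0 | h1
  · refine ⟨(f4mNts K m (i + 1))⁻¹ * f4mNts K m (0 + 1), ?_, Or.inl (f4m_asm_conj_same hm i 0 (by omega))⟩
    intro h hh
    have h1 := f4m_asm_Nts_norm hm (0 + 1) h hh
    have h2 := f4m_asm_Nts_norm' hm (i + 1) _ h1
    have e : (f4mNts K m (i + 1))⁻¹ * f4mNts K m (0 + 1) * h * ((f4mNts K m (i + 1))⁻¹ * f4mNts K m (0 + 1))⁻¹ =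
        (f4mNts K m (i + 1))⁻¹ * (f4mNts K m (0 + 1) * h * (f4mNts K m (0 + 1))⁻¹) * f4mNts K m (i + 1) := by group
    rw [e]
    exact h2
  · refine ⟨(f4mNts K m (i + 1))⁻¹ * f4mNts K m (1 + 1), ?_, Or.inr (f4m_asm_conj_same hm i 1 (by omega))⟩
    intro h hh
    have h1 := f4m_asm_Nts_norm hm (1 + 1) h hh
    have h2 := f4m_asm_Nts_norm' hm (i + 1) _ h1
    have e : (f4mNts K m (i + 1))⁻¹ * f4mNts K m (1 + 1) * h * ((f4mNts K m (i + 1))⁻¹ * f4mNts K m (1 + 1))⁻¹ =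
        (f4mNts K m (i + 1))⁻¹ * (f4mNts K m (1 + 1) * h * (f4mNts K m (1 + 1))⁻¹) * f4mNts K m (i + 1) := by group
    rw [e]
    exact h2

/-- the torus normalizes the fixed points of each of the two fundamental classes. -/
theorem f4m_asm_H_cls (k : ℕ) (p : Kˣ × Kˣ) (x : GL chevF4.Idx K) (hx : x ∈ (f4mCls hm false k).X) :
    gh4 K m p * x * (gh4 K m p)⁻¹ ∈ (f4mCls hm false k).X := by
  obtain ⟨s, u⟩ := p
  unfold f4mCls at hx ⊢
  split_ifs at hx ⊢ with hc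
  · rw [f4Cls1_X, mem_XJ1_fix_iff hm] at hx ⊢
    obtain ⟨t, rfl⟩ := hx
    exact ⟨_, gh4_conj_xP hm s u t⟩
  · rw [f4Cls2_X, mem_XJ2_fix_iff hm] at hx ⊢
    obtain ⟨t, v, rfl⟩ := hx
    exact ⟨_, _, gh4_conj_xS hm s u t v⟩

/-- `OctRoots.norm`: the torus normalizes every root group. -/
theorem f4m_asm_norm [Finite K] : ∀ i < 8, ∀ h ∈ f4mHs hm, ∀ y ∈ f4mUs hm i, h * y * h⁻¹ ∈ f4mUs hm i := by
  intro i hi h hh y hy
  rw [f4m_asm_mem_Us] at hy ⊢
  have h1 := f4m_asm_Nts_norm hm (i + 1) h hh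
  obtain ⟨p, hp⟩ := (f4m_concO1_mem_Hs hm _).mp h1
  have h2 := f4m_asm_H_cls hm i p _ hy
  rw [← hp] at h2
  have e : f4mNt K false (i + 1) * ((h * y * h⁻¹ : F4G K m) : GL chevF4.Idx K) * (f4mNt K false (i + 1))⁻¹ =
      ((f4mNts K m (i + 1) * h * (f4mNts K m (i + 1))⁻¹ : F4G K m) : GL chevF4.Idx K) *
        (f4mNt K false (i + 1) * (y : GL chevF4.Idx K) * (f4mNt K false (i + 1))⁻¹) *
        ((f4mNts K m (i + 1) * h * (f4mNts K m (i + 1))⁻¹ : F4G K m) : GL chevF4.Idx K)⁻¹ := by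
    simp only [Subgroup.coe_mul, Subgroup.coe_inv, f4mNts]
    group
  rw [e]
  exact h2

/-- the parametrization of `U_1`. -/
noncomputable def f4mX1 (K : Type*) [Field K] [CharP K 2] (m : ℕ) (t : K) : F4G K m :=
  ⟨xP 33 24 m t, xP_pos_mem_twisted t⟩

theorem f4m_asm_x_add (t u : K) : f4mX1 K m (t + u) = f4mX1 K m t * f4mX1 K m u := by
  apply Subtype.ext
  rw [Subgroup.coe_mul]
  exact (xP_mul t u).symm

theorem f4m_asm_x_surj [Finite K] : ∀ g ∈ f4mUs hm 0, ∃ t, g = f4mX1 K m t := by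
  intro g hg
  rw [mem_f4mUs, mem_f4mUk_0] at hg
  obtain ⟨t, ht⟩ := hg
  exact ⟨t, Subtype.ext ht⟩

theorem f4m_asm_x_scal : ∀ c : K, c ≠ 0 → ∃ h ∈ f4mHs hm, ∀ t, h * f4mX1 K m t * h⁻¹ = f4mX1 K m (c * t) := by
  intro c hc
  refine ⟨f4mH hm (1, (Units.mk0 c hc)⁻¹), ⟨_, rfl⟩, ?_⟩
  intro t
  apply Subtype.ext
  rw [Subgroup.coe_mul, Subgroup.coe_mul, Subgroup.coe_inv, f4mH_coe]
  have := gh4_conj_xP hm (1 : Kˣ) (Units.mk0 c hc)⁻¹ t
  change gh4 K m (1, (Units.mk0 c hc)⁻¹) * xP 33 24 m t * (gh4 K m (1, (Units.mk0 c hc)⁻¹))⁻¹ = xP 33 24 m (c * t)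
  rw [this]
  congr 1
  simp

include hm in
/-- the data of Part I for `²F₄(q)`. -/
theorem f4m_conc_roots [Fintype K] (hK : Fintype.card K = 2 ^ (2 * m + 1)) (hm1 : 1 ≤ m) :
    Nonempty (OctRoots K (F4G K m) 2) := by
  obtain ⟨R, hR⟩ := f4m_sz_root hm
  exact ⟨{
    H := f4mHs hm
    U := f4mUs hm
    W := f4mW hm
    a := 0
    b := 0
    x := f4mX1 K m
    sz := R
    ha := by norm_num
    hb := by norm_num
    H_comm := f4m_concH_comm hm
    H_cop := f4m_concH_cop hm hK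
    norm := f4m_asm_norm hm
    nc := f4m_asm_nc hm hK hm1
    comm := f4m_comm_Us hm
    card := f4m_card_iSup_Us hm
    idx := f4m_conc_idx hm hK
    x_add := f4m_asm_x_add
    x_surj := f4m_asm_x_surj hm
    x_scal := f4m_asm_x_scal hm
    comm_b := f4m_commW_comm_b hm
    W_le := fun g hg => by
      obtain ⟨w, hw⟩ := (mem_f4mW hm g).mp hg
      exact f4m_commW_W_mem hm w g hw
    conj := f4m_asm_conj hm }⟩

end Cfsg.Agent.F4M
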