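import Mathlib
import Cfsg.Agent.F4M.Final
import Cfsg.Agent.F4M.ConcA
import Cfsg.Agent.F4M.ConcBTb
import Cfsg.Agent.F4M.ConcBBr
import Cfsg.Agent.F4M.ConcBOk
import Cfsg.Agent.F4M.ConcOk1
import Cfsg.Agent.F4M.ConcOk2
import Cfsg.Agent.F4M.Rho
import Cfsg.Agent.F4M.RootsAsm

set_option autoImplicit false

/-! S2114: the final concrete assembly (helper9): `OctDat.Ok` for `²F₄(q)` from its pieces, the structure `OctFull`, and the triviality of
the Schur multiplier of `²F₄(q)`, `q = 2^(2m+1) ≥ 8`. -/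

namespace Cfsg.Agent.F4M

open Cfsg Cfsg.Lie Cfsg.Agent.Helper7.Chev Cfsg.Agent.CtRecM Cfsg.Agent.CtRecT

/-- `OctDat.Ok` from the pieces. -/
theorem f4m_conc_ok {K : Type*} [Field K] [CharP K 2] {m : ℕ} (hm : ∀ t : K, t ^ 2 ^ (2 * m + 1) = t) : (f4mD hm).Ok := by
  have oka := f4m_concA_ok hm
  have okb := f4m_concBOk_ok hm
  have hTb := f4m_concBTb_le hm
  obtain ⟨⟨a1, a2, a3, a4⟩, ⟨b1, b2⟩, ⟨c1, c2⟩, ⟨d1, d2, d3, d4, d5⟩, ⟨e1, e2, e3, e4⟩, f1, f2, f3⟩ := f4m_concO1 hm oka okb hTb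
  obtain ⟨⟨g1, g2, g3⟩, g4, g5, g6⟩ := f4m_concO2 hm oka okb hTb
  exact ⟨oka, okb, a1, a2, a3, a4, b1, b2, c1, c2, d1, d2, d3, d4, d5, e1, e2, e3, e4, g1, g2, g3, g4, g5, g6, f1, f2, f3⟩

/-- everything. -/
theorem f4m_conc_full {K : Type*} [Field K] [Fintype K] {m : ℕ} (hm1 : 1 ≤ m) (hK : Fintype.card K = 2 ^ (2 * m + 1)) :
    Cfsg.HasCyclicSchurMultiplier ↥(Cfsg.Lie.twistedF4 K (2 ^ m)) 1 := by
  haveI := charP_two_of_card (by omega) hK
  have hm := pow_card_two hK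
  have h8 : 2 ^ 3 ≤ 2 ^ (2 * m + 1) := Nat.pow_le_pow_right (by norm_num) (by omega)
  have hK4 : 4 < Nat.card K := by rw [Nat.card_eq_fintype_card, hK]; omega
  obtain ⟨R⟩ := f4m_conc_roots hm hK hm1
  have ok := f4m_conc_ok hm
  let F : OctFull K (F4G K m) :=
    { roots := R
      D := f4mD hm
      ok := ok
      hU := f4m_conc_hU hK
      S := f4mSa K m
      hB := fun u t ht h => f4m_concA_hB u t ht h
      hW := fun u t v ht => f4m_concA_hW u t v ht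
      hXa := rfl
      hYa := rfl
      perf_b := f4m_rho_perfect hm hK4
      Tc := f4mTc hm
      Tc_cyc := f4m_rho_Tc_cyclic hm
      sylow_b := fun r hr hr2 Q hQ hQr => f4m_rho_sylow hm hK ok.okb (f4m_concBTb_le hm) r hr hr2 Q hQ hQr }
  have hfin : ∃ s : Finset K, 4 < s.card := ⟨Finset.univ, by rw [Finset.card_univ, hK]; omega⟩
  have h2 : ((2 : ℕ) : K) = 0 := CharP.cast_eq_zero K 2
  exact f4m_final F hfin h2

end Cfsg.Agent.F4M
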