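import Mathlib
import Cfsg.Agent.F4M.ConcDefs
import Cfsg.Agent.F4M.ConcOk1

set_option autoImplicit false
set_option linter.unusedSectionVars false
set_option linter.unusedVariables false

/-!
# S2114 package C4b (helper4): the class `b` (Suzuki type) of `²F₄(q)`

`n_b = f4N2` conjugates `x_r(t)` to `x_{w r}(t)` (characteristic `2`: the sign is `1`), so it exchanges `quadPos.xS t u` and `quadNeg.xS t u`;
`Y_b = {quadNeg.xS t u}`.  `T_b = H¹ ⊓ L_b ≤ {h(1,u)}`: `L_b` centralizes the highest root group `x_47`, on which `h(s,u)` acts through `s`.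
`R1.Ok` for the class `b`: the Bruhat identity `n x n⁻¹ = x' t n x''` comes from helper7's `FCls.rank_one` (`= u h n u'`, `u, u' ∈ U¹`) and the
Levi decomposition `U_J ⊓ L_J = 1` of the ambient parabolic subgroup of type `J = {1, 2}` (`rad_inf_levi`).
-/

namespace Cfsg.Agent.F4M

open Cfsg Cfsg.Lie Cfsg.Agent.Helper7.Chev Cfsg.Agent.CtRecM Cfsg.Agent.CtRecT

variable {K : Type*} [Field K] [CharP K 2] {m : ℕ}

/-! ### Conjugation by `n_b` -/

theorem f4m_concB_word_pos_fast : ∀ r ∈ [25, 27, 28, 30], fastF4.reflWord [2, 1, 2, 1] r = 47 - r := by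
  decide +kernel

theorem f4m_concB_word_pos : ∀ r ∈ [25, 27, 28, 30], (tabOf chevF4).reflWord [2, 1, 2, 1] r = 47 - r :=
  tab_F4 ▸ f4m_concB_word_pos_fast

/-- the signs of the Weyl group action are trivial in characteristic `2`. -/
theorem f4m_concB_eta {w : List ℕ} (hw : ∀ i ∈ w, i < chevF4.rank) {s : ℕ} (hs : s < chevF4.nroots) :
    (((tabOf chevF4).etaWord w s : ℤ) : K) = 1 := by
  have h := etaWord_cast_mul_self (F := K) good3_F4.toGood2 hw hs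
  generalize (((tabOf chevF4).etaWord w s : ℤ) : K) = η at h ⊢
  have h2 : (η + 1) * (η + 1) = 0 := by
    have e : (η + 1) * (η + 1) = η * η + 2 * η + 1 := by ring
    rw [e, h, two_eq_zero', zero_mul, add_zero]
    exact add_self_char2 1
  have h3 : η + 1 = 0 := mul_self_eq_zero.mp h2
  have h4 : η = -1 := eq_neg_of_add_eq_zero_left h3
  rw [h4, neg_eq_self_char2]

/-- `n_b x_r(t) n_b⁻¹ = x_{w r}(t)`. -/
theorem f4m_concB_conj_fx (r r' : Fin 48) (hr' : (tabOf chevF4).reflWord [2, 1, 2, 1] r.val = r'.val) (t : K) :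
    f4N2 K * fx K r t * (f4N2 K)⁻¹ = fx K r' t := by
  unfold f4N2 fx
  rw [nWordGL_conj good3_F4.toGood2 (by decide) r.2 t, f4m_concB_eta (w := [2, 1, 2, 1]) (by decide) r.2, one_mul]
  exact xGL_congr' good3_F4.toGood1 hr' _ _ _

theorem f4m_concB_conj_xQ_neg (s t c d : K) :
    f4N2 K * (quadNeg K).xQ s t c d * (f4N2 K)⁻¹ = (quadPos K).xQ s t c d := by
  have e1 := f4m_concB_conj_fx (K := K) 20 27 (f4_word_J2neg 20 (by decide)) s
  have e2 := f4m_concB_conj_fx (K := K) 22 25 (f4_word_J2neg 22 (by decide)) t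
  have e3 := f4m_concB_conj_fx (K := K) 19 28 (f4_word_J2neg 19 (by decide)) c
  have e4 := f4m_concB_conj_fx (K := K) 17 30 (f4_word_J2neg 17 (by decide)) d
  change f4N2 K * (fx K 20 s * fx K 22 t * fx K 19 c * fx K 17 d) * (f4N2 K)⁻¹ =
    fx K 27 s * fx K 25 t * fx K 28 c * fx K 30 d
  rw [← e1, ← e2, ← e3, ← e4]
  group

theorem f4m_concB_conj_xQ_pos (s t c d : K) :
    f4N2 K * (quadPos K).xQ s t c d * (f4N2 K)⁻¹ = (quadNeg K).xQ s t c d := by
  have e1 := f4m_concB_conj_fx (K := K) 27 20 (f4m_concB_word_pos 27 (by decide)) s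
  have e2 := f4m_concB_conj_fx (K := K) 25 22 (f4m_concB_word_pos 25 (by decide)) t
  have e3 := f4m_concB_conj_fx (K := K) 28 19 (f4m_concB_word_pos 28 (by decide)) c
  have e4 := f4m_concB_conj_fx (K := K) 30 17 (f4m_concB_word_pos 30 (by decide)) d
  change f4N2 K * (fx K 27 s * fx K 25 t * fx K 28 c * fx K 30 d) * (f4N2 K)⁻¹ =
    fx K 20 s * fx K 22 t * fx K 19 c * fx K 17 d
  rw [← e1, ← e2, ← e3, ← e4]
  group

/-- `n_b y_S(t,u) n_b⁻¹ = x_S(t,u)`. -/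
theorem f4m_concB_conj_xS_neg (t u : K) :
    f4N2 K * (quadNeg K).xS m t u * (f4N2 K)⁻¹ = (quadPos K).xS m t u :=
  f4m_concB_conj_xQ_neg _ _ _ _

/-- `n_b x_S(t,u) n_b⁻¹ = y_S(t,u)`. -/
theorem f4m_concB_conj_xS_pos (t u : K) :
    f4N2 K * (quadPos K).xS m t u * (f4N2 K)⁻¹ = (quadNeg K).xS m t u :=
  f4m_concB_conj_xQ_pos _ _ _ _

/-- `n_b⁻¹ y_S(t,u) n_b = x_S(t,u)`. -/
theorem f4m_concB_inv_conj_xS_neg (t u : K) :
    (f4N2 K)⁻¹ * (quadNeg K).xS m t u * f4N2 K = (quadPos K).xS m t u := by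
  rw [← f4m_concB_conj_xS_pos (m := m) t u]
  group

section tau

variable (hm : ∀ t : K, t ^ 2 ^ (2 * m + 1) = t)

include hm in
/-- the field is finite. -/
theorem f4m_concB_finite : Finite K := by
  classical
  have h1 : 1 < 2 ^ (2 * m + 1) := Nat.one_lt_two_pow (by omega)
  have hp : (Polynomial.X ^ 2 ^ (2 * m + 1) - Polynomial.X : Polynomial K) ≠ 0 :=
    FiniteField.X_pow_card_sub_X_ne_zero K h1
  have hfin := Polynomial.finite_setOfPred_isRoot hp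
  have huniv : (Set.univ : Set K) ⊆
      {x | Polynomial.IsRoot (Polynomial.X ^ 2 ^ (2 * m + 1) - Polynomial.X : Polynomial K) x} := by
    intro x _
    simp only [Set.mem_ofPred_eq, Polynomial.IsRoot.def, Polynomial.eval_sub, Polynomial.eval_pow, Polynomial.eval_X]
    rw [hm x, sub_self]
  exact Set.finite_univ_iff.mp (hfin.subset huniv)

/-- membership in `X_b`. -/
theorem f4m_concB_mem_Xb (g : F4G K m) : g ∈ f4mXb hm ↔ ∃ t u : K, (g : GL chevF4.Idx K) = (quadPos K).xS m t u := by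
  unfold f4mXb
  rw [Subgroup.mem_subgroupOf, f4Cls2_X, mem_XJ2_fix_iff hm]

/-- membership in `Y_b`. -/
theorem f4m_concB_mem_Yb (g : F4G K m) : g ∈ f4mYb hm ↔ ∃ t u : K, (g : GL chevF4.Idx K) = (quadNeg K).xS m t u := by
  unfold f4mYb
  rw [Subgroup.mem_map]
  constructor
  · rintro ⟨x, hx, rfl⟩
    obtain ⟨t, u, e⟩ := (f4m_concB_mem_Xb hm x).mp hx
    refine ⟨t, u, ?_⟩
    change ((f4mNb K m * x * (f4mNb K m)⁻¹ : F4G K m) : GL chevF4.Idx K) = _
    rw [Subgroup.coe_mul, Subgroup.coe_mul, Subgroup.coe_inv, e]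
    exact f4m_concB_conj_xS_pos t u
  · rintro ⟨t, u, e⟩
    refine ⟨(f4mNb K m)⁻¹ * g * f4mNb K m, ?_, ?_⟩
    · rw [f4m_concB_mem_Xb]
      refine ⟨t, u, ?_⟩
      rw [Subgroup.coe_mul, Subgroup.coe_mul, Subgroup.coe_inv, e]
      exact f4m_concB_inv_conj_xS_neg t u
    · change f4mNb K m * ((f4mNb K m)⁻¹ * g * f4mNb K m) * (f4mNb K m)⁻¹ = g
      group

/-! ### `T_b ≤ T_c` -/

set_option maxRecDepth 100000 in
theorem f4m_concB_terms_47 : ∀ r ∈ [17, 19, 20, 22, 25, 27, 28, 30], (tabOf chevF4).commTerms r 47 = [] := by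
  rw [tab_F4]
  decide +kernel

set_option maxRecDepth 100000 in
theorem f4m_concB_ne_47 : ∀ r ∈ [17, 19, 20, 22, 25, 27, 28, 30], 47 ≠ r ∧ 47 ≠ chevF4.neg r := by
  decide +kernel

omit hm in
theorem f4m_concB_commute_47 {r : Fin 48} (hr : r.val ∈ [17, 19, 20, 22, 25, 27, 28, 30]) (t u : K) :
    Commute (fx K r t) (fx K 47 u) :=
  fx_commute_of_nil (r := r) (s := 47) (f4m_concB_ne_47 r.val hr).1 (f4m_concB_ne_47 r.val hr).2
    (f4m_concB_terms_47 r.val hr) t u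

omit hm in
theorem f4m_concB_xQ_pos_commute (s t c d u : K) : Commute ((quadPos K).xQ s t c d) (fx K 47 u) := by
  change Commute (fx K 27 s * fx K 25 t * fx K 28 c * fx K 30 d) (fx K 47 u)
  exact (((f4m_concB_commute_47 (r := 27) (by decide) s u).mul_left
    (f4m_concB_commute_47 (r := 25) (by decide) t u)).mul_left
    (f4m_concB_commute_47 (r := 28) (by decide) c u)).mul_left
    (f4m_concB_commute_47 (r := 30) (by decide) d u)

omit hm in
theorem f4m_concB_xQ_neg_commute (s t c d u : K) : Commute ((quadNeg K).xQ s t c d) (fx K 47 u) := by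
  change Commute (fx K 20 s * fx K 22 t * fx K 19 c * fx K 17 d) (fx K 47 u)
  exact (((f4m_concB_commute_47 (r := 20) (by decide) s u).mul_left
    (f4m_concB_commute_47 (r := 22) (by decide) t u)).mul_left
    (f4m_concB_commute_47 (r := 19) (by decide) c u)).mul_left
    (f4m_concB_commute_47 (r := 17) (by decide) d u)

/-- `L_b` centralizes the highest root group. -/
theorem f4m_concB_Lb_commute (g : F4G K m) (hg : g ∈ f4mLb hm) (u : K) :
    (g : GL chevF4.Idx K) * fx K 47 u = fx K 47 u * (g : GL chevF4.Idx K) := by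
  have hle : f4mLb hm ≤ (Subgroup.centralizer {fx K 47 u}).comap (twistedF4 K (2 ^ m)).subtype := by
    unfold f4mLb
    apply sup_le
    · intro x hx
      obtain ⟨t, v, e⟩ := (f4m_concB_mem_Xb hm x).mp hx
      rw [Subgroup.mem_comap, Subgroup.mem_centralizer_iff]
      intro y hy
      rw [Set.mem_singleton_iff] at hy
      rw [hy]
      change fx K 47 u * (x : GL chevF4.Idx K) = (x : GL chevF4.Idx K) * fx K 47 u
      rw [e]
      exact ((f4m_concB_xQ_pos_commute _ _ _ _ u).eq).symm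
    · intro x hx
      obtain ⟨t, v, e⟩ := (f4m_concB_mem_Yb hm x).mp hx
      rw [Subgroup.mem_comap, Subgroup.mem_centralizer_iff]
      intro y hy
      rw [Set.mem_singleton_iff] at hy
      rw [hy]
      change fx K 47 u * (x : GL chevF4.Idx K) = (x : GL chevF4.Idx K) * fx K 47 u
      rw [e]
      exact ((f4m_concB_xQ_neg_commute _ _ _ _ u).eq).symm
  have h := hle hg
  rw [Subgroup.mem_comap, Subgroup.mem_centralizer_iff] at h
  exact (h (fx K 47 u) rfl).symm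

omit hm in
theorem f4m_concB_cartan_47 :
    chevF4.cartan 0 47 = 0 ∧ chevF4.cartan 1 47 = 0 ∧ chevF4.cartan 2 47 = 0 ∧ chevF4.cartan 3 47 = 1 := by
  decide

omit hm in
theorem f4m_concB_chi_47 (c₀ c₁ c₂ c₃ : Kˣ) : f4chi c₀ c₁ c₂ c₃ 47 = c₃ := by
  obtain ⟨h0, h1, h2, h3⟩ := f4m_concB_cartan_47
  unfold f4chi
  change c₀ ^ chevF4.cartan 0 47 * c₁ ^ chevF4.cartan 1 47 * c₂ ^ chevF4.cartan 2 47 *
    c₃ ^ chevF4.cartan 3 47 = _
  rw [h0, h1, h2, h3, zpow_zero, zpow_zero, zpow_zero, one_mul, one_mul, one_mul, zpow_one]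

omit hm in
theorem f4m_concB_fx_inj (r : Fin 48) {s t : K} (h : fx K r s = fx K r t) : s = t := by
  by_contra hne
  have h1 : fx K r (s + t) = 1 := by
    rw [← fx_add, h, fx_add, add_self_char2, fx_zero]
  refine xGL_ne_one (F := K) good3_F4.toGood2 T0_F4 T8_F4 r.2 (t := s + t) ?_ h1
  intro h0
  apply hne
  rw [eq_neg_of_add_eq_zero_left h0, neg_eq_self_char2]

/-- `T_b = H¹ ⊓ L_b` lies in the cyclic torus `{h(1,u)}` (every element of `L_b` centralizes the highest root group, on which `h(s,u)` acts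
through `s`). -/
theorem f4m_concB_Tb_le : f4mTb hm ≤ f4mTc hm := by
  intro g hg
  unfold f4mTb at hg
  rw [Subgroup.mem_inf] at hg
  obtain ⟨⟨s, u⟩, hp⟩ := (f4m_concO1_mem_Hs hm g).mp hg.1
  have hc := f4m_concB_Lb_commute hm g hg.2 1
  rw [hp] at hc
  have h1 : gh4 K m (s, u) * fx K 47 1 * (gh4 K m (s, u))⁻¹ = fx K 47 1 := by
    rw [hc, mul_inv_cancel_right]
  rw [gh4_apply, tF4_conj_fx, f4m_concB_chi_47, mul_one] at h1
  have hs : (s : K) = 1 := f4m_concB_fx_inj 47 h1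
  have hs' : s = 1 := Units.ext hs
  rw [f4m_concO1_mem_Tc]
  exact ⟨u, by rw [hp, hs']⟩

/-! ### The Levi decomposition of the parabolic subgroup of type `J₂` -/

/-- the complement `U_b` of `X_b` is the unipotent radical of the parabolic subgroup of type `J₂`. -/
theorem f4m_concB_rad_eq :
    Subgroup.closure (upGenS chevF4 K (f4Cls2 hm).P) = chevF4.unipotentRadical K f4J2 := by
  rw [f4Cls2_P, upGenS_InJPos, ← unipotentRadical_eq]

omit hm in
theorem f4m_concB_levi_norm : chevF4.leviSubgroup K f4J2 ≤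
    Subgroup.normalizer (chevF4.unipotentRadical K f4J2 : Set (GL chevF4.Idx K)) := by
  refine le_trans ?_ (parabolic_le_normalizer_rad (F := K) good3_F4.toGood2 T0_F4 good3_F4.t3 good3_F4.t4 T6_F4
    T14_F4 f4J2)
  rw [← rad_sup_levi (F := K) good3_F4.toGood2 T0_F4 T9_F4 f4J2]
  exact le_sup_right

omit hm in
theorem f4m_concB_fx_mem_levi {r : Fin 48} (hr : r.val ∈ [17, 19, 20, 22, 25, 27, 28, 30]) (t : K) :
    fx K r t ∈ chevF4.leviSubgroup K f4J2 := by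
  unfold ChevalleyDatum.leviSubgroup
  exact Subgroup.mem_sup_right (Subgroup.subset_closure ⟨r.val, t, (f4_inJ2_iff r.val).mpr hr, fx_coe r t⟩)

omit hm in
theorem f4m_concB_xQ_pos_levi (s t c d : K) : (quadPos K).xQ s t c d ∈ chevF4.leviSubgroup K f4J2 :=
  mul_mem (mul_mem (mul_mem (f4m_concB_fx_mem_levi (r := 27) (by decide) s)
    (f4m_concB_fx_mem_levi (r := 25) (by decide) t)) (f4m_concB_fx_mem_levi (r := 28) (by decide) c))
    (f4m_concB_fx_mem_levi (r := 30) (by decide) d)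

omit hm in
theorem f4m_concB_xQ_neg_levi (s t c d : K) : (quadNeg K).xQ s t c d ∈ chevF4.leviSubgroup K f4J2 :=
  mul_mem (mul_mem (mul_mem (f4m_concB_fx_mem_levi (r := 20) (by decide) s)
    (f4m_concB_fx_mem_levi (r := 22) (by decide) t)) (f4m_concB_fx_mem_levi (r := 19) (by decide) c))
    (f4m_concB_fx_mem_levi (r := 17) (by decide) d)

omit hm in
theorem f4m_concB_N2_levi : f4N2 K ∈ chevF4.leviSubgroup K f4J2 := by
  rw [f4N2_eq (m := 0)]
  exact mul_mem (mul_mem (f4m_concB_xQ_pos_levi _ _ _ _) (f4m_concB_xQ_neg_levi _ _ _ _))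
    (f4m_concB_xQ_pos_levi _ _ _ _)

/-- the rank-one Bruhat identity of the class `b`, in `GL`: helper7's `FCls.rank_one` and `U_J ⊓ L_J = 1`. -/
theorem f4m_concB_bruhat_GL {x : GL chevF4.Idx K} (hx : x ∈ (f4Cls2 hm).X) (hx1 : x ≠ 1) :
    ∃ x' ∈ (f4Cls2 hm).X, ∃ h ∈ chevF4.diagonalSubgroup K ⊓ twistedF4 K (2 ^ m), ∃ x'' ∈ (f4Cls2 hm).X,
      f4N2 K * x * (f4N2 K)⁻¹ = x' * h * f4N2 K * x'' := by
  have : Finite K := f4m_concB_finite hm
  obtain ⟨u, hu, h, hh, u', hu', e⟩ := (f4Cls2 hm).rank_one good3_F4.toGood2 T0_F4 good3_F4.t3 good3_F4.t4 T5_F4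
    T6_F4 T8_F4 T9_F4 (f4Tau_rootAut hm) (twistedF4_le_fixSub hm) (f4_posFix_le hm) (f4_fWList hm) (f4_fbnData hm)
    (by unfold f4ClsList; simp) hx hx1
  rw [f4N2_eq_word hm] at e
  obtain ⟨v, hv, x', hx', rfl⟩ := (f4Cls2 hm).decomp u ⟨hu.1, twistedF4_le_fixSub hm hu.2⟩
  have hu'1 : u' ∈ chevF4.posUnipotent K := (Subgroup.mem_inf.mp hu').1
  have hu'2 : u' ∈ twistedF4 K (2 ^ m) := (Subgroup.mem_inf.mp hu').2
  obtain ⟨v', hv', x'', hx'', e'⟩ := (f4Cls2 hm).decomp u'⁻¹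
    (Subgroup.mem_inf.mpr ⟨inv_mem hu'1, twistedF4_le_fixSub hm (inv_mem hu'2)⟩)
  have eu' : u' = x''⁻¹ * v'⁻¹ := by
    rw [← inv_inv u', e']; group
  rw [f4m_concB_rad_eq] at hv hv'
  have hXL : (f4Cls2 hm).X ≤ chevF4.leviSubgroup K f4J2 := le_trans (f4Cls2 hm).X_le (XJ_le_levi f4J2)
  have hn := f4m_concB_N2_levi (K := K)
  have hhL : h ∈ chevF4.leviSubgroup K f4J2 := by
    unfold ChevalleyDatum.leviSubgroup
    exact Subgroup.mem_sup_left hh.1
  obtain ⟨ℓ, hℓ⟩ : ∃ ℓ : GL chevF4.Idx K, ℓ = x' * h * f4N2 K * x''⁻¹ := ⟨_, rfl⟩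
  have hℓL : ℓ ∈ chevF4.leviSubgroup K f4J2 := by
    rw [hℓ]
    exact mul_mem (mul_mem (mul_mem (hXL hx') hhL) hn) (inv_mem (hXL hx''))
  have hyL : f4N2 K * x * (f4N2 K)⁻¹ ∈ chevF4.leviSubgroup K f4J2 := mul_mem (mul_mem hn (hXL hx)) (inv_mem hn)
  have hconj : ℓ * v'⁻¹ * ℓ⁻¹ ∈ chevF4.unipotentRadical K f4J2 :=
    (Subgroup.mem_set_normalizer_iff.mp (f4m_concB_levi_norm (K := K) hℓL) v'⁻¹).mp (inv_mem hv')
  have hmemR : f4N2 K * x * (f4N2 K)⁻¹ * ℓ⁻¹ ∈ chevF4.unipotentRadical K f4J2 := by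
    have e2 : f4N2 K * x * (f4N2 K)⁻¹ * ℓ⁻¹ = v * (ℓ * v'⁻¹ * ℓ⁻¹) := by
      rw [e, eu', hℓ]; group
    rw [e2]
    exact mul_mem hv hconj
  have hmemL : f4N2 K * x * (f4N2 K)⁻¹ * ℓ⁻¹ ∈ chevF4.leviSubgroup K f4J2 := mul_mem hyL (inv_mem hℓL)
  have h1 : f4N2 K * x * (f4N2 K)⁻¹ * ℓ⁻¹ = 1 := by
    have h2 : f4N2 K * x * (f4N2 K)⁻¹ * ℓ⁻¹ ∈ chevF4.unipotentRadical K f4J2 ⊓ chevF4.leviSubgroup K f4J2 :=
      Subgroup.mem_inf.mpr ⟨hmemR, hmemL⟩
    rwa [rad_inf_levi good3_F4.toGood2 T0_F4 T16_F4 f4J2, Subgroup.mem_bot] at h2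
  refine ⟨x', hx', h, hh, x''⁻¹, inv_mem hx'', ?_⟩
  rw [← hℓ]
  exact mul_inv_eq_one.mp h1

/-! ### The rank-one axioms -/

/-- the rank-one axioms of the class `b` (`bruhat` from helper7's `FCls.rank_one`). -/
theorem f4m_concB_ok : (f4mRb hm).Ok := by
  have hX : ∀ t u : K, (⟨(quadPos K).xS m t u, xS_pos_mem_twisted t u⟩ : F4G K m) ∈ f4mXb hm :=
    fun t u => (f4m_concB_mem_Xb hm _).mpr ⟨t, u, rfl⟩
  have hY : ∀ t u : K, (⟨(quadNeg K).xS m t u, xS_neg_mem_twisted t u⟩ : F4G K m) ∈ f4mYb hm :=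
    fun t u => (f4m_concB_mem_Yb hm _).mpr ⟨t, u, rfl⟩
  have hnL : f4mNb K m ∈ f4mLb hm := by
    rw [← f4mRb_n hm]
    unfold R1.n f4mLb
    exact mul_mem (mul_mem (Subgroup.mem_sup_left (hX 1 0)) (Subgroup.mem_sup_right (hY 0 1)))
      (Subgroup.mem_sup_left (hX 1 1))
  have hH : ∀ (h : GL chevF4.Idx K) (hh : h ∈ chevF4.diagonalSubgroup K ⊓ twistedF4 K (2 ^ m)),
      (⟨h, hh.2⟩ : F4G K m) ∈ f4mHs hm := by
    intro h hh
    rw [f4m_concO1_mem_Hs]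
    have h1 := hh
    rw [f4H_eq_range hm] at h1
    obtain ⟨p, hp⟩ := h1
    exact ⟨p, hp.symm⟩
  refine ⟨hX 1 0, hY 0 1, hX 1 1, ?_, ?_, ?_, ?_, ?_, ?_⟩
  · -- conj_X
    intro x hx
    rw [f4mRb_n]
    change _ ∈ f4mYb hm
    unfold f4mYb
    exact Subgroup.mem_map.mpr ⟨x, hx, rfl⟩
  · -- conj_Y
    intro y hy
    obtain ⟨t, u, e⟩ := (f4m_concB_mem_Yb hm y).mp hy
    rw [f4mRb_n]
    change _ ∈ f4mXb hm
    rw [f4m_concB_mem_Xb]
    refine ⟨t, u, ?_⟩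
    rw [Subgroup.coe_mul, Subgroup.coe_mul, Subgroup.coe_inv, e]
    exact f4m_concB_conj_xS_neg t u
  · -- sq
    rw [f4mRb_n]
    change _ ∈ f4mTb hm
    unfold f4mTb
    refine Subgroup.mem_inf.mpr ⟨?_, mul_mem hnL hnL⟩
    exact hH (f4N2 K * f4N2 K) ⟨f4N2_sq_mem, mul_mem f4N2_mem_twisted f4N2_mem_twisted⟩
  · -- T_le
    intro g hg
    have hg' : g ∈ f4mTb hm := hg
    unfold f4mTb at hg'
    exact (Subgroup.mem_inf.mp hg').2
  · -- n_T
    intro t ht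
    have ht' : t ∈ f4mTb hm := ht
    unfold f4mTb at ht'
    obtain ⟨h1, h2⟩ := Subgroup.mem_inf.mp ht'
    rw [f4mRb_n]
    change _ ∈ f4mTb hm
    unfold f4mTb
    exact Subgroup.mem_inf.mpr ⟨f4m_concO1_mono_Hs hm _ f4m_concO1_Nb_mono t h1,
      mul_mem (mul_mem hnL h2) (inv_mem hnL)⟩
  · -- bruhat
    intro x hx hx1
    have hx' : x ∈ f4mXb hm := hx
    have hxc : (x : GL chevF4.Idx K) ∈ (f4Cls2 hm).X := by
      unfold f4mXb at hx'
      rwa [Subgroup.mem_subgroupOf] at hx'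
    obtain ⟨a, ha, h, hh, b, hb, e⟩ := f4m_concB_bruhat_GL hm hxc (fun h => hx1 (Subtype.ext h))
    have haT := (f4Cls2 hm).X_G1 ha
    have hbT := (f4Cls2 hm).X_G1 hb
    have haX : (⟨a, haT⟩ : F4G K m) ∈ f4mXb hm := by
      unfold f4mXb
      rw [Subgroup.mem_subgroupOf]
      exact ha
    have hbX : (⟨b, hbT⟩ : F4G K m) ∈ f4mXb hm := by
      unfold f4mXb
      rw [Subgroup.mem_subgroupOf]
      exact hb
    have e' : f4mNb K m * x * (f4mNb K m)⁻¹ = ⟨a, haT⟩ * ⟨h, hh.2⟩ * f4mNb K m * ⟨b, hbT⟩ := by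
      apply Subtype.ext
      simp only [Subgroup.coe_mul, Subgroup.coe_inv]
      exact e
    rw [f4mRb_n]
    refine ⟨⟨a, haT⟩, haX, ⟨h, hh.2⟩, ?_, ⟨b, hbT⟩, hbX, e'⟩
    change _ ∈ f4mTb hm
    unfold f4mTb
    refine Subgroup.mem_inf.mpr ⟨hH h hh, ?_⟩
    have e2 : (⟨h, hh.2⟩ : F4G K m) =
        (⟨a, haT⟩ : F4G K m)⁻¹ * (f4mNb K m * x * (f4mNb K m)⁻¹) * (⟨b, hbT⟩ : F4G K m)⁻¹ * (f4mNb K m)⁻¹ := by
      rw [e']; group
    rw [e2]
    unfold f4mLb at hnL ⊢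
    exact mul_mem (mul_mem (mul_mem (inv_mem (Subgroup.mem_sup_left haX))
      (mul_mem (mul_mem hnL (Subgroup.mem_sup_left hx')) (inv_mem hnL))) (inv_mem (Subgroup.mem_sup_left hbX)))
      (inv_mem hnL)

end tau

end Cfsg.Agent.F4M
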