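import Mathlib
import Cfsg.Agent.F4M.R1Cells

set_option autoImplicit false

/-!
# S2114, package B4 (second half): the order of an abstract rank-one group and the conjugacy of its `r`-subgroups into the torus

`|L| = |X| |T| (1 + |X|)`: the cells `X T` and `X T n X` are disjoint and the expressions are unique.  An `r`-subgroup of `L`, for a prime `r`
dividing neither `|X|` nor `1 + |X|`, fixes a point of `L / T`, so it is conjugate into `T`.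
-/

namespace Cfsg.Agent.F4M

variable {G : Type*} [Group G]

section card

variable (R : R1 G) (hR : R.Ok) (hTX : ∀ t ∈ R.T, ∀ x ∈ R.X, t * x * t⁻¹ ∈ R.X)
  (hXT : ∀ x ∈ R.X, x ∈ R.T → x = 1) (hY : ∀ y ∈ R.Y, ∀ x ∈ R.X, ∀ t ∈ R.T, y = x * t → y = 1)

include hR in
theorem f4m_r1_n_mem_L : R.n ∈ R.L :=
  mul_mem (mul_mem (Subgroup.mem_sup_left hR.hx₁) (Subgroup.mem_sup_right hR.hy₀)) (Subgroup.mem_sup_left hR.hx₂)

include hR in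
theorem f4m_r1_ninv_T {t : G} (ht : t ∈ R.T) : R.n⁻¹ * t * R.n ∈ R.T := by
  have e : R.n⁻¹ * t * R.n = (R.n * R.n)⁻¹ * (R.n * t * R.n⁻¹) * (R.n * R.n) := by group
  rw [e]
  exact mul_mem (mul_mem (inv_mem hR.sq) (hR.n_T t ht)) hR.sq

include hR hTX in
theorem f4m_r1_ninv_X {x : G} (hx : x ∈ R.X) : R.n⁻¹ * x * R.n ∈ R.Y := by
  have e : R.n⁻¹ * x * R.n = R.n * ((R.n * R.n)⁻¹ * x * (R.n * R.n)) * R.n⁻¹ := by group
  rw [e]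
  exact hR.conj_X _ (f4m_r1_TX' R hTX hR.sq hx)

include hXT in
/-- uniqueness in the small cell. -/
theorem f4m_r1_small_inj {x t x' t' : G} (hx : x ∈ R.X) (ht : t ∈ R.T) (hx' : x' ∈ R.X) (ht' : t' ∈ R.T)
    (e : x * t = x' * t') : x = x' ∧ t = t' := by
  have e1 : x'⁻¹ * x = t' * t⁻¹ := by
    calc x'⁻¹ * x = x'⁻¹ * (x * t) * t⁻¹ := by group
      _ = x'⁻¹ * (x' * t') * t⁻¹ := by rw [e]
      _ = t' * t⁻¹ := by group
  have h1 : x'⁻¹ * x = 1 := hXT _ (mul_mem (inv_mem hx') hx) (e1 ▸ mul_mem ht' (inv_mem ht))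
  have hxx : x = x' := by
    have := inv_mul_eq_one.mp h1
    exact this.symm
  refine ⟨hxx, ?_⟩
  rw [h1] at e1
  have := mul_inv_eq_one.mp e1.symm
  exact this.symm

include hR hTX hXT hY in
/-- uniqueness in the big cell. -/
theorem f4m_r1_big_inj {x t x₁ x' t' x₁' : G} (hx : x ∈ R.X) (ht : t ∈ R.T) (hx₁ : x₁ ∈ R.X)
    (hx' : x' ∈ R.X) (ht' : t' ∈ R.T) (hx₁' : x₁' ∈ R.X)
    (e : x * t * R.n * x₁ = x' * t' * R.n * x₁') : x = x' ∧ t = t' ∧ x₁ = x₁' := by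
  set xh : G := t'⁻¹ * (x'⁻¹ * x) * t' with hxh
  set s : G := t'⁻¹ * t with hs
  set ξ : G := x₁' * x₁⁻¹ with hξ
  have hxhX : xh ∈ R.X := f4m_r1_TX' R hTX ht' (mul_mem (inv_mem hx') hx)
  have hsT : s ∈ R.T := mul_mem (inv_mem ht') ht
  have hξX : ξ ∈ R.X := mul_mem hx₁' (inv_mem hx₁)
  have e1 : (R.n⁻¹ * xh * R.n) * (R.n⁻¹ * s * R.n) = ξ := by
    have : (R.n⁻¹ * xh * R.n) * (R.n⁻¹ * s * R.n) =
        R.n⁻¹ * t'⁻¹ * x'⁻¹ * (x * t * R.n * x₁) * x₁⁻¹ := by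
      rw [hxh, hs]; group
    rw [this, e, hξ]
    group
  have hyY : R.n⁻¹ * xh * R.n ∈ R.Y := f4m_r1_ninv_X R hR hTX hxhX
  have hs'T : R.n⁻¹ * s * R.n ∈ R.T := f4m_r1_ninv_T R hR hsT
  have e2 : R.n⁻¹ * xh * R.n = ξ * (R.n⁻¹ * s * R.n)⁻¹ := by
    rw [← e1]; group
  have hy1 : R.n⁻¹ * xh * R.n = 1 := hY _ hyY ξ hξX _ (inv_mem hs'T) e2
  have hxh1 : xh = 1 := by
    have : xh = R.n * (R.n⁻¹ * xh * R.n) * R.n⁻¹ := by group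
    rw [this, hy1]; group
  have hxx : x = x' := by
    have h2 : x'⁻¹ * x = t' * xh * t'⁻¹ := by rw [hxh]; group
    rw [hxh1] at h2
    have h3 : x'⁻¹ * x = 1 := by rw [h2]; group
    exact (inv_mul_eq_one.mp h3).symm
  rw [hy1, one_mul] at e1
  have hξ1 : ξ = 1 := hXT ξ hξX (e1 ▸ hs'T)
  have hx₁x : x₁ = x₁' := by
    have := mul_inv_eq_one.mp hξ1
    exact this.symm
  have hs1 : s = 1 := by
    have : s = R.n * (R.n⁻¹ * s * R.n) * R.n⁻¹ := by group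
    rw [this, e1, hξ1]; group
  have htt : t = t' := by
    have := inv_mul_eq_one.mp hs1
    exact this.symm
  exact ⟨hxx, htt, hx₁x⟩

include hR hTX hY in
/-- the two cells are disjoint. -/
theorem f4m_r1_cells_disjoint (hX : ∃ x ∈ R.X, x ≠ 1) {x t x' t' x₁ : G} (hx : x ∈ R.X) (ht : t ∈ R.T)
    (hx' : x' ∈ R.X) (ht' : t' ∈ R.T) (hx₁ : x₁ ∈ R.X) (e : x * t = x' * t' * R.n * x₁) : False := by
  obtain ⟨x₀, hx₀, hx₀1⟩ := hX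
  have hn : R.n = t'⁻¹ * (x'⁻¹ * x) * t * x₁⁻¹ := by
    have : R.n = t'⁻¹ * x'⁻¹ * (x' * t' * R.n * x₁) * x₁⁻¹ := by group
    rw [this, ← e]; group
  have hyY : R.n * x₀ * R.n⁻¹ ∈ R.Y := hR.conj_X x₀ hx₀
  have hyX : R.n * x₀ * R.n⁻¹ ∈ R.X := by
    have e1 : R.n * x₀ * R.n⁻¹ =
        t'⁻¹ * ((x'⁻¹ * x) * (t * (x₁⁻¹ * x₀ * x₁) * t⁻¹) * (x'⁻¹ * x)⁻¹) * t' := by
      have : R.n * x₀ * R.n⁻¹ = (t'⁻¹ * (x'⁻¹ * x) * t * x₁⁻¹) * x₀ * (t'⁻¹ * (x'⁻¹ * x) * t * x₁⁻¹)⁻¹ := by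
        rw [← hn]
      rw [this]; group
    rw [e1]
    have hxx : x'⁻¹ * x ∈ R.X := mul_mem (inv_mem hx') hx
    exact f4m_r1_TX' R hTX ht' (mul_mem (mul_mem hxx
      (hTX t ht _ (mul_mem (mul_mem (inv_mem hx₁) hx₀) hx₁))) (inv_mem hxx))
  have hy1 : R.n * x₀ * R.n⁻¹ = 1 := hY _ hyY _ hyX 1 (one_mem _) (mul_one _).symm
  apply hx₀1
  have : x₀ = R.n⁻¹ * (R.n * x₀ * R.n⁻¹) * R.n := by group
  rw [this, hy1]; group

/-- the parametrization of the two cells. -/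
def f4m_r1_param (hR : R.Ok) : (↥R.X × ↥R.T) ⊕ (↥R.X × ↥R.T × ↥R.X) → ↥R.L
  | Sum.inl p => ⟨p.1 * p.2, mul_mem (Subgroup.mem_sup_left p.1.2) (hR.T_le p.2.2)⟩
  | Sum.inr p => ⟨p.1 * p.2.1 * R.n * p.2.2,
      mul_mem (mul_mem (mul_mem (Subgroup.mem_sup_left p.1.2) (hR.T_le p.2.1.2)) (f4m_r1_n_mem_L R hR))
        (Subgroup.mem_sup_left p.2.2.2)⟩

include hTX hXT hY in
theorem f4m_r1_param_bijective (hX : ∃ x ∈ R.X, x ≠ 1) : Function.Bijective (f4m_r1_param R hR) := by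
  constructor
  · rintro (⟨⟨x, hx⟩, ⟨t, ht⟩⟩ | ⟨⟨x, hx⟩, ⟨t, ht⟩, ⟨x₁, hx₁⟩⟩) (⟨⟨x', hx'⟩, ⟨t', ht'⟩⟩ | ⟨⟨x', hx'⟩, ⟨t', ht'⟩, ⟨x₁', hx₁'⟩⟩) h
    · have h' : x * t = x' * t' := congrArg Subtype.val h
      obtain ⟨rfl, rfl⟩ := f4m_r1_small_inj R hXT hx ht hx' ht' h'
      rfl
    · have h' : x * t = x' * t' * R.n * x₁' := congrArg Subtype.val h
      exact (f4m_r1_cells_disjoint R hR hTX hY hX hx ht hx' ht' hx₁' h').elim
    · have h' : x * t * R.n * x₁ = x' * t' := congrArg Subtype.val h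
      exact (f4m_r1_cells_disjoint R hR hTX hY hX hx' ht' hx ht hx₁ h'.symm).elim
    · have h' : x * t * R.n * x₁ = x' * t' * R.n * x₁' := congrArg Subtype.val h
      obtain ⟨rfl, rfl, rfl⟩ := f4m_r1_big_inj R hR hTX hXT hY hx ht hx₁ hx' ht' hx₁' h'
      rfl
  · rintro ⟨g, hg⟩
    rcases f4m_r1_cells R hR hTX g hg with ⟨x, hx, t, ht, rfl⟩ | ⟨x, hx, t, ht, x₁, hx₁, rfl⟩
    · exact ⟨Sum.inl (⟨x, hx⟩, ⟨t, ht⟩), rfl⟩
    · exact ⟨Sum.inr (⟨x, hx⟩, ⟨t, ht⟩, ⟨x₁, hx₁⟩), rfl⟩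

end card

/-- the two cells are disjoint and the expressions are unique: `|L| = |X| |T| (1 + |X|)`. -/
theorem f4m_r1_card [Finite G] (R : R1 G) (hR : R.Ok) (hTX : ∀ t ∈ R.T, ∀ x ∈ R.X, t * x * t⁻¹ ∈ R.X)
    (hXT : ∀ x ∈ R.X, x ∈ R.T → x = 1) (hY : ∀ y ∈ R.Y, ∀ x ∈ R.X, ∀ t ∈ R.T, y = x * t → y = 1) (hX : ∃ x ∈ R.X, x ≠ 1) :
    Nat.card R.L = Nat.card R.X * Nat.card R.T * (1 + Nat.card R.X) := by
  have hb := f4m_r1_param_bijective R hR hTX hXT hY hX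
  rw [← Nat.card_congr (Equiv.ofBijective _ hb), Nat.card_sum, Nat.card_prod, Nat.card_prod, Nat.card_prod]
  ring

/-- an `r`-subgroup of `L`, `r` prime to `|X|` and to `1 + |X|`, is conjugate into `T`. -/
theorem f4m_r1_sylow_conj [Finite G] (R : R1 G) (hR : R.Ok) (hTX : ∀ t ∈ R.T, ∀ x ∈ R.X, t * x * t⁻¹ ∈ R.X)
    (hXT : ∀ x ∈ R.X, x ∈ R.T → x = 1) (hY : ∀ y ∈ R.Y, ∀ x ∈ R.X, ∀ t ∈ R.T, y = x * t → y = 1) (hX : ∃ x ∈ R.X, x ≠ 1)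
    (r : ℕ) [Fact r.Prime] (h1 : ¬ r ∣ Nat.card R.X) (h2 : ¬ r ∣ 1 + Nat.card R.X)
    (Q : Subgroup G) (hQ : Q ≤ R.L) (hQr : IsPGroup r Q) : ∃ g ∈ R.L, ∀ x ∈ Q, g⁻¹ * x * g ∈ R.T := by
  have hr : r.Prime := Fact.out
  set T' : Subgroup ↥R.L := R.T.subgroupOf R.L with hT'
  set Q' : Subgroup ↥R.L := Q.subgroupOf R.L with hQ'
  have hcardT : Nat.card T' = Nat.card R.T := Nat.card_congr (Subgroup.subgroupOfEquivOfLe hR.T_le).toEquiv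
  have hidx : T'.index = Nat.card R.X * (1 + Nat.card R.X) := by
    have h3 := T'.index_mul_card
    rw [hcardT, f4m_r1_card R hR hTX hXT hY hX] at h3
    have hpos : 0 < Nat.card R.T := Nat.card_pos
    have : T'.index * Nat.card R.T = (Nat.card R.X * (1 + Nat.card R.X)) * Nat.card R.T := by rw [h3]; ring
    exact Nat.eq_of_mul_eq_mul_right hpos this
  have hndvd : ¬ r ∣ Nat.card (↥R.L ⧸ T') := by
    rw [← Subgroup.index_eq_card, hidx]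
    intro h
    rcases (Nat.Prime.dvd_mul hr).mp h with h | h
    · exact h1 h
    · exact h2 h
  have hQ'r : IsPGroup r Q' := by
    have : IsPGroup r (Q.subgroupOf R.L) := hQr.comap_subtype
    exact this
  obtain ⟨a, ha⟩ := hQ'r.nonempty_fixed_point_of_prime_not_dvd_card (↥R.L ⧸ T') hndvd
  induction a using QuotientGroup.induction_on with
  | H g =>
    refine ⟨g, g.2, ?_⟩
    intro x hx
    have hxL : x ∈ R.L := hQ hx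
    have hx' : (⟨x, hxL⟩ : ↥R.L) ∈ Q' := Subgroup.mem_subgroupOf.mpr hx
    have hfix := ha ⟨⟨x⁻¹, inv_mem hxL⟩, inv_mem hx'⟩
    have hfix' : ((⟨x⁻¹, inv_mem hxL⟩ * g : ↥R.L) : ↥R.L ⧸ T') = (g : ↥R.L ⧸ T') := hfix
    rw [QuotientGroup.eq] at hfix'
    have h4 := Subgroup.mem_subgroupOf.mp hfix'
    have e : g.1⁻¹ * x * g.1 = ((⟨x⁻¹, inv_mem hxL⟩ * g : ↥R.L)⁻¹ * g : ↥R.L).1 := by
      simp only [Subgroup.coe_mul, Subgroup.coe_inv, mul_inv_rev, inv_inv]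
    rw [e]
    exact h4

end Cfsg.Agent.F4M
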