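import Mathlib
import Cfsg.Agent.F4M.RhoBlk
import Cfsg.Agent.F4M.RhoPerf

set_option autoImplicit false
set_option linter.unusedSectionVars false
set_option linter.unusedVariables false

/-!
# S2114: `T_b = H¹ ⊓ L_b` lies in the cyclic torus `T_c = {h(1,u)}`

Every root element `x_r(t)`, `r` one of the eight roots of the class `b`, commutes with the highest root element `x_47(1)`; hence so does
every element of `L_b`.  The torus element `h(s,u)` acts on `x_47` through `s`.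
-/

namespace Cfsg.Agent.F4M

open Cfsg Cfsg.Lie Cfsg.Agent.Helper7 Cfsg.Agent.Helper7.Chev Cfsg.Agent.CtRecM Cfsg.Agent.CtRecT

variable {K : Type*} [Field K] [CharP K 2] {m : ℕ} (hm : ∀ t : K, t ^ 2 ^ (2 * m + 1) = t)

set_option maxRecDepth 100000 in
theorem f4m_rho_top_nil : ∀ r ∈ f4m_rho_R8, (tabOf chevF4).commTerms 47 r = [] := by
  rw [tab_F4]
  decide +kernel

set_option maxRecDepth 100000 in
theorem f4m_rho_top_ne : ∀ r ∈ f4m_rho_R8, r ≠ 47 ∧ r ≠ chevF4.neg 47 := by decide +kernel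

theorem f4m_rho_top_comm {r : Fin 48} (hr : r.val ∈ f4m_rho_R8) (t u : K) :
    Commute (fx K 47 t) (fx K r u) :=
  fx_commute_of_nil (r := 47) (s := r) (f4m_rho_top_ne r.val hr).1 (f4m_rho_top_ne r.val hr).2
    (f4m_rho_top_nil r.val hr) t u

/-- the centralizer of the highest root element. -/
def f4m_rho_C (K : Type*) [Field K] : Subgroup (GL chevF4.Idx K) :=
  Subgroup.centralizer {fx K 47 1}

theorem f4m_rho_mem_C {g : GL chevF4.Idx K} : g ∈ f4m_rho_C K ↔ fx K 47 1 * g = g * fx K 47 1 := by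
  unfold f4m_rho_C
  rw [Subgroup.mem_centralizer_iff]
  constructor
  · intro h
    exact h _ rfl
  · rintro h _ rfl
    exact h

theorem f4m_rho_fx_mem_C {r : Fin 48} (hr : r.val ∈ f4m_rho_R8) (u : K) : fx K r u ∈ f4m_rho_C K :=
  f4m_rho_mem_C.mpr (f4m_rho_top_comm hr 1 u).eq

theorem f4m_rho_xQ_pos_mem_C (s t c d : K) : (quadPos K).xQ s t c d ∈ f4m_rho_C K := by
  unfold B2Quad.xQ
  refine mul_mem (mul_mem (mul_mem ?_ ?_) ?_) ?_
  · exact f4m_rho_fx_mem_C (r := 27) (by decide) _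
  · exact f4m_rho_fx_mem_C (r := 25) (by decide) _
  · exact f4m_rho_fx_mem_C (r := 28) (by decide) _
  · exact f4m_rho_fx_mem_C (r := 30) (by decide) _

theorem f4m_rho_xQ_neg_mem_C (s t c d : K) : (quadNeg K).xQ s t c d ∈ f4m_rho_C K := by
  unfold B2Quad.xQ
  refine mul_mem (mul_mem (mul_mem ?_ ?_) ?_) ?_
  · exact f4m_rho_fx_mem_C (r := 20) (by decide) _
  · exact f4m_rho_fx_mem_C (r := 22) (by decide) _
  · exact f4m_rho_fx_mem_C (r := 19) (by decide) _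
  · exact f4m_rho_fx_mem_C (r := 17) (by decide) _

theorem f4m_rho_N2_mem_C : f4N2 K ∈ f4m_rho_C K := by
  rw [f4N2_eq (m := 0)]
  exact mul_mem (mul_mem (f4m_rho_xQ_pos_mem_C _ _ _ _) (f4m_rho_xQ_neg_mem_C _ _ _ _))
    (f4m_rho_xQ_pos_mem_C _ _ _ _)

/-- every element of `L_b` centralizes the highest root element. -/
theorem f4m_rho_L_mem_C {g : F4G K m} (hg : g ∈ (f4mRb hm).L) :
    ((g : F4G K m) : GL chevF4.Idx K) ∈ f4m_rho_C K := by
  have hle : (f4mRb hm).L ≤ (f4m_rho_C K).comap (twistedF4 K (2 ^ m)).subtype := by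
    refine sup_le ?_ ?_
    · intro x hx
      obtain ⟨t, u, rfl⟩ := f4m_rho_mem_Xb hm hx
      exact f4m_rho_xQ_pos_mem_C _ _ _ _
    · intro y hy
      obtain ⟨t, u, rfl⟩ := f4m_rho_mem_Yb hm hy
      change f4N2 K * (quadPos K).xS m t u * (f4N2 K)⁻¹ ∈ f4m_rho_C K
      exact mul_mem (mul_mem f4m_rho_N2_mem_C (f4m_rho_xQ_pos_mem_C _ _ _ _)) (inv_mem f4m_rho_N2_mem_C)
  exact hle hg

theorem f4m_rho_cartan_47 :
    chevF4.cartan 0 47 = 0 ∧ chevF4.cartan 1 47 = 0 ∧ chevF4.cartan 2 47 = 0 ∧ chevF4.cartan 3 47 = 1 := by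
  decide

theorem f4m_rho_chi_47 (c₀ c₁ c₂ c₃ : Kˣ) : f4chi c₀ c₁ c₂ c₃ 47 = c₃ := by
  obtain ⟨h0, h1, h2, h3⟩ := f4m_rho_cartan_47
  unfold f4chi
  change c₀ ^ chevF4.cartan 0 47 * c₁ ^ chevF4.cartan 1 47 * c₂ ^ chevF4.cartan 2 47 *
    c₃ ^ chevF4.cartan 3 47 = _
  rw [h0, h1, h2, h3, zpow_zero, zpow_zero, zpow_zero, zpow_one, one_mul, one_mul, one_mul]

theorem f4m_rho_entry_47 : fastF4.entry 47 (Sum.inl 0) (Sum.inr 0) = [(1, 1)] := by decide +kernel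

theorem f4m_rho_fx47_injective {s t : K} (h : fx K 47 s = fx K 47 t) : s = t := by
  have h1 := congrArg (fun g : GL chevF4.Idx K => (g : Matrix chevF4.Idx chevF4.Idx K)
    (Sum.inl ⟨0, by decide⟩) (Sum.inr ⟨0, by decide⟩)) h
  simp only [f4m_rho_x_apply] at h1
  have e : fastF4.entry (47 : Fin 48).val (raw chevF4 (Sum.inl ⟨0, by decide⟩))
      (raw chevF4 (Sum.inr ⟨0, by decide⟩)) = [(1, 1)] := f4m_rho_entry_47
  rw [e] at h1
  simpa [evalL] using h1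

/-- `T_b = H¹ ⊓ L_b` lies in the cyclic torus `{h(1,u)}`. -/
theorem f4m_rho_Tb_le : f4mTb hm ≤ f4mTc hm := by
  intro h hh
  obtain ⟨hH, hL⟩ := Subgroup.mem_inf.mp hh
  obtain ⟨⟨s, u⟩, rfl⟩ : ∃ p, f4mH hm p = h := hH
  have hC : gh4 K m (s, u) ∈ f4m_rho_C K := f4m_rho_L_mem_C hm hL
  have h1 : gh4 K m (s, u) * fx K 47 1 * (gh4 K m (s, u))⁻¹ = fx K 47 1 := by
    rw [← f4m_rho_mem_C.mp hC, mul_inv_cancel_right]
  rw [gh4_apply, tF4_conj_fx, f4m_rho_chi_47, mul_one] at h1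
  have hs : s = 1 := Units.ext (f4m_rho_fx47_injective h1)
  rw [hs]
  exact ⟨(1, u), Subgroup.mem_prod.mpr ⟨Subgroup.mem_bot.mpr rfl, Subgroup.mem_top _⟩, rfl⟩

end Cfsg.Agent.F4M
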